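import Mathlib
import Cfsg.Agent.Lib.SL2Mat
import Cfsg.Agent.ClosedTwo.Elem
import Cfsg.Agent.Cit.ParabSL2
import Cfsg.Agent.S0215
import Cfsg.Agent.ClosedTwo.Torus
import Cfsg.Agent.Nodes.Reps
import Cfsg.Agent.Nodes.RGDChev
import Cfsg.Agent.ClosedTwo.Row
import Cfsg.Agent.OddHalf.LongSL.Tw_m3
import Cfsg.Agent.OddHalf.Small.ChevCent
import Cfsg.Agent.S1035
import Cfsg.Agent.S1059
import Cfsg.Agent.S1062
import Cfsg.Agent.S1063
import Cfsg.Agent.S1064
import Cfsg.Agent.S1065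
import Cfsg.Agent.ChevalleyStructure.TwD4Card
import Cfsg.Agent.S1067
import Cfsg.Agent.S1106
import Cfsg.Agent.ChevFast.E6
import Cfsg.Agent.ChevFast.E7
import Cfsg.Agent.ChevFast.E8
import Cfsg.Agent.ChevFast.F4
import Cfsg.Agent.FastGrp
import Cfsg.Agent.Prune
set_option linter.all false

section
prune_inst 0x7ffdfcf8bfb8fddfdfff7e7ffed9dffef9f01fffa6dff9437fe0e1ff0bdf230c69e5fbad0de050ff0ed7e09410b87853f97eca3fea6bdc7ffffd5ff45ffbee1ff5f7bd0851d6883e0fbc0fff0bf07f8e7f3fffffffffffffffffffffffffffbeffffffffffff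

-- part: ClosedExc/Frame
section
prune_inst 0x2030004000000000000012000010008c0000020028800080a00f020008016000002900080004120022200000000008100000500000000000000000000000000028100001000000000006000000000000000000000000000000000000000000000000000
set_option linter.all false
open scoped Cfsg.Agent.FastGrp

-- part: ClosedExc/SLFacts
section
/-!
# Elements of 2-power order in `SL(2,q)`, `q` odd (helper50, S1252)

* `conj_sq` : all `v` with `v * v = -1` are conjugate;
* `exists_inverting` : an element of 2-power order different from `1`, `-1` is inverted by some `y` with `y * y = -1`;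
* `exists_pow_sq` : and has a power `v` with `v * v = -1`;
* `eq_of_central` : an element commuting with everything up to sign is `1` or `-1`.
-/

set_option autoImplicit false
set_option linter.unusedSectionVars false

namespace Cfsg.Agent.ClosedExc.SL

open Matrix Cfsg.Agent.Lib.SL2Mat

variable {F : Type*} [Field F]

local notation "SL2" => Matrix.SpecialLinearGroup (Fin 2) F

theorem ent_neg (x : SL2) (i j : Fin 2) : ent (-x) i j = -ent x i j := rfl

/-- trace zero -/
theorem sq_iff (h2 : (2 : F) ≠ 0) (v : SL2) : v * v = -1 ↔ ent v 0 0 + ent v 1 1 = 0 := by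
  have hd := det_eq v
  constructor
  · intro h
    have h00 : ent (v * v) 0 0 = -1 := by rw [h, ent_neg, ent_one_00]
    have h01 : ent (v * v) 0 1 = 0 := by rw [h, ent_neg, ent_one_01, neg_zero]
    have h10 : ent (v * v) 1 0 = 0 := by rw [h, ent_neg, ent_one_10, neg_zero]
    have h11 : ent (v * v) 1 1 = -1 := by rw [h, ent_neg, ent_one_11]
    rw [ent_mul] at h00 h01 h10 h11
    by_contra ht
    have e1 : ent v 0 1 = 0 := by
      have : ent v 0 1 * (ent v 0 0 + ent v 1 1) = 0 := by linear_combination h01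
      exact (mul_eq_zero.1 this).resolve_right ht
    have e2 : ent v 1 0 = 0 := by
      have : ent v 1 0 * (ent v 0 0 + ent v 1 1) = 0 := by linear_combination h10
      exact (mul_eq_zero.1 this).resolve_right ht
    rw [e1, e2] at h00 h11
    rw [e1, e2] at hd
    have e3 : (ent v 0 0 + ent v 1 1) * (ent v 0 0 + ent v 1 1) = 0 := by
      linear_combination h00 + h11 + 2 * hd
    exact ht (mul_self_eq_zero.1 e3)
  · intro ht
    have e : ent v 1 1 = - ent v 0 0 := by linear_combination ht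
    refine ext_ent ?_ ?_ ?_ ?_ <;> rw [ent_mul, ent_neg]
    · rw [ent_one_00]; rw [e] at hd; linear_combination -hd
    · rw [ent_one_01, e]; ring
    · rw [ent_one_10, e]; ring
    · rw [ent_one_11]; rw [e] at hd ⊢; linear_combination -hd

section fin

variable [Fintype F] (hF : Odd (Fintype.card F))

include hF

theorem two_ne : (2 : F) ≠ 0 := by
  intro h
  obtain ⟨k, hk⟩ := hF
  have h1 : ((Fintype.card F : ℕ) : F) = 0 := by
    exact FiniteField.cast_card_eq_zero F
  rw [hk] at h1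
  push_cast at h1
  rw [h] at h1
  simp only [_root_.MulZeroClass.zero_mul, _root_.zero_add, _root_.one_ne_zero] at h1

/-- `a X² + b Y² = c` is solvable -/
theorem exists_quad (a b c : F) (ha : a ≠ 0) (hb : b ≠ 0) : ∃ x y : F, a * x ^ 2 + b * y ^ 2 = c := by
  obtain ⟨x, y, h⟩ := FiniteField.exists_root_sum_quadratic (R := F)
    (f := Polynomial.C a * Polynomial.X ^ 2) (g := Polynomial.C b * Polynomial.X ^ 2 - Polynomial.C c)
    (Polynomial.degree_C_mul_X_pow 2 ha)
    (by
      rw [Polynomial.degree_sub_eq_left_of_degree_lt, Polynomial.degree_C_mul_X_pow 2 hb]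
      · rfl
      · rw [Polynomial.degree_C_mul_X_pow 2 hb]
        exact lt_of_le_of_lt Polynomial.degree_C_le (by norm_num))
    (Nat.odd_iff.1 hF)
  refine ⟨x, y, ?_⟩
  simp only [Polynomial.eval_mul, Polynomial.eval_C, Polynomial.eval_pow, Polynomial.eval_X,
    Polynomial.eval_sub] at h
  linear_combination h

/-- all elements with square `-1` are conjugate to the standard one -/
theorem conj_std {v : SL2} (hv : v * v = -1) : ∃ g : SL2, v * g = g * wm (-1 : F) (by simp) := by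
  have h2 := two_ne hF
  have ht := (sq_iff h2 v).1 hv
  have hd := det_eq v
  have e : ent v 1 1 = - ent v 0 0 := by linear_combination ht
  -- a vector x with det (x | v x) = 1
  have key : ∃ x y : F, x * (ent v 1 0 * x + ent v 1 1 * y) - (ent v 0 0 * x + ent v 0 1 * y) * y = 1 := by
    by_cases hc : ent v 1 0 = 0
    · by_cases hb : ent v 0 1 = 0
      · rw [hc, hb, e] at hd ⊢
        have ha : ent v 0 0 ≠ 0 := by
          rintro h; rw [h] at hd; simp at hd
        refine ⟨1, -1 / (2 * ent v 0 0), ?_⟩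
        field_simp
        ring
      · obtain ⟨X, Y, h⟩ := exists_quad hF (-1 : F) (-1) (ent v 0 1) (by simp) (by simp)
        -- -b Q = (b y + a x)² + x² (-a² - bc) ; Q = 1
        refine ⟨X, (Y - ent v 0 0 * X) / ent v 0 1, ?_⟩
        rw [e] at hd ⊢
        rw [hc] at hd ⊢
        field_simp
        have hd' : ent v 0 0 * ent v 0 0 = -1 := by linear_combination -hd
        linear_combination h + X ^ 2 * hd'
    · obtain ⟨X, Y, h⟩ := exists_quad hF (1 : F) 1 (ent v 1 0) (by simp) (by simp)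
      refine ⟨(X + ent v 0 0 * Y) / ent v 1 0, Y, ?_⟩
      rw [e] at hd ⊢
      field_simp
      linear_combination h + Y ^ 2 * hd
  obtain ⟨x, y, hxy⟩ := key
  refine ⟨mk x (ent v 0 0 * x + ent v 0 1 * y) y (ent v 1 0 * x + ent v 1 1 * y) (by linear_combination hxy), ?_⟩
  have hvv00 : ent v 0 0 * ent v 0 0 + ent v 0 1 * ent v 1 0 = -1 := by
    rw [e] at hd; linear_combination -hd
  refine ext_ent ?_ ?_ ?_ ?_ <;> simp only [ent_mul, mk_00, mk_01, mk_10, mk_11, wm_00, wm_01, wm_10, wm_11]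
  · simp
  · rw [e]; linear_combination x * hvv00
  · simp
  · rw [e]; linear_combination y * hvv00

theorem conj_sq {v w : SL2} (hv : v * v = -1) (hw : w * w = -1) : ∃ g : SL2, g * v * g⁻¹ = w := by
  obtain ⟨a, ha⟩ := conj_std hF hv
  obtain ⟨b, hb⟩ := conj_std hF hw
  refine ⟨b * a⁻¹, ?_⟩
  have e1 : a⁻¹ * v * a = wm (-1 : F) (by simp) := by rw [mul_assoc, ha, inv_mul_cancel_left]
  have e2 : w = b * wm (-1 : F) (by simp) * b⁻¹ := by rw [← hb, mul_inv_cancel_right]
  rw [e2, ← e1]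
  group

/-- an element with trace `2` -/
theorem pow_of_trace {w : SL2} (ht : ent w 0 0 + ent w 1 1 = 2) (n : ℕ) :
    ent (w ^ n) 0 0 = 1 + n * (ent w 0 0 - 1) ∧ ent (w ^ n) 0 1 = n * ent w 0 1 ∧
      ent (w ^ n) 1 0 = n * ent w 1 0 ∧ ent (w ^ n) 1 1 = 1 + n * (ent w 1 1 - 1) := by
  have hd := det_eq w
  have e : ent w 1 1 = 2 - ent w 0 0 := by linear_combination ht
  rw [e] at hd
  induction n with
  | zero => simp
  | succ n ih =>
    obtain ⟨h1, h2, h3, h4⟩ := ih
    rw [e] at h4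
    refine ⟨?_, ?_, ?_, ?_⟩ <;> rw [pow_succ, ent_mul]
    · rw [h1, h2]; push_cast; linear_combination -(n : F) * hd
    · rw [h1, h2, e]; push_cast; ring
    · rw [h3, h4]; push_cast; ring
    · rw [h3, h4, e]; push_cast; linear_combination -(n : F) * hd

theorem pow_card_of_trace {w : SL2} (ht : ent w 0 0 + ent w 1 1 = 2) : w ^ Fintype.card F = 1 := by
  obtain ⟨h1, h2, h3, h4⟩ := pow_of_trace hF ht (Fintype.card F)
  have h0 : ((Fintype.card F : ℕ) : F) = 0 := FiniteField.cast_card_eq_zero F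
  rw [h0] at h1 h2 h3 h4
  refine ext_ent ?_ ?_ ?_ ?_
  · rw [h1, ent_one_00]; ring
  · rw [h2, ent_one_01]; ring
  · rw [h3, ent_one_10]; ring
  · rw [h4, ent_one_11]; ring

theorem eq_of_sq {w : SL2} (h : w * w = 1) : w = 1 ∨ w = -1 := by
  have h2 := two_ne hF
  have hd := det_eq w
  have h00 : ent (w * w) 0 0 = 1 := by rw [h, ent_one_00]
  have h01 : ent (w * w) 0 1 = 0 := by rw [h, ent_one_01]
  have h10 : ent (w * w) 1 0 = 0 := by rw [h, ent_one_10]
  have h11 : ent (w * w) 1 1 = 1 := by rw [h, ent_one_11]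
  rw [ent_mul] at h00 h01 h10 h11
  have ht : ent w 0 0 + ent w 1 1 ≠ 0 := by
    intro ht
    have := (sq_iff h2 w).2 ht
    rw [h] at this
    have h3 : ent (1 : SL2) 0 0 = ent (-1 : SL2) 0 0 := congrArg (fun x => ent x 0 0) this
    rw [ent_neg, ent_one_00] at h3
    exact h2 (by linear_combination h3)
  have e1 : ent w 0 1 = 0 := by
    have : ent w 0 1 * (ent w 0 0 + ent w 1 1) = 0 := by linear_combination h01
    exact (mul_eq_zero.1 this).resolve_right ht
  have e2 : ent w 1 0 = 0 := by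
    have : ent w 1 0 * (ent w 0 0 + ent w 1 1) = 0 := by linear_combination h10
    exact (mul_eq_zero.1 this).resolve_right ht
  rw [e1] at h00 hd
  have e3 : ent w 0 0 = ent w 1 1 := by
    have e4 : (ent w 0 0 - ent w 1 1) * (ent w 0 0 + ent w 1 1) = 0 := by
      rw [e2] at h00 h11; rw [e1] at h11; linear_combination h00 - h11
    have := (mul_eq_zero.1 e4).resolve_right ht
    linear_combination this
  have e5 : (ent w 0 0 - 1) * (ent w 0 0 + 1) = 0 := by linear_combination h00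
  rcases mul_eq_zero.1 e5 with h5 | h5
  · left
    refine ext_ent ?_ e1 e2 ?_
    · rw [ent_one_00]; linear_combination h5
    · rw [ent_one_11, ← e3]; linear_combination h5
  · right
    refine ext_ent ?_ ?_ ?_ ?_ <;> rw [ent_neg]
    · rw [ent_one_00]; linear_combination h5
    · rw [ent_one_01, e1, neg_zero]
    · rw [ent_one_10, e2, neg_zero]
    · rw [ent_one_11, ← e3]; linear_combination h5

/-- the trace of an element of 2-power order -/
theorem trace_ne {w : SL2} {k : ℕ} (hw : w ^ 2 ^ k = 1) (h1 : w ≠ 1) (h2 : w ≠ -1) :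
    (ent w 0 0 + ent w 1 1) ^ 2 ≠ 4 := by
  intro h
  have hcop : Nat.Coprime (Fintype.card F) (2 ^ k) := Nat.Coprime.pow_right k (Nat.coprime_two_right.2 hF)
  have h3 : (ent w 0 0 + ent w 1 1 - 2) * (ent w 0 0 + ent w 1 1 + 2) = 0 := by linear_combination h
  rcases mul_eq_zero.1 h3 with h3 | h3
  · have h4 := pow_card_of_trace hF (w := w) (by linear_combination h3)
    have h5 := pow_gcd_eq_one.2 ⟨h4, hw⟩
    rw [Nat.Coprime] at hcop
    rw [hcop, pow_one] at h5
    exact h1 h5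
  · have h4 := pow_card_of_trace hF (w := -w) (by rw [ent_neg, ent_neg]; linear_combination -h3)
    have h5 : w ^ Fintype.card F = -1 := by
      rw [hF.neg_pow] at h4
      rw [← h4, neg_neg]
    have h6 : w ^ (Fintype.card F * 2) = 1 := by rw [pow_mul, h5]; simp only [_root_.even_two, _root_.Even.neg_pow, _root_.one_pow]
    have h7 : w ^ (2 ^ k * 2) = 1 := by rw [pow_mul, hw, one_pow]
    have h8 := pow_gcd_eq_one.2 ⟨h6, h7⟩
    rw [Nat.gcd_mul_right] at h8
    rw [Nat.Coprime] at hcop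
    rw [hcop, one_mul, pow_two] at h8
    rcases eq_of_sq hF h8 with h9 | h9
    · exact h1 h9
    · exact h2 h9

/-- **An element of 2-power order is inverted by an element of square `-1`.** -/
theorem exists_inverting {w : SL2} {k : ℕ} (hw : w ^ 2 ^ k = 1) (h1 : w ≠ 1) (h2 : w ≠ -1) :
    ∃ y : SL2, y * y = -1 ∧ (y * w) * (y * w) = -1 := by
  have h20 := two_ne hF
  have ht := trace_ne hF hw h1 h2
  have hd := det_eq w
  suffices h : ∃ x m n : F, -x ^ 2 - m * n = 1 ∧
      x * (ent w 0 0 - ent w 1 1) + m * ent w 1 0 + n * ent w 0 1 = 0 by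
    obtain ⟨x, m, n, e1, e2⟩ := h
    refine ⟨mk x m n (-x) (by linear_combination e1), (sq_iff h20 _).2 ?_, (sq_iff h20 _).2 ?_⟩
    · rw [mk_00, mk_11]; ring
    · rw [ent_mul, ent_mul, mk_00, mk_01, mk_10, mk_11]
      linear_combination e2
  have hδ : (ent w 0 0 - ent w 1 1) ^ 2 + 4 * ent w 0 1 * ent w 1 0 ≠ 0 := by
    intro h
    apply ht
    linear_combination h + 4 * hd
  by_cases hc : ent w 1 0 = 0
  · rw [hc] at hδ
    have ha : ent w 0 0 - ent w 1 1 ≠ 0 := by
      intro h; rw [h] at hδ; simp at hδ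
    by_cases hb : ent w 0 1 = 0
    · refine ⟨0, 1, -1, by ring, ?_⟩
      rw [hb, hc]; ring
    · refine ⟨1, 2 * ent w 0 1 / (ent w 0 0 - ent w 1 1), -(ent w 0 0 - ent w 1 1) / ent w 0 1, ?_, ?_⟩
      · field_simp; ring
      · rw [hc]; field_simp; ring
  · obtain ⟨X, n, h⟩ := exists_quad hF (1 : F) (-((ent w 0 0 - ent w 1 1) ^ 2 + 4 * ent w 0 1 * ent w 1 0))
      (-4 * ent w 1 0 ^ 2) one_ne_zero (neg_ne_zero.2 hδ)
    refine ⟨(X + (ent w 0 0 - ent w 1 1) * n) / (2 * ent w 1 0),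
      -((X + (ent w 0 0 - ent w 1 1) * n) / (2 * ent w 1 0) * (ent w 0 0 - ent w 1 1) + n * ent w 0 1) / ent w 1 0,
      n, ?_, ?_⟩
    · field_simp
      linear_combination -h
    · field_simp
      ring

omit hF in
/-- inversion -/
theorem inv_of_inverting {y w : SL2} (hy : y * y = -1) (h : (y * w) * (y * w) = -1) : y * w * y⁻¹ = w⁻¹ := by
  have hyi : y⁻¹ = -y := inv_eq_of_mul_eq_one_right (by rw [mul_neg, hy, neg_neg])
  refine eq_inv_of_mul_eq_one_left ?_
  rw [hyi, mul_neg, neg_mul]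
  rw [show y * w * y * w = (y * w) * (y * w) by group, h, neg_neg]

/-- an element of 2-power order different from `1`, `-1` has a power of square `-1` -/
theorem exists_pow_sq {w : SL2} {k : ℕ} (hw : w ^ 2 ^ k = 1) (h1 : w ≠ 1) (h2 : w ≠ -1) :
    ∃ n : ℕ, w ^ n * w ^ n = -1 := by
  induction k generalizing w with
  | zero => exact absurd (by simpa using hw) h1
  | succ k ih =>
    have h3 : (w ^ 2) ^ 2 ^ k = 1 := by rw [← pow_mul, ← pow_succ', hw]
    by_cases h4 : w ^ 2 = 1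
    · rcases eq_of_sq hF (by rw [← pow_two]; exact h4) with h | h
      · exact absurd h h1
      · exact absurd h h2
    by_cases h5 : w ^ 2 = -1
    · exact ⟨1, by rw [pow_one, ← pow_two]; exact h5⟩
    obtain ⟨n, hn⟩ := ih h3 h4 h5
    exact ⟨2 * n, by rwa [pow_mul]⟩

/-- for every `v` of square `-1` there is `u` of square `-1` such that `u v⁻¹` has square `-1` and `u` inverts `v` -/
theorem exists_quat {v : SL2} (hv : v * v = -1) :
    ∃ u : SL2, u * u = -1 ∧ (u * v) * (u * v) = -1 ∧ (v * u⁻¹) * (v * u⁻¹) = -1 ∧ u * v * u⁻¹ = v⁻¹ := by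
  have h20 := two_ne hF
  have hne : ((-1 : SL2)) ≠ 1 := by
    intro h
    have : ent (-1 : SL2) 0 0 = ent (1 : SL2) 0 0 := by rw [h]
    rw [ent_neg, ent_one_00] at this
    exact h20 (by linear_combination -this)
  have h1 : v ≠ 1 := by rintro rfl; rw [mul_one] at hv; exact hne hv.symm
  have h2 : v ≠ -1 := by
    rintro rfl
    rw [neg_mul_neg, mul_one] at hv; exact hne hv.symm
  have h4 : v ^ 2 ^ 2 = 1 := by
    rw [show (2 : ℕ) ^ 2 = 2 * 2 by norm_num, pow_mul, pow_two, pow_two, hv]; simp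
  obtain ⟨u, hu, huv⟩ := exists_inverting hF h4 h1 h2
  have hinv := inv_of_inverting hu huv
  refine ⟨u, hu, huv, ?_, hinv⟩
  have hui : u⁻¹ = -u := inv_eq_of_mul_eq_one_right (by rw [mul_neg, hu, neg_neg])
  have hvi : v⁻¹ = -v := inv_eq_of_mul_eq_one_right (by rw [mul_neg, hv, neg_neg])
  rw [hvi, hui, mul_neg, neg_inj] at hinv
  -- u v u = v
  rw [hui, mul_neg, neg_mul_neg]
  rw [show v * u * (v * u) = v * (u * v * u) by group, hinv, hv]

/-- an element commuting with everything up to sign -/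
theorem eq_of_central {v : SL2} (h : ∀ u : SL2, v * u = u * v ∨ v * u = -(u * v)) : v = 1 ∨ v = -1 := by
  have h20 := two_ne hF
  have hu : v * up (1 : F) = up (1 : F) * v := by
    rcases h (up 1) with h1 | h1
    · exact h1
    · exfalso
      have e1 : ent (v * up (1 : F)) 0 0 = - ent (up (1 : F) * v) 0 0 := by rw [h1, ent_neg]
      have e2 : ent (v * up (1 : F)) 1 0 = - ent (up (1 : F) * v) 1 0 := by rw [h1, ent_neg]
      have e3 : ent (v * up (1 : F)) 1 1 = - ent (up (1 : F) * v) 1 1 := by rw [h1, ent_neg]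
      have e4 : ent (v * up (1 : F)) 0 1 = - ent (up (1 : F) * v) 0 1 := by rw [h1, ent_neg]
      simp only [ent_mul, up_00, up_01, up_10, up_11] at e1 e2 e3 e4
      have f1 : ent v 1 0 = 0 := by
        have : 2 * ent v 1 0 = 0 := by linear_combination e2
        exact (mul_eq_zero.1 this).resolve_left h20
      rw [f1] at e1 e3
      have f2 : ent v 0 0 = 0 := by
        have : 2 * ent v 0 0 = 0 := by linear_combination e1
        exact (mul_eq_zero.1 this).resolve_left h20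
      have := det_eq v
      rw [f1, f2] at this
      simp at this
  have hl : v * lo (1 : F) = lo (1 : F) * v := by
    rcases h (lo 1) with h1 | h1
    · exact h1
    · exfalso
      have e1 : ent (v * lo (1 : F)) 0 0 = - ent (lo (1 : F) * v) 0 0 := by rw [h1, ent_neg]
      have e2 : ent (v * lo (1 : F)) 0 1 = - ent (lo (1 : F) * v) 0 1 := by rw [h1, ent_neg]
      simp only [ent_mul, lo_00, lo_01, lo_10, lo_11] at e1 e2
      have f1 : ent v 0 1 = 0 := by
        have : 2 * ent v 0 1 = 0 := by linear_combination e2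
        exact (mul_eq_zero.1 this).resolve_left h20
      rw [f1] at e1
      have f2 : ent v 0 0 = 0 := by
        have : 2 * ent v 0 0 = 0 := by linear_combination e1
        exact (mul_eq_zero.1 this).resolve_left h20
      have := det_eq v
      rw [f1, f2] at this
      simp at this
  have e1 : ent (v * up (1 : F)) 0 0 = ent (up (1 : F) * v) 0 0 := by rw [hu]
  have e2 : ent (v * up (1 : F)) 0 1 = ent (up (1 : F) * v) 0 1 := by rw [hu]
  have e3 : ent (v * lo (1 : F)) 0 0 = ent (lo (1 : F) * v) 0 0 := by rw [hl]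
  simp only [ent_mul, up_00, up_01, up_10, up_11, lo_00, lo_01, lo_10, lo_11] at e1 e2 e3
  have f1 : ent v 1 0 = 0 := by linear_combination -e1
  have f2 : ent v 0 1 = 0 := by linear_combination e3
  have f3 : ent v 0 0 = ent v 1 1 := by linear_combination e2
  refine eq_of_sq hF ?_
  have hd := det_eq v
  rw [f1, f2, ← f3] at hd
  refine ext_ent ?_ ?_ ?_ ?_ <;> rw [ent_mul]
  · rw [f1, f2, ent_one_00]; linear_combination hd
  · rw [f2, ent_one_01]; ring
  · rw [f1, ent_one_10]; ring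
  · rw [f1, f2, ← f3, ent_one_11]; linear_combination hd

end fin

end Cfsg.Agent.ClosedExc.SL
end

-- part: ClosedExc/RankOne
section
/-!
# Strongly closed 2-subgroups and subgroups `SL(2,q)`, `q` odd (helper50, S1252)

`φ : SL(2,F) →* G`, `F` a finite field of odd order, kernel contained in `{1, -1}`; `A` strongly closed in a Sylow
2-subgroup of `G`.  `Full A φ` : all elements `φ w`, `w` of 2-power order, are conjugate into `A`.

* `full_of_sq` : one `φ v` with `v * v = -1`;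
* `full_of_mem` : one `φ w`, `w ≠ 1, -1` of 2-power order;
* `full_of_normalizes` : an involution of `Cl A` normalizing but not centralizing the image of `φ`;
* `full_of_swap` : a 2-element `a` in `Cl A` such that the image of `φ` commutes with its conjugate under `a` and with `a²`.
-/

set_option autoImplicit false
set_option linter.unusedSectionVars false

namespace Cfsg.Agent.ClosedExc

open Subgroup Cfsg Cfsg.Agent.ClosedTwo.Elem Cfsg.Agent.Lib.SL2Mat

section pgroup

variable {G : Type*} [Group G]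

theorem isPGroup_zpowers {x : G} {k : ℕ} (hx : x ^ 2 ^ k = 1) : IsPGroup 2 ↥(zpowers x) := by
  rintro ⟨a, ha⟩
  obtain ⟨n, rfl⟩ := mem_zpowers_iff.1 ha
  refine ⟨k, Subtype.ext ?_⟩
  change (x ^ n) ^ 2 ^ k = 1
  rw [← zpow_natCast, ← zpow_mul, mul_comm, zpow_mul, zpow_natCast, hx, one_zpow]

/-- adjoining a 2-element normalizing a 2-group -/
theorem isPGroup_sup_zpowers {P : Subgroup G} (hP : IsPGroup 2 ↥P) {x : G} {k : ℕ} (hx : x ^ 2 ^ k = 1)
    (h : ∀ y ∈ P, x * y * x⁻¹ ∈ P) : IsPGroup 2 ↥(P ⊔ zpowers x : Subgroup G) := by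
  rw [sup_comm]
  refine IsPGroup.to_sup_of_normal_right' (isPGroup_zpowers hx) hP ?_
  rw [zpowers_le, mem_normalizer_iff]
  have hpow : ∀ (n : ℕ), ∀ y ∈ P, x ^ n * y * (x ^ n)⁻¹ ∈ P := by
    intro n
    induction n with
    | zero => intro y hy; simpa using hy
    | succ n ih =>
      intro y hy
      have := h _ (ih y hy)
      rwa [show x * (x ^ n * y * (x ^ n)⁻¹) * x⁻¹ = x ^ (n + 1) * y * (x ^ (n + 1))⁻¹ by
        rw [pow_succ']; group] at this
  have hinv : x⁻¹ = x ^ (2 ^ k - 1) := by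
    refine inv_eq_of_mul_eq_one_right ?_
    rw [← pow_succ', Nat.sub_add_cancel Nat.one_le_two_pow, hx]
  intro y
  refine ⟨h y, fun hy => ?_⟩
  have := hpow (2 ^ k - 1) _ hy
  rw [← hinv] at this
  rwa [show x⁻¹ * (x * y * x⁻¹) * (x⁻¹)⁻¹ = y by group] at this

/-- the case of a cyclic group -/
theorem isPGroup_two {x y : G} {k l : ℕ} (hx : x ^ 2 ^ k = 1) (hy : y ^ 2 ^ l = 1)
    (h : x * y * x⁻¹ ∈ zpowers y) : IsPGroup 2 ↥(zpowers y ⊔ zpowers x : Subgroup G) := by
  refine isPGroup_sup_zpowers (isPGroup_zpowers hy) hx ?_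
  intro a ha
  obtain ⟨n, rfl⟩ := mem_zpowers_iff.1 ha
  rw [← conj_zpow]
  exact zpow_mem h n

/-- All the 2-elements of the image of `φ` are conjugate into `A`. -/
def Full {K : Type*} [Group K] (A : Subgroup G) (φ : K →* G) : Prop :=
  ∀ (w : K) (k : ℕ), w ^ 2 ^ k = 1 → Cl A (φ w)

end pgroup

variable {F : Type*} [Field F] [Fintype F]

local notation "SL2" => Matrix.SpecialLinearGroup (Fin 2) F

variable {G : Type*} [Group G] [Finite G]


variable {S : Sylow 2 G} {A : Subgroup G}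

theorem pow_four {v : SL2} (hv : v * v = -1) : v ^ 2 ^ 2 = 1 := by
  rw [show (2 : ℕ) ^ 2 = 2 * 2 by norm_num, pow_mul, pow_two, pow_two, hv]; simp

section

variable (hF : Odd (Fintype.card F)) (hA : IsStronglyClosed A (S : Subgroup G))

include hF hA

/-- **All 2-elements from one element of order 4.** -/
theorem full_of_sq {φ : SL2 →* G} {v : SL2} (hv : v * v = -1) (h : Cl A (φ v)) : Full A φ := by
  have hall : ∀ w : SL2, w * w = -1 → Cl A (φ w) := by
    intro w hw
    obtain ⟨g, rfl⟩ := SL.conj_sq hF hv hw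
    rw [map_mul, map_mul, map_inv]
    exact h.conj _
  intro w k hw
  by_cases h1 : w = 1
  · rw [h1, map_one]; exact cl_one
  by_cases h2 : w = -1
  · rw [h2, ← hv, map_mul, ← pow_two]
    exact h.pow 2
  obtain ⟨y, hy, hyw⟩ := SL.exists_inverting hF hw h1 h2
  have hinv := SL.inv_of_inverting hy hyw
  have hP : IsPGroup 2 ↥(zpowers (φ w) ⊔ zpowers (φ y) : Subgroup G) := by
    refine isPGroup_two (k := 2) (l := k) (by rw [← map_pow, pow_four hy, map_one])
      (by rw [← map_pow, hw, map_one]) ?_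
    rw [← map_mul, ← map_inv, ← map_mul, hinv, map_inv]
    exact inv_mem (mem_zpowers _)
  have hwP : φ w ∈ zpowers (φ w) ⊔ zpowers (φ y) := (le_sup_left : zpowers (φ w) ≤ _) (mem_zpowers _)
  have hyP : φ y ∈ zpowers (φ w) ⊔ zpowers (φ y) := (le_sup_right : zpowers (φ y) ≤ _) (mem_zpowers _)
  have hp : Fact (Nat.Prime 2) := ⟨Nat.prime_two⟩
  have := Cl.mul hA hP (inv_mem hyP) (mul_mem hyP hwP) (hall y hy).inv (by rw [← map_mul]; exact hall _ hyw)
  rwa [inv_mul_cancel_left] at this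

/-- **All 2-elements from one noncentral 2-element.** -/
theorem full_of_mem {φ : SL2 →* G} {w : SL2} {k : ℕ} (hw : w ^ 2 ^ k = 1) (h1 : w ≠ 1) (h2 : w ≠ -1) (h : Cl A (φ w)) :
    Full A φ := by
  obtain ⟨n, hn⟩ := SL.exists_pow_sq hF hw h1 h2
  refine full_of_sq hF hA hn ?_
  rw [map_pow]
  exact h.pow n

/-- **A 2-element `a` moving the image of `φ` to a commuting subgroup.** -/
theorem full_of_swap {φ : SL2 →* G} {a : G} {k : ℕ} (hak : a ^ 2 ^ k = 1) (ha : Cl A a)
    (ha2 : ∀ u : SL2, a * (a * φ u * a⁻¹) * a⁻¹ = φ u)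
    (hcomm : ∀ u u' : SL2, Commute (a * φ u * a⁻¹) (φ u')) : Full A φ := by
  have hp : Fact (Nat.Prime 2) := ⟨Nat.prime_two⟩
  -- an element of square -1
  have hv : (wm (1 : F) one_ne_zero) * (wm (1 : F) one_ne_zero) = -1 :=
    (SL.sq_iff (SL.two_ne hF) _).2 (by rw [wm_00, wm_11, add_zero])
  generalize wm (1 : F) one_ne_zero = v at hv
  obtain ⟨u, hu, huv, hvu, hinv⟩ := SL.exists_quat hF hv
  have hφ4 : ∀ x : SL2, x * x = -1 → (φ x) ^ 2 ^ 2 = 1 := by
    intro x hx
    rw [← map_pow, pow_four hx, map_one]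
  have hcj4 : ∀ x : SL2, x * x = -1 → (a * φ x * a⁻¹) ^ 2 ^ 2 = 1 := by
    intro x hx
    rw [conj_pow, hφ4 x hx]; simp
  -- commutators
  have key : ∀ x : SL2, x * x = -1 → Cl A (a⁻¹ * (φ x * a * (φ x)⁻¹)) := by
    intro x hx
    have hP0 : IsPGroup 2 ↥(zpowers (φ x) ⊔ zpowers (a * φ x * a⁻¹) : Subgroup G) := by
      refine isPGroup_two (hcj4 x hx) (hφ4 x hx) ?_
      rw [(hcomm x x).eq, mul_inv_cancel_right]
      exact mem_zpowers _
    have hP : IsPGroup 2 ↥(zpowers (φ x) ⊔ zpowers (a * φ x * a⁻¹) ⊔ zpowers a : Subgroup G) := by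
      refine isPGroup_sup_zpowers hP0 hak ?_
      have hle : zpowers (φ x) ⊔ zpowers (a * φ x * a⁻¹) ≤
          (zpowers (φ x) ⊔ zpowers (a * φ x * a⁻¹)).comap (MulAut.conj a).toMonoidHom := by
        rw [sup_le_iff, zpowers_le, zpowers_le, mem_comap, mem_comap]
        constructor
        · exact (le_sup_right : zpowers (a * φ x * a⁻¹) ≤ _) (mem_zpowers _)
        · change a * (a * φ x * a⁻¹) * a⁻¹ ∈ _
          rw [ha2]
          exact (le_sup_left : zpowers (φ x) ≤ _) (mem_zpowers _)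
      exact fun y hy => hle hy
    have haP : a ∈ zpowers (φ x) ⊔ zpowers (a * φ x * a⁻¹) ⊔ zpowers a :=
      (le_sup_right : zpowers a ≤ _) (mem_zpowers _)
    have hxP : φ x ∈ zpowers (φ x) ⊔ zpowers (a * φ x * a⁻¹) ⊔ zpowers a :=
      mem_sup_left ((le_sup_left : zpowers (φ x) ≤ _) (mem_zpowers _))
    exact Cl.mul hA hP (inv_mem haP) (mul_mem (mul_mem hxP haP) (inv_mem hxP)) ha.inv (ha.conj _)
  -- `c x = (φ x)^a (φ x)⁻¹`
  have hai : ∀ x : SL2, a⁻¹ * φ x * a = a * φ x * a⁻¹ := by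
    intro x
    have := ha2 x
    rw [show a⁻¹ * φ x * a = a⁻¹ * (a * (a * φ x * a⁻¹) * a⁻¹) * a by rw [this]]
    group
  have hc1 : Cl A ((a * φ v * a⁻¹) * (φ v)⁻¹) := by
    have := key v hv
    rwa [show a⁻¹ * (φ v * a * (φ v)⁻¹) = (a⁻¹ * φ v * a) * (φ v)⁻¹ by group, hai] at this
  -- conjugating by an element of the image taking `v` to `u`
  obtain ⟨g, hg⟩ := SL.conj_sq hF hv hu
  have hc2 : Cl A ((a * φ v * a⁻¹) * (φ u)⁻¹) := by
    have := hc1.conj (φ g)
    have e : φ g * ((a * φ v * a⁻¹) * (φ v)⁻¹) * (φ g)⁻¹ = (a * φ v * a⁻¹) * (φ u)⁻¹ := by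
      rw [← mul_assoc, ← (hcomm v g).eq, ← hg, map_mul, map_mul, map_inv]
      group
    rwa [e] at this
  -- in the 2-group generated by `φ v`, `φ u`, `φ v ^ a`
  have hQ0 : IsPGroup 2 ↥(zpowers (φ v) ⊔ zpowers (φ u) : Subgroup G) := by
    refine isPGroup_two (hφ4 u hu) (hφ4 v hv) ?_
    rw [← map_mul, ← map_inv, ← map_mul, hinv, map_inv]
    exact inv_mem (mem_zpowers _)
  have hQ : IsPGroup 2 ↥(zpowers (φ v) ⊔ zpowers (φ u) ⊔ zpowers (a * φ v * a⁻¹) : Subgroup G) := by
    refine isPGroup_sup_zpowers hQ0 (hcj4 v hv) ?_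
    have hle : zpowers (φ v) ⊔ zpowers (φ u) ≤
        (zpowers (φ v) ⊔ zpowers (φ u)).comap (MulAut.conj (a * φ v * a⁻¹)).toMonoidHom := by
      rw [sup_le_iff, zpowers_le, zpowers_le, mem_comap, mem_comap]
      constructor
      · change (a * φ v * a⁻¹) * φ v * (a * φ v * a⁻¹)⁻¹ ∈ _
        rw [(hcomm v v).eq, mul_inv_cancel_right]
        exact (le_sup_left : zpowers (φ v) ≤ _) (mem_zpowers _)
      · change (a * φ v * a⁻¹) * φ u * (a * φ v * a⁻¹)⁻¹ ∈ _
        rw [(hcomm v u).eq, mul_inv_cancel_right]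
        exact (le_sup_right : zpowers (φ u) ≤ _) (mem_zpowers _)
    exact fun y hy => hle hy
  have hvQ : φ v ∈ zpowers (φ v) ⊔ zpowers (φ u) ⊔ zpowers (a * φ v * a⁻¹) :=
    mem_sup_left ((le_sup_left : zpowers (φ v) ≤ _) (mem_zpowers _))
  have huQ : φ u ∈ zpowers (φ v) ⊔ zpowers (φ u) ⊔ zpowers (a * φ v * a⁻¹) :=
    mem_sup_left ((le_sup_right : zpowers (φ u) ≤ _) (mem_zpowers _))
  have haQ : a * φ v * a⁻¹ ∈ zpowers (φ v) ⊔ zpowers (φ u) ⊔ zpowers (a * φ v * a⁻¹) :=
    (le_sup_right : zpowers (a * φ v * a⁻¹) ≤ _) (mem_zpowers _)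
  have h3 := Cl.mul hA hQ (inv_mem (mul_mem haQ (inv_mem hvQ))) (mul_mem haQ (inv_mem huQ)) hc1.inv hc2
  rw [show ((a * φ v * a⁻¹) * (φ v)⁻¹)⁻¹ * ((a * φ v * a⁻¹) * (φ u)⁻¹) = φ v * (φ u)⁻¹ by group,
    ← map_inv, ← map_mul] at h3
  exact full_of_sq hF hA hvu h3

end

/-! ### an involution normalizing the image of `φ` -/

section twist

theorem mem_zpowers_of_sq {H : Type*} [Group H] [Finite H] {z : H} (hzz : z * z = 1) (hz1 : z ≠ 1) {x : H}
    (hx : x ∈ zpowers z) : x = 1 ∨ x = z := by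
  classical
  have hzo : orderOf z = 2 := orderOf_eq_prime (by rw [pow_two, hzz]) hz1
  rw [mem_zpowers_iff_mem_range_orderOf, hzo] at hx
  simp only [Finset.mem_image, Finset.mem_range] at hx
  obtain ⟨n, hn, rfl⟩ := hx
  interval_cases n
  · left; simp
  · right; simp

theorem neg_one_ne (hF : Odd (Fintype.card F)) : ((-1 : SL2)) ≠ 1 := by
  have h20 := SL.two_ne hF
  intro h
  have : ent (-1 : SL2) 0 0 = ent (1 : SL2) 0 0 := congrArg (fun x => ent x 0 0) h
  rw [SL.ent_neg, ent_one_00] at this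
  exact h20 (by linear_combination -this)

/-- normal subgroups of `SL(2,F)` of odd order modulo `{1, -1}` -/
theorem odd_mod (hF : Odd (Fintype.card F)) {N : Subgroup SL2} (hN : N.Normal) (h1 : -1 ∈ N) {m : ℕ} (hm : Odd m)
    (h : ∀ u ∈ N, u ^ m = 1 ∨ u ^ m = -1) : ∀ u ∈ N, u = 1 ∨ u = -1 := by
  have hne := neg_one_ne (F := F) hF
  have hn2 : (-1 : SL2) * (-1) = 1 := by simp
  set z : N := ⟨-1, h1⟩ with hz
  have hzz : z * z = 1 := Subtype.ext hn2
  have hz1 : z ≠ 1 := fun h => hne (congrArg Subtype.val h)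
  have hzo : orderOf z = 2 := orderOf_eq_prime (by rw [pow_two, hzz]) hz1
  have hzc : ∀ x : N, z * x = x * z := fun x => Subtype.ext (by
    change (-1 : SL2) * x.1 = x.1 * (-1); rw [neg_one_mul, mul_neg_one])
  have hZn : (zpowers z).Normal := by
    refine ⟨fun x hx g => ?_⟩
    rcases mem_zpowers_of_sq hzz hz1 hx with rfl | rfl
    · simp only [_root_.mul_one, _root_.mul_inv_cancel, _root_.OneMemClass.one_mem]
    · rw [← hzc, mul_inv_cancel_right]; exact mem_zpowers _
  -- the index is odd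
  have hidx : (Nat.card (zpowers z)).Coprime (zpowers z).index := by
    rw [Nat.card_zpowers, hzo, Nat.coprime_two_left]
    by_contra hc
    rw [Nat.not_odd_iff_even, even_iff_two_dvd] at hc
    have : Fact (Nat.Prime 2) := ⟨Nat.prime_two⟩
    obtain ⟨x, hx⟩ := exists_prime_orderOf_dvd_card' (G := N ⧸ zpowers z) 2 hc
    induction x using QuotientGroup.induction_on with
    | H x =>
      have h3 : ((x : N) : N ⧸ zpowers z) ^ m = 1 := by
        rw [← QuotientGroup.mk_pow, QuotientGroup.eq_one_iff]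
        rcases h x.1 x.2 with h4 | h4
        · rw [show x ^ m = 1 from Subtype.ext h4]; exact one_mem _
        · rw [show x ^ m = z from Subtype.ext h4]; exact mem_zpowers _
      have h4 : 2 ∣ m := by rw [← hx]; exact orderOf_dvd_of_pow_eq_one h3
      exact (Nat.not_even_iff_odd.2 hm) (even_iff_two_dvd.2 h4)
  obtain ⟨C, hC⟩ := exists_right_complement'_of_coprime hidx
  have hcard : Nat.card (zpowers z) * Nat.card C = Nat.card N := hC.card_mul_card
  have hCodd : Odd (Nat.card C) := by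
    have h2 : (zpowers z).index = Nat.card C := by
      have h3 := (zpowers z).card_mul_index
      rw [← hcard] at h3
      exact Nat.eq_of_mul_eq_mul_left Nat.card_pos h3
    rw [← h2]
    rw [Nat.card_zpowers, hzo, Nat.coprime_two_left] at hidx
    exact hidx
  have hzC : z ∉ C := by
    intro hzC
    have h2 : orderOf z ∣ Nat.card C := C.orderOf_dvd_natCard hzC
    rw [hzo] at h2
    exact (Nat.not_even_iff_odd.2 hCodd) (even_iff_two_dvd.2 h2)
  have hCm : ∀ x : N, x ∈ C ↔ x ^ m = 1 := by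
    intro x
    have hx := h x.1 x.2
    constructor
    · intro hxC
      rcases hx with h4 | h4
      · exact Subtype.ext h4
      · exfalso
        have h5 : x ^ m = z := Subtype.ext h4
        exact hzC (h5 ▸ pow_mem hxC m)
    · intro hxm
      have htop : x ∈ zpowers z ⊔ C := by rw [hC.sup_eq_top]; exact mem_top _
      obtain ⟨y, hy, c, hc, rfl⟩ := mem_sup_of_normal_left.1 htop
      rcases mem_zpowers_of_sq hzz hz1 hy with rfl | rfl
      · rwa [one_mul]
      · exfalso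
        have h5 : (z * c) ^ m = z ^ m * c ^ m := (show Commute z c from hzc c).mul_pow m
        have h6 : z ^ m = z := by
          obtain ⟨k, rfl⟩ := hm
          rw [pow_succ, pow_mul, pow_two, hzz, one_pow, one_mul]
        rw [h5, h6] at hxm
        have h7 : z = (c ^ m)⁻¹ := eq_inv_of_mul_eq_one_left hxm
        exact hzC (h7 ▸ inv_mem (pow_mem hc m))
  have hCn : (C.map N.subtype).Normal := by
    refine ⟨?_⟩
    rintro _ ⟨x, hx, rfl⟩ g
    have hx1 := (hCm x).1 hx
    refine ⟨⟨g * x.1 * g⁻¹, hN.conj_mem _ x.2 g⟩, ?_, rfl⟩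
    rw [SetLike.mem_coe, hCm]
    refine Subtype.ext ?_
    change (g * x.1 * g⁻¹) ^ m = 1
    rw [conj_pow, show x.1 ^ m = 1 from congrArg Subtype.val hx1, mul_one, mul_inv_cancel]
  have hle : C.map N.subtype ≤ oddCore SL2 := by
    refine Lib.Cores.le_pPrimeCore hCn ?_
    rw [Nat.coprime_two_right]
    rw [card_map_of_injective N.subtype_injective]
    exact hCodd
  rw [Cit.ParabSL2.oddCore_sl hF, le_bot_iff, map_eq_bot_iff_of_injective _ N.subtype_injective] at hle
  intro u hu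
  have htop : (⟨u, hu⟩ : N) ∈ zpowers z ⊔ C := by rw [hC.sup_eq_top]; exact mem_top _
  rw [hle, sup_bot_eq] at htop
  rcases mem_zpowers_of_sq hzz hz1 htop with h3 | h3
  · exact Or.inl (congrArg Subtype.val h3)
  · exact Or.inr (congrArg Subtype.val h3)

variable {H : Type*} [Group H] [Finite H]

/-- **An involution acting nontrivially on a normal `SL(2,q)`.** -/
theorem exists_twist (hF : Odd (Fintype.card F)) {φ : SL2 →* H} (hker : ∀ u, φ u = 1 → u = 1 ∨ u = -1)
    {a : H} (haa : a * a = 1) (hn : φ.range.Normal) (hgen : φ.range ⊔ zpowers a = ⊤)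
    (hc : ∃ u, a * φ u ≠ φ u * a) :
    ∃ (g : H) (u : SL2) (k : ℕ), a * (g * a * g⁻¹) = φ u ∧ u ^ 2 ^ k = 1 ∧ u ≠ 1 ∧ u ≠ -1 := by
  by_contra hno
  have H' : ∀ (g : H) (u : SL2) (k : ℕ), a * (g * a * g⁻¹) = φ u → u ^ 2 ^ k = 1 → u = 1 ∨ u = -1 := by
    intro g u k h1 h2
    by_contra h3
    rw [not_or] at h3
    exact hno ⟨g, u, k, h1, h2, h3.1, h3.2⟩
  have hai : a⁻¹ = a := inv_eq_of_mul_eq_one_right haa
  have hzcen : ∀ u : SL2, φ (-1) * φ u = φ u * φ (-1) := by
    intro u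
    rw [← map_mul, ← map_mul, neg_one_mul, mul_neg_one]
  let θ : H →* MulAut φ.range := MulAut.conjNormal
  have hθ : ∀ g : H, θ g = 1 ↔ ∀ u, g * φ u = φ u * g := by
    intro g
    constructor
    · intro h u
      have h1 : ((θ g ⟨φ u, u, rfl⟩ : φ.range) : H) = φ u := by rw [h]; rfl
      rw [MulAut.conjNormal_apply] at h1
      exact mul_inv_eq_iff_eq_mul.1 h1
    · intro h
      ext ⟨x, u, rfl⟩
      change ((θ g ⟨φ u, _⟩ : φ.range) : H) = φ u
      rw [MulAut.conjNormal_apply]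
      exact mul_inv_eq_iff_eq_mul.2 (h u)
  have hθφ : ∀ u : SL2, θ (φ u) = 1 ↔ u = 1 ∨ u = -1 := by
    intro u
    constructor
    · intro h
      refine SL.eq_of_central hF fun u' => ?_
      have h1 := (hθ _).1 h u'
      rw [← map_mul, ← map_mul] at h1
      have h2 : φ (u * u' * (u' * u)⁻¹) = 1 := by rw [map_mul, h1, ← map_mul, mul_inv_cancel, map_one]
      rcases hker _ h2 with h3 | h3
      · left; exact mul_inv_eq_one.1 h3
      · right
        rw [mul_inv_eq_iff_eq_mul] at h3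
        rw [h3, neg_one_mul]
    · rintro (rfl | rfl)
      · rw [map_one, map_one]
      · exact (hθ _).2 hzcen
  have hθa : θ a ≠ 1 := by
    intro h
    obtain ⟨u, hu⟩ := hc
    exact hu ((hθ a).1 h u)
  -- conjugates of `a`
  have hcj : ∀ g : H, ∃ u, a * (g * a * g⁻¹) = φ u := by
    intro g
    have hg : g ∈ φ.range ⊔ zpowers a := by rw [hgen]; exact mem_top _
    obtain ⟨y, hy, b, hb, rfl⟩ := mem_sup_of_normal_left.1 hg
    obtain ⟨n, rfl⟩ := mem_zpowers_iff.1 hb
    have e : a * (y * a ^ n * a * (y * a ^ n)⁻¹) = (a * y * a⁻¹) * y⁻¹ := by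
      rw [hai]
      have h1 : a ^ n * a * (a ^ n)⁻¹ = a := by
        rw [← zpow_add_one, ← zpow_neg, ← zpow_add]; simp
      calc a * (y * a ^ n * a * (y * a ^ n)⁻¹) = a * (y * (a ^ n * a * (a ^ n)⁻¹) * y⁻¹) := by group
        _ = a * y * a * y⁻¹ := by rw [h1]; group
    rw [e]
    obtain ⟨u, hu⟩ := φ.range.mul_mem (hn.conj_mem y hy a) (inv_mem hy)
    exact ⟨u, hu.symm⟩
  have : Fact (Nat.Prime 2) := ⟨Nat.prime_two⟩
  have hfin : Finite φ.range := inferInstance
  set a' : θ.range := ⟨θ a, a, rfl⟩ with ha'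
  have ha'a : a' * a' = 1 := Subtype.ext (by
    change θ a * θ a = 1
    rw [← map_mul, haa, map_one])
  have ha'1 : a' ≠ 1 := fun h => hθa (congrArg Subtype.val h)
  have ha'o : orderOf a' = 2 := orderOf_eq_prime (by rw [pow_two, ha'a]) ha'1
  have hfR : Finite θ.range := inferInstance
  obtain ⟨P, hP⟩ := (isPGroup_zpowers (x := a') (k := 1) (by rw [pow_one, pow_two, ha'a])).exists_le_sylow
  have haP : a' ∈ P := hP (mem_zpowers _)
  obtain ⟨N, hNn, hNodd, hN⟩ := S0215.result P a' ha'o haP (by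
    rintro ⟨_, g, rfl⟩ hg
    obtain ⟨u, hu⟩ := hcj g
    have h1 : a' * (⟨θ g, g, rfl⟩ * a' * (⟨θ g, g, rfl⟩ : θ.range)⁻¹) ∈ P := mul_mem haP hg
    obtain ⟨k, hk⟩ := P.2 ⟨_, h1⟩
    have h2 : (θ (φ u)) ^ 2 ^ k = 1 := by
      have h3 := congrArg (fun x : P => ((x : θ.range) : MulAut φ.range)) hk
      change (θ a * (θ g * θ a * (θ g)⁻¹)) ^ 2 ^ k = 1 at h3
      rw [← map_inv, ← map_mul, ← map_mul, ← map_mul, hu] at h3
      exact h3
    rw [← map_pow, ← map_pow, hθφ] at h2
    have h4 : u ^ 2 ^ (k + 1) = 1 := by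
      rw [pow_succ, pow_mul]
      rcases h2 with h2 | h2
      · rw [h2, one_pow]
      · rw [h2]; simp only [_root_.even_two, _root_.Even.neg_pow, _root_.one_pow]
    have h5 := (hθφ u).2 (H' g u (k + 1) hu h4)
    rw [← hu, map_mul] at h5
    refine Subtype.ext ?_
    change θ g * θ a * (θ g)⁻¹ = θ a
    rw [← map_inv, ← map_mul, ← map_mul]
    have h6 := eq_inv_of_mul_eq_one_right h5
    rw [h6, ← map_inv, hai])
  set ψ : SL2 →* θ.range := θ.rangeRestrict.comp φ with hψ
  have hN' : (N.comap ψ).Normal := hNn.comap ψ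
  have hmod : ∀ u ∈ N.comap ψ, u = 1 ∨ u = -1 := by
    refine odd_mod hF hN' ?_ hNodd ?_
    · rw [mem_comap]
      have : ψ (-1) = 1 := Subtype.ext ((hθφ _).2 (Or.inr rfl))
      rw [this]; exact one_mem _
    · intro u hu
      rw [mem_comap] at hu
      have h1 : (⟨ψ u, hu⟩ : N) ^ Nat.card N = 1 := pow_card_eq_one'
      have h2 := congrArg (fun x : N => ((x : θ.range) : MulAut φ.range)) h1
      change (θ (φ u)) ^ Nat.card N = 1 at h2
      rw [← map_pow, ← map_pow] at h2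
      exact (hθφ _).1 h2
  -- `a` centralizes the image
  have hcomm : ∀ w : SL2, ∃ w' : SL2, (w' = 1 ∨ w' = -1) ∧ a * φ w * a⁻¹ = φ w' * φ w := by
    intro w
    obtain ⟨w', hw'⟩ : ∃ w', φ w' = a * φ w * a⁻¹ * (φ w)⁻¹ :=
      φ.range.mul_mem (hn.conj_mem _ ⟨w, rfl⟩ a) (inv_mem ⟨w, rfl⟩)
    refine ⟨w', hmod w' ?_, ?_⟩
    · rw [mem_comap]
      have h1 := hN (ψ w)
      have h2 : ψ w' = a' * ψ w * a'⁻¹ * (ψ w)⁻¹ := by
        refine Subtype.ext ?_
        change θ (φ w') = θ a * θ (φ w) * (θ a)⁻¹ * (θ (φ w))⁻¹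
        rw [hw']
        simp only [map_mul, map_inv]
      rw [h2]; exact h1
    · rw [hw', inv_mul_cancel_right]
  have hunip : ∀ w : SL2, ent w 0 0 + ent w 1 1 = 2 → a * φ w = φ w * a := by
    intro w hw
    obtain ⟨w', h1 | h1, h2⟩ := hcomm w
    · rw [h1, map_one, one_mul] at h2
      exact mul_inv_eq_iff_eq_mul.1 h2
    · have h3 := SL.pow_card_of_trace hF hw
      have h4 : (a * φ w * a⁻¹) ^ Fintype.card F = 1 := by
        rw [conj_pow, ← map_pow, h3, map_one, mul_one, mul_inv_cancel]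
      rw [h2, h1, ← map_mul, ← map_pow, neg_one_mul, hF.neg_pow, h3] at h4
      rw [h1, h4, one_mul] at h2
      exact mul_inv_eq_iff_eq_mul.1 h2
  obtain ⟨u, hu⟩ := hc
  apply hu
  obtain ⟨b1, b2, b3, b4, rfl⟩ := exists_up_lo u
  have hup : ∀ b : F, Commute a (φ (up b)) := fun b => hunip _ (by rw [up_00, up_11]; norm_num)
  have hlo : ∀ b : F, Commute a (φ (lo b)) := fun b => hunip _ (by rw [lo_00, lo_11]; norm_num)
  have := (((hup b1).mul_right (hlo b2)).mul_right (hup b3)).mul_right (hlo b4)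
  rw [← map_mul, ← map_mul, ← map_mul] at this
  exact this.eq

end twist

/-- **An involution `a` of `Cl A` normalizing but not centralizing the image of `φ`.** -/
theorem full_of_normalizes {φ : SL2 →* G} (hF : Odd (Fintype.card F)) (hA : IsStronglyClosed A (S : Subgroup G))
    (hker : ∀ u, φ u = 1 → u = 1 ∨ u = -1) {a : G} (haa : a * a = 1) (ha : Cl A a)
    (hn : ∀ u, ∃ v, a * φ u * a⁻¹ = φ v) (hc : ∃ u, a * φ u ≠ φ u * a) : Full A φ := by
  have hai : a⁻¹ = a := inv_eq_of_mul_eq_one_right haa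
  set H : Subgroup G := φ.range ⊔ zpowers a with hH
  have hφH : ∀ u, φ u ∈ H := fun u => (le_sup_left : φ.range ≤ H) ⟨u, rfl⟩
  have haH : a ∈ H := (le_sup_right : zpowers a ≤ H) (mem_zpowers a)
  set φ' : SL2 →* H := φ.codRestrict H hφH with hφ'
  set a' : H := ⟨a, haH⟩ with ha'
  have hmap : φ'.range.map H.subtype = φ.range := by
    ext x
    constructor
    · rintro ⟨_, ⟨u, rfl⟩, rfl⟩
      exact ⟨u, rfl⟩
    · rintro ⟨u, rfl⟩
      exact ⟨φ' u, ⟨u, rfl⟩, rfl⟩
  have hHn : H ≤ normalizer (φ.range : Set G) := by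
    refine sup_le le_normalizer ?_
    rw [zpowers_le, mem_normalizer_iff]
    have key : ∀ x, x ∈ φ.range → a * x * a⁻¹ ∈ φ.range := by
      rintro _ ⟨u, rfl⟩
      obtain ⟨v, hv⟩ := hn u
      exact ⟨v, hv.symm⟩
    intro x
    refine ⟨key x, fun hx => ?_⟩
    have h1 := key _ hx
    rw [hai] at h1
    rwa [show a * (a * x * a) * a = (a * a) * x * (a * a) by group, haa, one_mul, mul_one] at h1
  have hnorm : φ'.range.Normal := by
    refine ⟨?_⟩
    rintro _ ⟨u, rfl⟩ ⟨g, hg⟩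
    have h1 : g * φ u * g⁻¹ ∈ φ.range := (mem_normalizer_iff.1 (hHn hg) _).1 ⟨u, rfl⟩
    obtain ⟨v, hv⟩ := h1
    exact ⟨v, Subtype.ext hv⟩
  have hgen : φ'.range ⊔ zpowers a' = ⊤ := by
    apply map_injective H.subtype_injective
    rw [Subgroup.map_sup, hmap, MonoidHom.map_zpowers, ← MonoidHom.range_eq_map, range_subtype]
    rfl
  obtain ⟨g, u, k, h1, h2, h3, h4⟩ := exists_twist hF (φ := φ') (a := a')
    (fun u hu => hker u (congrArg Subtype.val hu)) (Subtype.ext haa) hnorm hgen (by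
      obtain ⟨u, hu⟩ := hc
      exact ⟨u, fun h => hu (congrArg Subtype.val h)⟩)
  have h5 : a * (g.1 * a * g.1⁻¹) = φ u := congrArg Subtype.val h1
  refine full_of_mem hF hA h2 h3 h4 ?_
  rw [← h5]
  refine Cl.mul_invol hA haa ?_ (k := k) ?_ ha (ha.conj _)
  · rw [show g.1 * a * g.1⁻¹ * (g.1 * a * g.1⁻¹) = g.1 * (a * a) * g.1⁻¹ by group, haa, mul_one, mul_inv_cancel]
  · rw [h5, ← map_pow, h2, map_one]

end Cfsg.Agent.ClosedExc
end

-- part: ClosedExc/Frame
section
-- merged: Cfsg.Agent.ClosedExc.RankCount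
section

/-!
# Conjugates of a root group in the rank one group (helper50, S1252)

* `mem_T_of_norm` : an element of `⟨X x, X (-x)⟩` normalizing `X x` and `X (-x)` lies in `T`;
* `card_conj` : `X x` has `|X x| + 1` conjugates under `⟨X x, X (-x)⟩`;
* `exists_m'` : a representative of the reflection in the root `x` in `⟨X x, X (-x)⟩`.
-/

set_option autoImplicit false
set_option linter.unusedSectionVars false

namespace Cfsg.Agent.ClosedExc.Rk

open CoxeterSystem Cfsg.Agent.ChevalleyStructure.CoxeterGeom Cfsg.Agent.Tits.Roots Cfsg.Agent.Tits.Core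
  Cfsg.Agent.Tits.RootComb
  Cfsg.Agent.Nodes.Reps Cfsg.Agent.Nodes.BNOf Cfsg.Agent.Nodes.StabComb
  Cfsg.Agent.Nodes.Bruhat Cfsg.Agent.Nodes.OppDec Cfsg.Agent.Nodes.FreeTorus Cfsg.Agent.ClosedTwo.Torus

variable {I W Y : Type*} [Fintype I] [DecidableEq I] [Group W] [Group Y] {M : CoxeterMatrix I}
  {cs : CoxeterSystem M W} {C : I → I → ℤ} {h : IsCartan M C} {p : ℕ} {T : Subgroup Y} {n : I → Y}
  {X : (I → ℤ) → Subgroup Y}

theorem X_le_LL (x : I → ℤ) : X x ≤ LL X x := le_sup_left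

theorem X_neg_le_LL (x : I → ℤ) : X (-x) ≤ LL X x := le_sup_right

/-- the negative roots other than `-α_i` -/
def NegNe (cs : CoxeterSystem M W) (h : IsCartan M C) (i : I) : Set (I → ℤ) :=
  {x | IsRoot cs h x ∧ x ≤ 0 ∧ x ≠ -sr i}

variable (R : RGD cs h p T n X)

include R

theorem T_norm_LL {x : I → ℤ} (hx : IsRoot cs h x) {t : Y} (ht : t ∈ T) : cj t (LL X x) = LL X x := by
  unfold LL
  rw [cj_sup, R.tor x hx t ht, R.tor (-x) hx.neg t ht]

theorem rp_cj_LL {w : W} {g : Y} (hg : Rp cs R.nsys w g) {x : I → ℤ} (hx : IsRoot cs h x) :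
    cj g (LL X x) = LL X (rep cs h w x) := by
  unfold LL
  rw [cj_sup, R.conj_rp hg hx, R.conj_rp hg hx.neg, map_neg]

/-- `X (±α_i)` normalizes the join over `NegNe i`. -/
theorem X_norm_NegNe (i : I) {x : I → ℤ} (hx : x = sr i ∨ x = -sr i) :
    X x ≤ Subgroup.normalizer (RGD.Sup X (NegNe cs h i) : Set Y) := by
  have hr : IsRoot cs h x := by
    rcases hx with rfl | rfl
    · exact isRoot_sr cs h i
    · exact (isRoot_sr cs h i).neg
  have hk0 : ∀ k, k ≠ i → x k = 0 := by
    intro k hk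
    rcases hx with rfl | rfl
    · exact sr_ne hk
    · rw [Pi.neg_apply, sr_ne hk, neg_zero]
  refine R.le_normalizer hr ?_
  rintro y ⟨hy, hy0, hyi⟩
  have hny : -y ≠ sr i := fun e => hyi (by rw [← e, neg_neg])
  obtain ⟨k, hk, hk1⟩ := RGD.exists_coeff hy.neg (neg_nonneg.2 hy0) hny
  rw [Pi.neg_apply, neg_pos] at hk1
  refine ⟨hy, Or.inr ⟨?_, ?_⟩⟩
  · intro e
    have h1 := congrFun e k
    rw [hk0 k hk, Pi.neg_apply] at h1
    omega
  · intro z hz
    have hz2 := hz
    obtain ⟨hzr, m, a, b, hm, ha, hb, he⟩ := hz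
    have h1 := congrFun he k
    rw [Pi.smul_apply, Pi.add_apply, Pi.smul_apply, Pi.smul_apply, smul_eq_mul, smul_eq_mul, smul_eq_mul,
      hk0 k hk, mul_zero, zero_add] at h1
    have h2 : z k < 0 := by
      have h3 : b * y k < 0 := mul_neg_of_pos_of_neg hb hk1
      rw [← h1] at h3
      exact neg_of_mul_neg_right h3 hm.le
    refine ⟨hzr, ?_, ?_⟩
    · rcases hzr.pos_or_neg with h3 | h3
      · exact absurd (h3 k) (not_le.2 h2)
      · exact h3
    · intro e
      rw [e, Pi.neg_apply, sr_ne hk, neg_zero] at h2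
      exact lt_irrefl _ h2

theorem LL_norm_NegNe (i : I) : LL X (sr i) ≤ Subgroup.normalizer (RGD.Sup X (NegNe cs h i) : Set Y) :=
  sup_le (X_norm_NegNe R i (Or.inl rfl)) (X_norm_NegNe R i (Or.inr rfl))

theorem LL_norm_PosNe (i : I) : LL X (sr i) ≤ Subgroup.normalizer (RGD.Sup X (RGD.PosNe cs h i) : Set Y) := by
  refine sup_le (R.X_le_normalizer_V i) ?_
  have hnN : n i ∈ Subgroup.normalizer (RGD.Sup X (RGD.PosNe cs h i) : Set Y) := by
    rw [mem_normalizer_iff_cj]
    exact R.cj_n_V i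
  have h2 : cj (n i) (X (sr i)) = X (-sr i) := by rw [R.conj i _ (isRoot_sr cs h i), rep_simple_sr]
  rw [← h2]
  rintro _ ⟨u, hu, rfl⟩
  exact mul_mem (mul_mem hnN (R.X_le_normalizer_V i hu)) (inv_mem hnN)

theorem UN_eq (i : I) : UN cs h X = X (-sr i) ⊔ RGD.Sup X (NegNe cs h i) := by
  apply le_antisymm
  · refine RGD.Sup_le fun z hz => ?_
    by_cases hz0 : z = -sr i
    · subst hz0; exact le_sup_left
    · exact le_trans (RGD.le_Sup (S := NegNe cs h i) ⟨hz.1, hz.2, hz0⟩) le_sup_right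
  · exact sup_le (X_le_UN (isRoot_sr cs h i).neg (neg_nonpos.2 (sr_nonneg i))) (RGD.Sup_mono fun z hz => ⟨hz.1, hz.2.1⟩)

variable [Finite W]

/-- the normalizer of the negative unipotent group -/
theorem mem_BN_of_norm (hG : GG cs h T X = ⊤) {g : Y} (hg : cj g (UN cs h X) = UN cs h X) : g ∈ BN cs h T X := by
  obtain ⟨k, hk⟩ := exists_rp cs R.nsys (w0 cs)
  rw [← cj_B R hk]
  rw [mem_cj, ← Cfsg.Agent.Nodes.NormalForm.normalizer_U R, hG, inf_top_eq, mem_normalizer_iff_cj]
  have h1 : cj k (RGD.Sup X (RGD.Pos cs h)) = UN cs h X := cj_U R hk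
  rw [mul_assoc, cj_mul, cj_mul, h1, hg, ← h1, cj_inv_cj]

theorem cj_UN_of_norm (i : I) {g : Y} (hg : g ∈ LL X (sr i)) (h1 : cj g (X (-sr i)) = X (-sr i)) :
    cj g (UN cs h X) = UN cs h X := by
  rw [UN_eq R i, cj_sup, h1, mem_normalizer_iff_cj.1 (LL_norm_NegNe R i hg)]

theorem mem_T_of_norm_simple (hG : GG cs h T X = ⊤) (i : I) {g : Y} (hg : g ∈ LL X (sr i))
    (h1 : cj g (X (sr i)) = X (sr i)) (h2 : cj g (X (-sr i)) = X (-sr i)) : g ∈ T := by
  have hB : g ∈ RGD.B cs h T X := by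
    rw [← Cfsg.Agent.Nodes.NormalForm.normalizer_U R, hG, inf_top_eq, mem_normalizer_iff_cj, R.Upos_eq i,
      cj_sup, h1, mem_normalizer_iff_cj.1 (LL_norm_PosNe R i hg)]
  have hBN : g ∈ BN cs h T X := mem_BN_of_norm R hG (cj_UN_of_norm R i hg h2)
  rw [← B_inf_BN R]
  exact ⟨hB, hBN⟩

omit [Finite W] in
theorem rp_conj_mem_T {w : W} {g : Y} (hg : Rp cs R.nsys w g) {t : Y} : g * t * g⁻¹ ∈ T ↔ t ∈ T :=
  (Subgroup.mem_normalizer_iff.1 hg.mem_normalizer t).symm

/-- **An element of the rank one group normalizing both root groups is in the torus.** -/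
theorem mem_T_of_norm (hG : GG cs h T X = ⊤) {x : I → ℤ} (hx : IsRoot cs h x) {g : Y} (hg : g ∈ LL X x)
    (h1 : cj g (X x) = X x) (h2 : cj g (X (-x)) = X (-x)) : g ∈ T := by
  obtain ⟨w, i, rfl⟩ := hx
  obtain ⟨k, hk⟩ := exists_rp cs R.nsys w
  have hr := isRoot_sr cs h i
  have e1 := rp_cj_LL R hk hr
  have e2 := R.conj_rp hk hr
  have e3 := R.conj_rp hk hr.neg
  rw [map_neg] at e3
  have h3 : k⁻¹ * g * k ∈ LL X (sr i) := by rw [← mem_cj, e1]; exact hg
  have h4 : k⁻¹ * g * k ∈ T := by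
    refine mem_T_of_norm_simple R hG i h3 ?_ ?_
    · rw [mul_assoc, cj_mul, cj_mul, e2, h1, ← e2, cj_inv_cj]
    · rw [mul_assoc, cj_mul, cj_mul, e3, h2, ← e3, cj_inv_cj]
  rw [← rp_conj_mem_T R hk] at h4
  rwa [show k * (k⁻¹ * g * k) * k⁻¹ = g by group] at h4

/-- `X α_i` acts regularly on the conjugates of `X (-α_i)` -/
theorem eq_one_of_norm (hG : GG cs h T X = ⊤) (i : I) {u : Y} (hu : u ∈ X (sr i))
    (h1 : cj u (X (-sr i)) = X (-sr i)) : u = 1 := by
  have hUN := mem_BN_of_norm R hG (cj_UN_of_norm R i (X_le_LL _ hu) h1)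
  have h2 : u ∈ RGD.Sup X (RGD.Pos cs h) ⊓ BN cs h T X :=
    ⟨RGD.le_Sup (S := RGD.Pos cs h) ⟨isRoot_sr cs h i, sr_nonneg i⟩ hu, hUN⟩
  rwa [U_inf_BN R, Subgroup.mem_bot] at h2

/-- The conjugates of `X α_i` under the rank one group. -/
theorem exists_form (i : I) {g : Y} (hg : g ∈ LL X (sr i)) :
    cj g (X (sr i)) = X (sr i) ∨ ∃ u ∈ X (sr i), cj g (X (sr i)) = cj u (X (-sr i)) := by
  have hr := isRoot_sr cs h i
  have hmem : sr i ∈ RootsJ cs h ({i} : Set I) := ⟨hr, fun k hk => sr_ne hk⟩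
  have hLJ : g ∈ LJ cs h T X ({i} : Set I) := by
    refine (sup_le (X_le_LJ hmem) (X_le_LJ (RootsJ.neg hmem)) : LL X (sr i) ≤ _) hg
  obtain ⟨w, hw, b₁, hb₁, k, hk, b₂, hb₂, rfl⟩ := exists_cellJ R hLJ
  have hBJ : ∀ b ∈ BJ cs h T X ({i} : Set I), ∃ u ∈ X (sr i), ∃ t ∈ T, b = u * t := by
    intro b hb
    obtain ⟨v, hv, u, hu, t, ht, rfl⟩ := mem_BJ' R (Set.mem_singleton i) hb
    have hv1 : v = 1 := by
      have : RGD.Sup X (PosJ cs h {i} \ {sr i}) ≤ ⊥ := by
        refine RGD.Sup_le ?_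
        rintro z ⟨⟨hz, hz0, hzk⟩, hzi⟩
        exact absurd (hz.eq_sr hz0 i hzk) hzi
      exact Subgroup.mem_bot.1 (this hv)
    exact ⟨u, hu, t, ht, by rw [hv1, one_mul]⟩
  have hfix : ∀ b ∈ BJ cs h T X ({i} : Set I), cj b (X (sr i)) = X (sr i) := by
    intro b hb
    obtain ⟨u, hu, t, ht, rfl⟩ := hBJ b hb
    rw [cj_mul, R.tor _ hr t ht, cj_eq_of_mem hu]
  have hw' : w = 1 ∨ w = cs.simple i := by
    unfold WJ at hw
    rw [Set.image_singleton] at hw
    have hsq : cs.simple i ^ 2 = 1 := by rw [pow_two, cs.simple_mul_simple_self]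
    rw [← Subgroup.zpowers_eq_closure] at hw
    obtain ⟨m, rfl⟩ := Subgroup.mem_zpowers_iff.1 hw
    rcases Int.even_or_odd' m with ⟨c, hc | hc⟩
    · left; rw [hc, zpow_mul, zpow_ofNat, hsq, one_zpow]
    · right; rw [hc, zpow_add, zpow_mul, zpow_ofNat, hsq, one_zpow, one_mul, zpow_one]
  rcases hw' with rfl | rfl
  · left
    rw [mul_assoc, cj_mul, cj_mul, hfix _ hb₂, R.tor _ hr k hk.mem_of_one, hfix _ hb₁]
  · right
    obtain ⟨u, hu, t, ht, rfl⟩ := hBJ b₁ hb₁
    refine ⟨u, hu, ?_⟩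
    rw [mul_assoc, cj_mul, cj_mul k, hfix _ hb₂, R.conj_rp hk hr, rep_simple_sr, cj_mul, R.tor _ hr.neg t ht]

omit [Finite W] in
/-- the conjugates of `X x` -/
theorem exists_m' {x : I → ℤ} {w : W} {i : I} (hx : x = rep cs h w (sr i)) :
    ∃ m ∈ LL X x, Rp cs R.nsys (w * cs.simple i * w⁻¹) m := by
  obtain ⟨m, hm, hr⟩ := exists_m R i
  obtain ⟨k, hk⟩ := exists_rp cs R.nsys w
  refine ⟨k * m * k⁻¹, ?_, (hk.mul hr).mul hk.inv⟩
  rw [hx, ← rp_cj_LL R hk (isRoot_sr cs h i)]
  exact conj_mem_cj.2 hm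

variable [Finite Y]

/-- **The number of conjugates of a root group in the rank one group.** -/
theorem card_conj (hG : GG cs h T X = ⊤) {x : I → ℤ} (hx : IsRoot cs h x) :
    Nat.card (Set.range fun g : LL X x => cj (g : Y) (X x)) = Nat.card (X x) + 1 := by
  -- the case of a simple root
  have simple : ∀ i, Nat.card (Set.range fun g : LL X (sr i) => cj (g : Y) (X (sr i))) = Nat.card (X (sr i)) + 1 := by
    intro i
    have hr := isRoot_sr cs h i
    obtain ⟨m, hm, hmr⟩ := exists_m R i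
    have hm1 : cj m (X (sr i)) = X (-sr i) := by rw [R.conj_rp hmr hr, rep_simple_sr]
    let f : Option (X (sr i)) → Subgroup Y := fun o => o.elim (X (sr i)) fun u => cj (u : Y) (X (-sr i))
    have hf : Function.Injective f := by
      have hne : ∀ u : X (sr i), X (sr i) ≠ cj (u : Y) (X (-sr i)) := by
        intro u e
        have h1 : cj (u : Y)⁻¹ (X (sr i)) = X (-sr i) := by
          have := congrArg (cj (u : Y)⁻¹) e
          rwa [cj_inv_cj] at this
        rw [cj_eq_of_mem (inv_mem u.2)] at h1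
        have h2 := X_inf_X R hr hr.neg (by
          intro e2
          have := congrFun e2 i
          rw [Pi.neg_apply, sr_self] at this
          omega)
        rw [← h1, inf_idem] at h2
        exact X_ne_bot R hr h2
      rintro (_ | u) (_ | v) e
      · rfl
      · exact absurd e (hne v)
      · exact absurd e.symm (hne u)
      · have e' : cj (u : Y) (X (-sr i)) = cj (v : Y) (X (-sr i)) := e
        have h1 : cj ((v : Y)⁻¹ * u) (X (-sr i)) = X (-sr i) := by
          rw [cj_mul, e', cj_inv_cj]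
        have h2 := eq_one_of_norm R hG i (mul_mem (inv_mem v.2) u.2) h1
        have h3 : (u : Y) = v := (inv_mul_eq_one.1 h2).symm
        rw [Subtype.ext h3]
    have hrange : Set.range (fun g : LL X (sr i) => cj (g : Y) (X (sr i))) = Set.range f := by
      ext K
      constructor
      · rintro ⟨g, rfl⟩
        rcases exists_form R i g.2 with h1 | ⟨u, hu, h1⟩
        · exact ⟨none, h1.symm⟩
        · exact ⟨some ⟨u, hu⟩, h1.symm⟩
      · rintro ⟨o, rfl⟩
        rcases o with _ | u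
        · exact ⟨1, by simp [f]⟩
        · refine ⟨⟨(u : Y) * m, mul_mem (X_le_LL _ u.2) hm⟩, ?_⟩
          change cj ((u : Y) * m) (X (sr i)) = cj (u : Y) (X (-sr i))
          rw [cj_mul, hm1]
    rw [hrange, Nat.card_range_of_injective hf, Finite.card_option]
  obtain ⟨w, i, rfl⟩ := hx
  obtain ⟨k, hk⟩ := exists_rp cs R.nsys w
  have hr := isRoot_sr cs h i
  have e1 := rp_cj_LL R hk hr
  have e2 := R.conj_rp hk hr
  have e3 : Nat.card (X (rep cs h w (sr i))) = Nat.card (X (sr i)) := by rw [← e2, card_cj]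
  rw [e3, ← simple i]
  have hrange : Set.range (fun g : LL X (rep cs h w (sr i)) => cj (g : Y) (X (rep cs h w (sr i)))) =
      cj k '' Set.range (fun g : LL X (sr i) => cj (g : Y) (X (sr i))) := by
    ext K
    constructor
    · rintro ⟨⟨g, hg⟩, rfl⟩
      have hg' := hg
      rw [← e1, mem_cj] at hg'
      refine ⟨_, ⟨⟨k⁻¹ * g * k, hg'⟩, rfl⟩, ?_⟩
      change cj k (cj (k⁻¹ * g * k) (X (sr i))) = cj g (X (rep cs h w (sr i)))
      rw [← e2, ← cj_mul, ← cj_mul]
      congr 1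
      group
    · rintro ⟨_, ⟨⟨g, hg⟩, rfl⟩, rfl⟩
      refine ⟨⟨k * g * k⁻¹, by rw [← e1]; exact conj_mem_cj.2 hg⟩, ?_⟩
      change cj (k * g * k⁻¹) (X (rep cs h w (sr i))) = cj k (cj g (X (sr i)))
      rw [← e2, ← cj_mul, ← cj_mul]
      congr 1
      group
  rw [hrange]
  refine Nat.card_image_of_injective ?_ _
  intro K K' e
  have := congrArg (cj k⁻¹) e
  rwa [cj_inv_cj, cj_inv_cj] at this

end Cfsg.Agent.ClosedExc.Rk

end

-- merged: Cfsg.Agent.ClosedExc.Prod
section

/-!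
# Pairwise commuting subgroups (helper50, S1252)

* `card_sup_mul'` : `|K H| |K ∩ H| = |K| |H|`;
* `card_dvd` : the order of the join of pairwise commuting subgroups `L a` with subgroups `K a ≤ L a`;
* `mem_of_prod` : membership by components.
-/

set_option autoImplicit false
set_option linter.unusedSectionVars false

namespace Cfsg.Agent.ClosedExc.Prod

open Subgroup Cfsg.Agent.Nodes.Reps

variable {G : Type*} [Group G]

theorem card_mul_relIndex' {H K : Subgroup G} (h : H ≤ K) : Nat.card H * H.relIndex K = Nat.card K := by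
  rw [Subgroup.relIndex, ← Nat.card_congr (Subgroup.subgroupOfEquivOfLe h).toEquiv]
  exact Subgroup.card_mul_index _

/-- `|K H| |K ∩ H| = |K| |H|` -/
theorem card_sup_mul' {K H : Subgroup G} (h : H ≤ normalizer (K : Set G)) :
    Nat.card (K ⊔ H : Subgroup G) * Nat.card (K ⊓ H : Subgroup G) = Nat.card K * Nat.card H := by
  have hKn : (K.subgroupOf (K ⊔ H)).Normal :=
    normal_subgroupOf_of_le_normalizer (sup_le le_normalizer h)
  have h1 := relIndex_sup_left (H.subgroupOf (K ⊔ H)) (K.subgroupOf (K ⊔ H))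
  rw [← Subgroup.subgroupOf_sup le_sup_left le_sup_right, Subgroup.subgroupOf_self,
    Subgroup.relIndex_subgroupOf le_sup_right, relIndex_top_right] at h1
  have h2 : Nat.card K * K.relIndex H = Nat.card (K ⊔ H : Subgroup G) := by
    rw [← h1]
    exact card_mul_relIndex' le_sup_left
  have h3 : Nat.card (K ⊓ H : Subgroup G) * K.relIndex H = Nat.card H := by
    rw [← Subgroup.inf_relIndex_right K H]
    exact card_mul_relIndex' inf_le_right
  calc _ = Nat.card (K ⊔ H : Subgroup G) * Nat.card (K ⊓ H : Subgroup G) := rfl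
    _ = Nat.card K * (Nat.card (K ⊓ H : Subgroup G) * K.relIndex H) := by rw [← h2]; ring
    _ = _ := by rw [h3]

/-- conjugation by a commuting element -/
theorem cj_eq_of_commute {L : Subgroup G} {x : G} (hc : ∀ y ∈ L, Commute x y) {K : Subgroup G} (hK : K ≤ L) :
    cj x K = K := by
  ext y
  rw [mem_cj]
  constructor
  · intro hy
    have h1 : x * (x⁻¹ * y * x) = (x⁻¹ * y * x) * x := hc _ (hK hy)
    have h2 : x⁻¹ * y * x = y := by
      have h3 : x * (x⁻¹ * y * x) = y * x := by group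
      rw [h3] at h1
      exact (mul_right_cancel h1).symm
    rwa [h2] at hy
  · intro hy
    have h1 : x * y = y * x := hc _ (hK hy)
    rwa [mul_assoc, ← h1, inv_mul_cancel_left]

variable {ι : Type*} {L K : ι → Subgroup G}

section

variable (hc : ∀ a b, a ≠ b → ∀ x ∈ L a, ∀ y ∈ L b, Commute x y)

include hc

/-- every element of the join acts on each factor as an element of the factor -/
theorem exists_local {x : G} (hx : x ∈ ⨆ a, L a) (a : ι) : ∃ l ∈ L a, ∀ y ∈ L a, x * y * x⁻¹ = l * y * l⁻¹ := by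
  induction hx using Subgroup.iSup_induction' with
  | hp b x hx =>
    by_cases hab : b = a
    · subst hab
      exact ⟨x, hx, fun y _ => rfl⟩
    · refine ⟨1, one_mem _, fun y hy => ?_⟩
      rw [(hc b a hab x hx y hy).eq, mul_inv_cancel_right, one_mul, inv_one, mul_one]
  | h1 => exact ⟨1, one_mem _, fun y _ => rfl⟩
  | hmul x y _ _ h1 h2 =>
    obtain ⟨l1, hl1, e1⟩ := h1
    obtain ⟨l2, hl2, e2⟩ := h2
    refine ⟨l1 * l2, mul_mem hl1 hl2, fun z hz => ?_⟩
    have h3 : l2 * z * l2⁻¹ ∈ L a := mul_mem (mul_mem hl2 hz) (inv_mem hl2)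
    have h4 := e1 _ h3
    rw [← e2 z hz] at h4
    rw [show x * y * z * (x * y)⁻¹ = x * (y * z * y⁻¹) * x⁻¹ by group, h4, e2 z hz]
    group

theorem exists_local_cj (hKL : ∀ a, K a ≤ L a) {x : G} (hx : x ∈ ⨆ a, L a) (a : ι) :
    ∃ l ∈ L a, cj x (K a) = cj l (K a) := by
  obtain ⟨l, hl, e⟩ := exists_local hc hx a
  refine ⟨l, hl, ?_⟩
  ext y
  constructor
  · rintro ⟨z, hz, rfl⟩
    exact ⟨z, hz, (e z (hKL a hz)).symm⟩
  · rintro ⟨z, hz, rfl⟩
    exact ⟨z, hz, e z (hKL a hz)⟩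

variable [Finite ι]

theorem exists_prod (hKL : ∀ a, K a ≤ L a) (g : ∀ a, L a) :
    ∃ x ∈ ⨆ a, L a, ∀ a, cj x (K a) = cj (g a : G) (K a) := by
  classical
  have : Fintype ι := Fintype.ofFinite ι
  have key : ∀ s : Finset ι, ∃ x ∈ ⨆ a, L a, (∀ a ∈ s, cj x (K a) = cj (g a : G) (K a)) ∧
      ∀ a, a ∉ s → ∀ y ∈ L a, Commute x y := by
    intro s
    induction s using Finset.induction_on with
    | empty => exact ⟨1, one_mem _, fun a ha => absurd ha (Finset.notMem_empty a), fun a _ y _ => Commute.one_left y⟩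
    | insert b s hb ih =>
      obtain ⟨x, hx, h1, h2⟩ := ih
      refine ⟨(g b : G) * x, mul_mem (le_iSup L b (g b).2) hx, ?_, ?_⟩
      · intro a ha
        rw [cj_mul]
        by_cases hab : a = b
        · subst hab
          rw [cj_eq_of_commute (h2 a hb) (hKL a)]
        · have ha' : a ∈ s := (Finset.mem_insert.1 ha).resolve_left hab
          rw [h1 a ha']
          have h3 : cj (g b : G) (cj (g a : G) (K a)) = cj (g a : G) (K a) := by
            refine cj_eq_of_commute (L := L a) (fun y hy => hc b a (Ne.symm hab) _ (g b).2 y hy) ?_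
            rintro _ ⟨z, hz, rfl⟩
            exact mul_mem (mul_mem (g a).2 (hKL a hz)) (inv_mem (g a).2)
          exact h3
      · intro a ha y hy
        rw [Finset.mem_insert, not_or] at ha
        exact (hc b a (Ne.symm ha.1) _ (g b).2 y hy).mul_left (h2 a ha.2 y hy)
  obtain ⟨x, hx, h1, -⟩ := key Finset.univ
  exact ⟨x, hx, fun a => h1 a (Finset.mem_univ a)⟩

/-- **The order of the join.** -/
theorem card_dvd [Finite G] (hKL : ∀ a, K a ≤ L a) [Fintype ι] {St : Subgroup G}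
    (hSt : ∀ s ∈ St, ∀ a, cj s (K a) = K a) :
    Nat.card ↥((⨆ a, L a) ⊓ St) * ∏ a, Nat.card (Set.range fun g : L a => cj (g : G) (K a)) ∣
      Nat.card ↥(⨆ a, L a) := by
  classical
  set E := ⨆ a, L a with hE
  let F : E → (∀ a, Set.range fun g : L a => cj (g : G) (K a)) := fun x a =>
    ⟨cj (x : G) (K a), by
      obtain ⟨l, hl, e⟩ := exists_local_cj hc hKL (hE ▸ x.2 : (x : G) ∈ ⨆ a, L a) a
      exact ⟨⟨l, hl⟩, e.symm⟩⟩
  have hF : Function.Surjective F := by
    intro k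
    choose g hg using fun a => (k a).2
    obtain ⟨x, hx, e⟩ := exists_prod hc hKL g
    refine ⟨⟨x, hx⟩, ?_⟩
    funext a
    exact Subtype.ext ((e a).trans (hg a))
  let St' : Subgroup E :=
    { carrier := {x | ∀ a, cj (x : G) (K a) = K a}
      one_mem' := fun a => cj_one _
      mul_mem' := fun {x y} hx hy a => by
        change cj ((x : G) * y) (K a) = K a
        rw [cj_mul, hy a, hx a]
      inv_mem' := fun {x} hx a => by
        change cj (x : G)⁻¹ (K a) = K a
        conv_lhs => rw [← hx a]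
        exact cj_inv_cj _ _ }
  have hlift : ∀ x y : E, x⁻¹ * y ∈ St' ↔ F x = F y := by
    intro x y
    constructor
    · intro h
      funext a
      refine Subtype.ext ?_
      change cj (x : G) (K a) = cj (y : G) (K a)
      have h1 : cj ((x : G)⁻¹ * y) (K a) = K a := h a
      rw [cj_mul] at h1
      conv_lhs => rw [← h1]
      exact cj_cj_inv _ _
    · intro h a
      have h1 : cj (x : G) (K a) = cj (y : G) (K a) := congrArg Subtype.val (congrFun h a)
      change cj ((x : G)⁻¹ * y) (K a) = K a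
      rw [cj_mul, ← h1, cj_inv_cj]
  let F' : E ⧸ St' → (∀ a, Set.range fun g : L a => cj (g : G) (K a)) :=
    Quotient.lift F fun x y hxy => (hlift x y).1 (QuotientGroup.leftRel_apply.1 hxy)
  have hF' : Function.Bijective F' := by
    constructor
    · intro x y
      induction x using QuotientGroup.induction_on with
      | H x =>
        induction y using QuotientGroup.induction_on with
        | H y => exact fun e => QuotientGroup.eq.2 ((hlift x y).2 e)
    · intro k
      obtain ⟨x, hx⟩ := hF k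
      exact ⟨(x : E ⧸ St'), hx⟩
  have h1 : Nat.card (E ⧸ St') = ∏ a, Nat.card (Set.range fun g : L a => cj (g : G) (K a)) := by
    rw [Nat.card_congr (Equiv.ofBijective F' hF'), Nat.card_pi]
  have h2 := Subgroup.card_eq_card_quotient_mul_card_subgroup St'
  rw [h1, mul_comm] at h2
  rw [h2]
  refine mul_dvd_mul ?_ dvd_rfl
  have h3 : St.subgroupOf E ≤ St' := fun x hx a => hSt _ (mem_subgroupOf.1 hx) a
  have h4 : Nat.card ↥(St.subgroupOf E) = Nat.card ↥(E ⊓ St) := by
    rw [← inf_subgroupOf_right, inf_comm St E]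
    exact Nat.card_congr (subgroupOfEquivOfLe inf_le_left).toEquiv
  rw [← h4]
  exact card_dvd_of_le h3

/-- **Membership by components.** -/
theorem mem_of_prod {K' : ι → Subgroup G} {T : Subgroup G}
    (hT : ∀ a, ∀ y ∈ L a, cj y (K a) = K a → cj y (K' a) = K' a → y ∈ T)
    (hKL : ∀ a, K a ≤ L a) (hKL' : ∀ a, K' a ≤ L a) {x : G} (hx : x ∈ ⨆ a, L a)
    (h1 : ∀ a, cj x (K a) = K a) (h2 : ∀ a, cj x (K' a) = K' a) : x ∈ T := by
  classical
  have : Fintype ι := Fintype.ofFinite ι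
  have key : ∀ s : Finset ι, ∀ x ∈ ⨆ a ∈ s, L a, (∀ a ∈ s, cj x (K a) = K a ∧ cj x (K' a) = K' a) → x ∈ T := by
    intro s
    induction s using Finset.induction_on with
    | empty =>
      intro x hx _
      have : x = 1 := by simpa only [_root_.Finset.notMem_empty, _root_.not_false_eq_true, _root_.iSup_neg, _root_.iSup_bot, _root_.Subgroup.mem_bot] using hx
      rw [this]; exact one_mem _
    | insert b s hb ih =>
      intro x hx hK
      rw [Finset.iSup_insert] at hx
      have hcs : ∀ y ∈ L b, ∀ z ∈ ⨆ a ∈ s, L a, Commute y z := by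
        intro y hy z hz
        have hle : (⨆ a ∈ s, L a) ≤ centralizer ({y} : Set G) := by
          refine iSup₂_le fun a ha u hu => ?_
          rw [mem_centralizer_singleton_iff]
          exact (hc b a (fun e => hb (e ▸ ha)) y hy u hu).symm
        exact (mem_centralizer_singleton_iff.1 (hle hz)).symm
      have hn : (⨆ a ∈ s, L a) ≤ normalizer (L b : Set G) := by
        refine le_trans ?_ (centralizer_le_normalizer (s := (L b : Set G)))
        intro z hz
        rw [mem_centralizer_iff]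
        exact fun y hy => (hcs y hy z hz).eq
      have hx' : x ∈ ((L b ⊔ ⨆ a ∈ s, L a : Subgroup G) : Set G) := hx
      rw [coe_mul_of_right_le_normalizer_left _ _ hn, Set.mem_mul] at hx'
      obtain ⟨y, hy, z, hz, rfl⟩ := hx'
      have hz' : z ∈ T := by
        refine ih z hz fun a ha => ?_
        have hab : b ≠ a := fun e => hb (e ▸ ha)
        obtain ⟨e1, e2⟩ := hK a (Finset.mem_insert_of_mem ha)
        have hyz : (y : G) * z = z * y := hcs y hy z hz
        rw [hyz, cj_mul, cj_eq_of_commute (fun u hu => hc b a hab y hy u hu) (hKL a)] at e1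
        rw [hyz, cj_mul, cj_eq_of_commute (fun u hu => hc b a hab y hy u hu) (hKL' a)] at e2
        exact ⟨e1, e2⟩
      obtain ⟨e1, e2⟩ := hK b (Finset.mem_insert_self b s)
      have hzb : ∀ u ∈ L b, Commute z u := fun u hu => (hcs u hu z hz).symm
      rw [cj_mul, cj_eq_of_commute hzb (hKL b)] at e1
      rw [cj_mul, cj_eq_of_commute hzb (hKL' b)] at e2
      exact mul_mem (hT b y hy e1 e2) hz'
  refine key Finset.univ x (by simpa only [_root_.Finset.mem_univ, _root_.iSup_pos] using hx) fun a _ => ⟨h1 a, h2 a⟩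

end

end Cfsg.Agent.ClosedExc.Prod

end

-- merged: Cfsg.Agent.ClosedExc.FullOn
section

/-!
# Subgroups all of whose 2-elements are conjugate into a strongly closed subgroup (helper50, S1252)

* `FullOn A L` : all 2-elements of `L` are conjugate into `A`;
* `FullOn.sup` : `FullOn A L`, `FullOn A H`, `H` normalizes `L` imply `FullOn A (L ⊔ H)`;
* `eq_of_fullOn` : `A = S` if `FullOn A R` for a subgroup `R` of odd index; `exists_invol_mem` : otherwise an
  involution of `R` is conjugate into `A`, if `A ≠ 1`;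
* `IsSL L` : `L` is a quotient of `SL(2,q)` by a subgroup of `{1, -1}`, `q` odd; `IsSL.of_normalizes`, `IsSL.of_swap`.
-/

set_option autoImplicit false
set_option linter.unusedSectionVars false

namespace Cfsg.Agent.ClosedExc

open Subgroup Cfsg Cfsg.Agent.ClosedTwo.Elem

variable {G : Type*} [Group G]

/-- All the 2-elements of `L` are conjugate into `A`. -/
def FullOn (A L : Subgroup G) : Prop := ∀ x ∈ L, ∀ k : ℕ, x ^ 2 ^ k = 1 → Cl A x

theorem FullOn.mono {A L L' : Subgroup G} (h : FullOn A L) (hle : L' ≤ L) : FullOn A L' :=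
  fun x hx => h x (hle hx)

theorem FullOn.of_conj {A L L' : Subgroup G} (h : FullOn A L) (g : G) (hg : ∀ x ∈ L', g * x * g⁻¹ ∈ L) :
    FullOn A L' := by
  intro x hx k hxk
  refine Cl.of_conj (g := g) (h _ (hg x hx) k ?_)
  rw [conj_pow, hxk, mul_one, mul_inv_cancel]

theorem FullOn.map_conj {A L : Subgroup G} (h : FullOn A L) (g : G) :
    FullOn A (L.map (MulAut.conj g).toMonoidHom) := by
  refine h.of_conj g⁻¹ ?_
  rintro _ ⟨x, hx, rfl⟩
  change g⁻¹ * (g * x * g⁻¹) * g⁻¹⁻¹ ∈ L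
  rwa [show g⁻¹ * (g * x * g⁻¹) * g⁻¹⁻¹ = x by group]

variable [Finite G] {S : Sylow 2 G} {A : Subgroup G}

/-- **Products.** -/
theorem FullOn.sup (hA : IsStronglyClosed A (S : Subgroup G)) {L H : Subgroup G} (hL : FullOn A L)
    (hH : FullOn A H) (hn : H ≤ normalizer (L : Set G)) : FullOn A (L ⊔ H) := by
  have hp : Fact (Nat.Prime 2) := ⟨Nat.prime_two⟩
  intro x hx k hxk
  have hLV : L ≤ L ⊔ H := le_sup_left
  have hHV : H ≤ L ⊔ H := le_sup_right
  have hLn : (L.subgroupOf (L ⊔ H)).Normal :=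
    (normal_subgroupOf_iff_le_normalizer hLV).2 (sup_le le_normalizer hn)
  set π : ↥(L ⊔ H) →* ↥(L ⊔ H) ⧸ L.subgroupOf (L ⊔ H) := QuotientGroup.mk' _ with hπ
  set f : H →* ↥(L ⊔ H) ⧸ L.subgroupOf (L ⊔ H) := π.comp (inclusion hHV) with hf
  have hfs : Function.Surjective f := by
    intro y
    obtain ⟨⟨v, hv⟩, rfl⟩ := QuotientGroup.mk'_surjective _ y
    have hv' : v ∈ ((H ⊔ L : Subgroup G) : Set G) := by rw [sup_comm]; exact hv
    rw [coe_mul_of_left_le_normalizer_right _ _ hn, Set.mem_mul] at hv'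
    obtain ⟨b, hb, l, hl, rfl⟩ := hv'
    refine ⟨⟨b, hb⟩, ?_⟩
    change QuotientGroup.mk' _ _ = QuotientGroup.mk' _ _
    refine QuotientGroup.eq.2 ?_
    rw [mem_subgroupOf]
    change b⁻¹ * (b * l) ∈ L
    rwa [inv_mul_cancel_left]
  let P : Sylow 2 H := default
  obtain ⟨Q', hQ⟩ := (P.2.map (inclusion hHV)).exists_le_sylow
  -- the images in the quotient
  have himg : (Q' : Subgroup ↥(L ⊔ H)).map π = (P : Subgroup H).map f := by
    have h1 : (P.mapSurjective hfs : Subgroup _) = (P : Subgroup H).map f := Sylow.coe_mapSurjective hfs P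
    rw [← h1]
    refine (P.mapSurjective hfs).is_maximal' (Q'.2.map π) ?_
    rw [h1, hf, ← Subgroup.map_map]
    exact map_mono hQ
  have hall : ∀ s : ↥(L ⊔ H), s ∈ Q' → Cl A (s : G) := by
    intro s hs
    have h1 : π s ∈ (P : Subgroup H).map f := by rw [← himg]; exact ⟨s, hs, rfl⟩
    obtain ⟨b, hb, hbs⟩ := h1
    have h2 : (inclusion hHV b)⁻¹ * s ∈ L.subgroupOf (L ⊔ H) := QuotientGroup.eq.1 hbs
    have hbQ : inclusion hHV b ∈ Q' := hQ ⟨b, hb, rfl⟩
    have hP2 : IsPGroup 2 ↥((Q' : Subgroup ↥(L ⊔ H)).map (L ⊔ H).subtype) := Q'.2.map _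
    have h3 : (inclusion hHV b)⁻¹ * s ∈ (Q' : Subgroup ↥(L ⊔ H)) := mul_mem (inv_mem hbQ) hs
    have hpow : ∀ y : ↥(L ⊔ H), y ∈ Q' → ∃ m : ℕ, (y : G) ^ 2 ^ m = 1 := by
      intro y hy
      obtain ⟨m, hm⟩ := Q'.2 ⟨y, hy⟩
      exact ⟨m, congrArg (fun z : Q' => ((z : ↥(L ⊔ H)) : G)) hm⟩
    obtain ⟨m1, hm1⟩ := hpow _ hbQ
    obtain ⟨m2, hm2⟩ := hpow _ h3
    have c1 : Cl A ((inclusion hHV b : ↥(L ⊔ H)) : G) := hH _ b.2 m1 hm1
    have c2 : Cl A (((inclusion hHV b)⁻¹ * s : ↥(L ⊔ H)) : G) := hL _ (mem_subgroupOf.1 h2) m2 hm2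
    have := Cl.mul hA hP2 ⟨_, hbQ, rfl⟩ ⟨_, h3, rfl⟩ c1 c2
    have e : (L ⊔ H).subtype (inclusion hHV b) * (L ⊔ H).subtype ((inclusion hHV b)⁻¹ * s) = (s : G) := by
      rw [← map_mul, mul_inv_cancel_left]; rfl
    rwa [e] at this
  -- conjugating `x` into `Q'`
  have hz : IsPGroup 2 ↥(zpowers (⟨x, hx⟩ : ↥(L ⊔ H))) := isPGroup_zpowers (k := k) (Subtype.ext hxk)
  obtain ⟨g, hg⟩ := exists_conj_le Q' hz
  have := hall _ (hg _ (mem_zpowers _))
  exact Cl.of_conj (g := (g : G)) this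

/-- the case of two commuting subgroups -/
theorem FullOn.sup_of_commute (hA : IsStronglyClosed A (S : Subgroup G)) {L H : Subgroup G} (hL : FullOn A L)
    (hH : FullOn A H) (hc : ∀ x ∈ L, ∀ y ∈ H, Commute x y) : FullOn A (L ⊔ H) := by
  refine hL.sup hA hH ?_
  refine le_trans ?_ (centralizer_le_normalizer (s := (L : Set G)))
  intro y hy
  rw [mem_centralizer_iff]
  exact fun x hx => (hc x hx y hy).eq

theorem fullOn_bot : FullOn A (⊥ : Subgroup G) := by
  intro x hx k _
  rw [mem_bot] at hx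
  rw [hx]
  exact cl_one

/-- finitely many pairwise commuting subgroups -/
theorem fullOn_iSup (hA : IsStronglyClosed A (S : Subgroup G)) {ι : Type*} [Finite ι] {L : ι → Subgroup G}
    (hL : ∀ a, FullOn A (L a)) (hc : ∀ a b, a ≠ b → ∀ x ∈ L a, ∀ y ∈ L b, Commute x y) :
    FullOn A (⨆ a, L a) := by
  classical
  have : Fintype ι := Fintype.ofFinite ι
  have key : ∀ s : Finset ι, FullOn A (⨆ a ∈ s, L a) := by
    intro s
    induction s using Finset.induction_on with
    | empty => simpa only [_root_.Finset.notMem_empty, _root_.not_false_eq_true, _root_.iSup_neg, _root_.iSup_bot] using fullOn_bot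
    | insert a s ha ih =>
      rw [Finset.iSup_insert]
      refine (hL a).sup_of_commute hA ih ?_
      intro x hx y hy
      have hle : (⨆ b ∈ s, L b) ≤ centralizer ({x} : Set G) := by
        refine iSup₂_le fun b hb z hz => ?_
        rw [mem_centralizer_singleton_iff]
        exact (hc a b (fun e => ha (e ▸ hb)) x hx z hz).symm
      exact (mem_centralizer_singleton_iff.1 (hle hy)).symm
  have := key Finset.univ
  simpa only [_root_.Finset.mem_univ, _root_.iSup_pos] using this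

/-- a 2-subgroup is conjugate into any subgroup of odd index -/
theorem exists_conj_mem (P : Sylow 2 G) {R : Subgroup G} (hR : ¬ 2 ∣ R.index) :
    ∃ g : G, ∀ x ∈ (P : Subgroup G), g⁻¹ * x * g ∈ R := by
  have hp : Fact (Nat.Prime 2) := ⟨Nat.prime_two⟩
  obtain ⟨y, hy⟩ := P.2.nonempty_fixed_point_of_prime_not_dvd_card (G ⧸ R) hR
  induction y using QuotientGroup.induction_on with
  | H g =>
    refine ⟨g, fun x hx => ?_⟩
    have h1 := hy ⟨x, hx⟩
    have h2 : ((x * g : G) : G ⧸ R) = (g : G ⧸ R) := h1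
    have h3 := QuotientGroup.eq.1 h2.symm
    rwa [← mul_assoc] at h3

theorem eq_of_fullOn (hA : IsStronglyClosed A (S : Subgroup G)) {R : Subgroup G} (hR : ¬ 2 ∣ R.index)
    (h : FullOn A R) : A = (S : Subgroup G) := by
  obtain ⟨g, hg⟩ := exists_conj_mem S hR
  refine eq_of_cl hA fun x hx => ?_
  obtain ⟨k, hk⟩ := S.2 ⟨x, hx⟩
  have hk' : x ^ 2 ^ k = 1 := congrArg Subtype.val hk
  have h1 := h _ (hg x hx) k (by
    have : g⁻¹ * x * g = g⁻¹ * x * g⁻¹⁻¹ := by rw [inv_inv]
    rw [this, conj_pow, hk', mul_one, mul_inv_cancel])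
  refine Cl.of_conj (g := g⁻¹) ?_
  rwa [inv_inv]

theorem exists_invol_mem (hA : IsStronglyClosed A (S : Subgroup G)) (hne : A ≠ ⊥) {R : Subgroup G}
    (hR : ¬ 2 ∣ R.index) : ∃ a ∈ R, a * a = 1 ∧ a ≠ 1 ∧ Cl A a := by
  obtain ⟨t, ht, htt, ht1⟩ := exists_involution hA hne
  obtain ⟨g, hg⟩ := exists_conj_mem S hR
  refine ⟨g⁻¹ * t * g, hg t (hA.1 ht), ?_, ?_, ?_⟩
  · rw [show g⁻¹ * t * g * (g⁻¹ * t * g) = g⁻¹ * (t * t) * g by group, htt, mul_one, inv_mul_cancel]
  · intro h
    apply ht1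
    have : t = g * (g⁻¹ * t * g) * g⁻¹ := by group
    rw [this, h]; group
  · have := (cl_of_mem ht).conj g⁻¹
    rwa [inv_inv] at this

/-! ### subgroups `(P)SL(2,q)` -/

/-- `L` is a quotient of `SL(2,q)`, `q` odd, by a subgroup of `{1, -1}`. -/
def IsSL (L : Subgroup G) : Prop :=
  ∃ (F : Type) (_ : Field F) (_ : Fintype F) (φ : Matrix.SpecialLinearGroup (Fin 2) F →* G),
    Odd (Fintype.card F) ∧ (∀ u, φ u = 1 → u = 1 ∨ u = -1) ∧ φ.range = L

theorem IsSL.map_conj {L : Subgroup G} (h : IsSL L) (g : G) : IsSL (L.map (MulAut.conj g).toMonoidHom) := by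
  obtain ⟨F, i1, i2, φ, hF, hker, rfl⟩ := h
  refine ⟨F, i1, i2, (MulAut.conj g).toMonoidHom.comp φ, hF, fun u hu => hker u ?_, ?_⟩
  · have h1 : (MulAut.conj g) (φ u) = 1 := hu
    exact (MulAut.conj g).map_eq_one_iff.1 h1
  · rw [MonoidHom.range_comp]

theorem fullOn_range {F : Type} [Field F] {φ : Matrix.SpecialLinearGroup (Fin 2) F →* G}
    (hker : ∀ u, φ u = 1 → u = 1 ∨ u = -1) (h : Full A φ) : FullOn A φ.range := by
  rintro _ ⟨u, rfl⟩ k hk
  rw [← map_pow] at hk
  refine h u (k + 1) ?_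
  rw [pow_succ, pow_mul]
  rcases hker _ hk with h1 | h1
  · rw [h1, one_pow]
  · rw [h1]; simp only [_root_.even_two, _root_.Even.neg_pow, _root_.one_pow]

theorem IsSL.of_normalizes (hA : IsStronglyClosed A (S : Subgroup G)) {L : Subgroup G} (hL : IsSL L) {a : G}
    (haa : a * a = 1) (ha : Cl A a) (hn : ∀ x ∈ L, a * x * a⁻¹ ∈ L) (hc : ∃ x ∈ L, a * x ≠ x * a) :
    FullOn A L := by
  obtain ⟨F, i1, i2, φ, hF, hker, rfl⟩ := hL
  refine fullOn_range hker (full_of_normalizes hF hA hker haa ha ?_ ?_)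
  · intro u
    obtain ⟨v, hv⟩ := hn _ ⟨u, rfl⟩
    exact ⟨v, hv.symm⟩
  · obtain ⟨_, ⟨u, rfl⟩, hu⟩ := hc
    exact ⟨u, hu⟩

theorem IsSL.of_swap (hA : IsStronglyClosed A (S : Subgroup G)) {L : Subgroup G} (hL : IsSL L) {a : G} {k : ℕ}
    (hak : a ^ 2 ^ k = 1) (ha : Cl A a) (ha2 : ∀ x ∈ L, a * (a * x * a⁻¹) * a⁻¹ = x)
    (hc : ∀ x ∈ L, ∀ y ∈ L, Commute (a * x * a⁻¹) y) : FullOn A L := by
  obtain ⟨F, i1, i2, φ, hF, hker, rfl⟩ := hL
  exact fullOn_range hker (full_of_swap hF hA hak ha (fun u => ha2 _ ⟨u, rfl⟩) fun u u' => hc _ ⟨u, rfl⟩ _ ⟨u', rfl⟩)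

/-- a quotient of `SL(2,q)` is not commutative -/
theorem IsSL.exists_not_commute {L : Subgroup G} (hL : IsSL L) : ∃ x ∈ L, ∃ y ∈ L, ¬ Commute x y := by
  obtain ⟨F, i1, i2, φ, hF, hker, rfl⟩ := hL
  by_contra hno
  push Not at hno
  have h1 : ∀ v : Matrix.SpecialLinearGroup (Fin 2) F, v = 1 ∨ v = -1 := by
    intro v
    refine SL.eq_of_central hF fun u => ?_
    have h2 := hno _ ⟨v, rfl⟩ _ ⟨u, rfl⟩
    have h3 : φ (v * u * (u * v)⁻¹) = 1 := by
      rw [map_mul, map_mul, h2.eq, ← map_mul, ← map_mul, mul_inv_cancel, map_one]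
    rcases hker _ h3 with h4 | h4
    · left; exact mul_inv_eq_one.1 h4
    · right
      rw [mul_inv_eq_iff_eq_mul] at h4
      rw [h4, neg_one_mul]
  have h2 := h1 (Lib.SL2Mat.up 1)
  have e : Lib.SL2Mat.ent (Lib.SL2Mat.up (1 : F)) 0 1 = 1 := Lib.SL2Mat.up_01 1
  rcases h2 with h2 | h2
  · rw [h2, Lib.SL2Mat.ent_one_01] at e
    exact zero_ne_one e
  · rw [h2, SL.ent_neg, Lib.SL2Mat.ent_one_01, neg_zero] at e
    exact zero_ne_one e

end Cfsg.Agent.ClosedExc

end

-- merged: Cfsg.Agent.ClosedExc.WDef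
section

/-!
# Frames in Weyl groups: definitions (helper50, S1252)

`WFrame cs h O k N` : `k` roots, pairwise related by `O`, and a subgroup `P` of order `N` of the Weyl group permuting
them up to sign, only `1` fixing all of them up to sign, generated by products of reflections in roots pairwise related
by `O`.
-/

set_option autoImplicit false

namespace Cfsg.Agent.ClosedExc.Frame

open CoxeterSystem Cfsg.Agent.ChevalleyStructure.CoxeterGeom Cfsg.Agent.Tits.Roots Cfsg.Agent.Nodes.RGDChev Cfsg.Lie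

variable {I W : Type*} [Fintype I] [DecidableEq I] [Group W] {M : CoxeterMatrix I}

/-- `γ` is a root and `w` the reflection in `γ`. -/
def IsRefl (cs : CoxeterSystem M W) {C : I → I → ℤ} (h : IsCartan M C) (γ : I → ℤ) (w : W) : Prop :=
  ∃ v i, γ = rep cs h v (sr i) ∧ w = v * cs.simple i * v⁻¹

/-- A frame of `k` roots and a group of order `N`. -/
def WFrame (cs : CoxeterSystem M W) {C : I → I → ℤ} (h : IsCartan M C) (O : (I → ℤ) → (I → ℤ) → Prop)
    (k N : ℕ) : Prop :=
  ∃ (β : Fin k → I → ℤ) (P : Subgroup W) (Γ : Set W), (∀ a, IsRoot cs h (β a)) ∧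
    (∀ a b, a ≠ b → O (β a) (β b)) ∧
    (∀ w ∈ P, ∀ a, ∃ b, rep cs h w (β a) = β b ∨ rep cs h w (β a) = -β b) ∧
    (∀ w ∈ P, (∀ a, rep cs h w (β a) = β a ∨ rep cs h w (β a) = -β a) → w = 1) ∧
    Nat.card P = N ∧ P = Subgroup.closure Γ ∧
    ∀ w ∈ Γ, ∃ L : List ((I → ℤ) × W), (∀ p ∈ L, IsRefl cs h p.1 p.2) ∧ L.Pairwise (fun p q => O p.1 q.1) ∧
      w = (L.map Prod.snd).prod

/-- The roots `r`, `s` are different, not opposite, and the root groups of `± r`, `± s` commute. -/
def orthB (D : ChevalleyDatum) (r s : ℕ) : Bool :=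
  decide (r < D.nroots) && decide (s < D.nroots) && decide (s ≠ r) && decide (s ≠ D.neg r) &&
    (D.commTerms r s).isEmpty && (D.commTerms (D.neg r) s).isEmpty && (D.commTerms r (D.neg s)).isEmpty &&
    (D.commTerms (D.neg r) (D.neg s)).isEmpty

/-- The roots `x`, `y` are orthogonal, with commuting root groups. -/
def Orth (D : ChevalleyDatum) (l : ℕ) (x y : Fin l → ℤ) : Prop :=
  ∃ r s, orthB D r s = true ∧ x = vec D l r ∧ y = vec D l s

end Cfsg.Agent.ClosedExc.Frame

end

-- merged: Cfsg.Agent.ClosedExc.Frame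
section

/-!
# Strongly closed 2-subgroups and frames of commuting rank one groups (helper50, S1252)

`R` a root group datum of the finite group `Y`, generated by its root groups, with abelian torus `T`; all rank one
groups are quotients of `SL(2,q)` (`q` odd, depending on the root) by subgroups of `{1, -1}`; a frame of commuting rank
one groups `LL X (β a)`; a 2-subgroup `P` of the Weyl group permuting the frame faithfully, generated by products of
reflections in commuting rank one groups.  If `|T| |P| ∏ (|X (β a)| + 1)` is divisible by the 2-part of `|Y|` then a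
nontrivial strongly closed subgroup of a Sylow 2-subgroup is the Sylow subgroup: `closedRow`.
-/

set_option autoImplicit false
set_option linter.unusedSectionVars false

namespace Cfsg.Agent.ClosedExc.Frame

open CoxeterSystem Cfsg.Agent.ChevalleyStructure.CoxeterGeom Cfsg.Agent.Tits.Roots Cfsg.Agent.Tits.Core
  Cfsg.Agent.Nodes.Reps Cfsg.Agent.Nodes.BNOf Cfsg.Agent.Nodes.Bruhat Cfsg.Agent.Nodes.FreeTorus
  Cfsg.Agent.ClosedTwo.Torus Cfsg.Agent.ClosedTwo.Elem Cfsg.Agent.ClosedExc Cfsg.Agent.ClosedExc.Rk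
  Cfsg.Agent.ClosedExc.Prod

variable {I W Y : Type*} [Fintype I] [DecidableEq I] [Group W] [Group Y] {M : CoxeterMatrix I}
  {cs : CoxeterSystem M W} {C : I → I → ℤ} {h : IsCartan M C} {p : ℕ} {T : Subgroup Y} {n : I → Y}
  {X : (I → ℤ) → Subgroup Y}

/-- The rank one groups of `x` and `y` commute. -/
def LC (X : (I → ℤ) → Subgroup Y) (x y : I → ℤ) : Prop := ∀ a ∈ LL X x, ∀ b ∈ LL X y, Commute a b

/-- `w` is a product of reflections in roots with pairwise commuting rank one groups. -/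
def GoodW (cs : CoxeterSystem M W) (h : IsCartan M C) (X : (I → ℤ) → Subgroup Y) (w : W) : Prop :=
  ∃ L : List ((I → ℤ) × W), (∀ p ∈ L, IsRefl cs h p.1 p.2) ∧ L.Pairwise (fun p q => LC X p.1 q.1) ∧
    w = (L.map Prod.snd).prod

/-- The product of the rank one groups of a list with the torus. -/
def VL (T : Subgroup Y) (X : (I → ℤ) → Subgroup Y) (L : List ((I → ℤ) × W)) : Subgroup Y :=
  L.foldr (fun p V => LL X p.1 ⊔ V) T

/-- A step between simple roots. -/
def Link (T : Subgroup Y) (X : (I → ℤ) → Subgroup Y) (i j : I) : Prop :=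
  (∃ z ∈ LL X (sr i), z * z = 1 ∧ z ∈ T ∧ ∃ u ∈ LL X (sr j), z * u ≠ u * z) ∨
  (∃ m ∈ LL X (sr i), ∃ k, m ^ 2 ^ k = 1 ∧ (∀ x ∈ LL X (sr j), m * (m * x * m⁻¹) * m⁻¹ = x) ∧
    ∀ x ∈ LL X (sr j), ∀ y ∈ LL X (sr j), Commute (m * x * m⁻¹) y)

/-- The preimage in `N` of a subgroup of the Weyl group. -/
def NP (R : RGD cs h p T n X) (P : Subgroup W) : Subgroup Y where
  carrier := {g | ∃ w ∈ P, Rp cs R.nsys w g}
  mul_mem' := by
    rintro a b ⟨v, hv, h1⟩ ⟨w, hw, h2⟩
    exact ⟨v * w, mul_mem hv hw, h1.mul h2⟩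
  one_mem' := ⟨1, one_mem _, rp_one⟩
  inv_mem' := by
    rintro a ⟨v, hv, h1⟩
    exact ⟨v⁻¹, inv_mem hv, h1.inv⟩

variable (R : RGD cs h p T n X)

theorem T_le_NP {P : Subgroup W} : T ≤ NP R P := fun _ ht => ⟨1, one_mem _, rp_of_mem ht⟩

variable [Finite W] [Finite Y]

include R in
/-- the representatives of different elements are different -/
theorem rp_eq {v w : W} {g : Y} (h1 : Rp cs R.nsys v g) (h2 : Rp cs R.nsys w g) : v = w := by
  have h3 := h1.inv.mul h2
  rw [inv_mul_cancel] at h3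
  have h4 := R.eq_one_of_mem_B h3 (one_mem _)
  exact (inv_mul_eq_one.1 h4)

/-- `|N_P| = |T| |P|` -/
theorem card_NP (P : Subgroup W) : Nat.card (NP R P) = Nat.card P * Nat.card T := by
  classical
  -- the map to `P`
  let f : NP R P →* P :=
    { toFun := fun g => ⟨Classical.choose g.2, (Classical.choose_spec g.2).1⟩
      map_one' := Subtype.ext (rp_eq R (Classical.choose_spec (1 : NP R P).2).2 rp_one)
      map_mul' := fun a b => Subtype.ext (rp_eq R (Classical.choose_spec (a * b).2).2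
        ((Classical.choose_spec a.2).2.mul (Classical.choose_spec b.2).2)) }
  have hf : ∀ (g : NP R P) (w : P), Rp cs R.nsys (w : W) g → f g = w := fun g w hw =>
    Subtype.ext (rp_eq R (Classical.choose_spec g.2).2 hw)
  have hfr : ∀ g : NP R P, Rp cs R.nsys (f g : W) g := fun g => (Classical.choose_spec g.2).2
  have hfs : Function.Surjective f := by
    intro w
    obtain ⟨g, hg⟩ := exists_rp cs R.nsys (w : W)
    exact ⟨⟨g, w, w.2, hg⟩, hf _ w hg⟩
  have hker : f.ker = T.subgroupOf (NP R P) := by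
    ext g
    rw [MonoidHom.mem_ker, Subgroup.mem_subgroupOf]
    constructor
    · intro h1
      have h2 := hfr g
      rw [h1] at h2
      exact h2.mem_of_one
    · intro h1
      exact hf g 1 (rp_of_mem h1)
  have h1 := Subgroup.card_eq_card_quotient_mul_card_subgroup f.ker
  rw [Nat.card_congr (QuotientGroup.quotientKerEquivOfSurjective f hfs).toEquiv, hker,
    Nat.card_congr (Subgroup.subgroupOfEquivOfLe (T_le_NP R)).toEquiv] at h1
  exact h1

section full

include R

variable {S : Sylow 2 Y} {A : Subgroup Y} (hA : IsStronglyClosed A (S : Subgroup Y))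

/-- `LL X x` for `x` a root -/
theorem isSL_of_root (hSL : ∀ i, IsSL (LL X (sr i))) {x : I → ℤ} (hx : IsRoot cs h x) : IsSL (LL X x) := by
  obtain ⟨w, i, rfl⟩ := hx
  obtain ⟨k, hk⟩ := exists_rp cs R.nsys w
  rw [← rp_cj_LL R hk (isRoot_sr cs h i)]
  exact (hSL i).map_conj k

theorem fullOn_of_root {w : W} {x : I → ℤ} (hx : IsRoot cs h x) (hf : FullOn A (LL X x)) :
    FullOn A (LL X (rep cs h w x)) := by
  obtain ⟨k, hk⟩ := exists_rp cs R.nsys w
  rw [← rp_cj_LL R hk hx]
  exact hf.map_conj k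

include hA

/-- one step -/
theorem fullOn_link (hSL : ∀ i, IsSL (LL X (sr i))) {i j : I} (hij : Link T X i j)
    (hi : FullOn A (LL X (sr i))) : FullOn A (LL X (sr j)) := by
  rcases hij with ⟨z, hz, hzz, hzT, hzc⟩ | ⟨m, hm, k, hmk, h1, h2⟩
  · refine (hSL j).of_normalizes hA hzz (hi z hz 1 (by rw [pow_one, pow_two, hzz])) ?_ ?_
    · intro x hx
      have := T_norm_LL R (isRoot_sr cs h j) hzT
      rw [← this]
      exact conj_mem_cj.2 hx
    · obtain ⟨u, hu, hu1⟩ := hzc
      exact ⟨u, hu, hu1⟩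
  · exact (hSL j).of_swap hA hmk (hi m hm k hmk) h1 h2

/-- all roots -/
theorem fullOn_all (hSL : ∀ i, IsSL (LL X (sr i))) {link : I → I → Prop} (hlink : ∀ i j, link i j → Link T X i j)
    (hconn : ∀ i j, Relation.ReflTransGen link i j) {x : I → ℤ} (hx : IsRoot cs h x)
    (hf : FullOn A (LL X x)) {y : I → ℤ} (hy : IsRoot cs h y) : FullOn A (LL X y) := by
  obtain ⟨w, i, rfl⟩ := hx
  obtain ⟨v, j, rfl⟩ := hy
  have h1 : FullOn A (LL X (sr i)) := by
    have := fullOn_of_root (w := w⁻¹) R ((isRoot_sr cs h i).act w) hf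
    rwa [rep_inv_apply] at this
  have h2 : ∀ j, Relation.ReflTransGen link i j → FullOn A (LL X (sr j)) := by
    intro j hj
    induction hj with
    | refl => exact h1
    | tail _ hab ih => exact fullOn_link R hA hSL (hlink _ _ hab) ih
  exact fullOn_of_root R (isRoot_sr cs h j) (h2 j (hconn i j))

variable (hall : ∀ x, IsRoot cs h x → FullOn A (LL X x))

include hall

/-- the torus -/
theorem fullOn_T (hG : RGD.Sup X {x | IsRoot cs h x} = ⊤) (hTc : ∀ s ∈ T, ∀ t ∈ T, s * t = t * s) :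
    FullOn A T := by
  have hT := torus_eq R hG
  have hfin : Finite {x : I → ℤ // IsRoot cs h x} := (RGD.finite_roots (cs := cs) (h := h)).to_subtype
  have hle : ∀ x : {x : I → ℤ // IsRoot cs h x}, TT cs h X x.1 ≤ T := fun x => by
    rw [hT]; exact TT_le_TA x.2
  rw [hT]
  unfold TA
  refine fullOn_iSup hA (fun x => (hall x.1 x.2).mono inf_le_left) ?_
  intro a b _ s hs t ht
  exact hTc s (hle a hs) t (hle b ht)

/-- representatives of good elements -/
theorem cl_of_good (hG : RGD.Sup X {x | IsRoot cs h x} = ⊤) (hTc : ∀ s ∈ T, ∀ t ∈ T, s * t = t * s)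
    {w : W} (hw : GoodW cs h X w) {g : Y} (hg : Rp cs R.nsys w g) {k : ℕ} (hk : g ^ 2 ^ k = 1) : Cl A g := by
  have hT := fullOn_T R hA hall hG hTc
  have hTn : ∀ x, IsRoot cs h x → T ≤ Subgroup.normalizer (LL X x : Set Y) := fun x hx t ht => by
    rw [mem_normalizer_iff_cj]; exact T_norm_LL R hx ht
  obtain ⟨L, hL, hLc, rfl⟩ := hw
  have hroot : ∀ {γ : I → ℤ} {v : W}, IsRefl cs h γ v → IsRoot cs h γ := fun ⟨v, i, hγ, _⟩ => ⟨v, i, hγ⟩
  have hVn : ∀ {x : I → ℤ}, IsRoot cs h x → ∀ L : List ((I → ℤ) × W), (∀ q ∈ L, LC X x q.1) →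
      VL T X L ≤ Subgroup.normalizer (LL X x : Set Y) := by
    intro x hx L
    induction L with
    | nil => exact fun _ => hTn x hx
    | cons q L ih =>
      intro hq
      refine sup_le ?_ (ih fun q' hq' => hq q' (List.mem_cons_of_mem _ hq'))
      refine le_trans ?_ (Subgroup.centralizer_le_normalizer (s := (LL X x : Set Y)))
      intro y hy
      rw [Subgroup.mem_centralizer_iff]
      exact fun z hz => (hq q List.mem_cons_self z hz y hy).eq
  have hTV : ∀ L : List ((I → ℤ) × W), T ≤ VL T X L := by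
    intro L
    induction L with
    | nil => exact le_rfl
    | cons q L ih => exact ih.trans le_sup_right
  have hV : ∀ L : List ((I → ℤ) × W), (∀ p ∈ L, IsRefl cs h p.1 p.2) → L.Pairwise (fun p q => LC X p.1 q.1) →
      FullOn A (VL T X L) ∧ ∃ m ∈ VL T X L, Rp cs R.nsys (L.map Prod.snd).prod m := by
    intro L
    induction L with
    | nil => exact fun _ _ => ⟨hT, 1, one_mem _, rp_one⟩
    | cons q L ih =>
      intro hL hLc
      rw [List.pairwise_cons] at hLc
      obtain ⟨h1, m', hm', hmr'⟩ := ih (fun p hp => hL p (List.mem_cons_of_mem _ hp)) hLc.2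
      have hq := hL q List.mem_cons_self
      obtain ⟨m, hm, hmr⟩ : ∃ m ∈ LL X q.1, Rp cs R.nsys q.2 m := by
        obtain ⟨v, i, hγ, e⟩ := hq
        obtain ⟨m, hm, hmr⟩ := exists_m' R hγ
        exact ⟨m, hm, by rw [e]; exact hmr⟩
      refine ⟨(hall q.1 (hroot hq)).sup hA h1 (hVn (hroot hq) L hLc.1), m * m',
        mul_mem (Subgroup.mem_sup_left hm) (Subgroup.mem_sup_right hm'), ?_⟩
      rw [List.map_cons, List.prod_cons]
      exact hmr.mul hmr'
  obtain ⟨h1, m, hm, hmr⟩ := hV L hL hLc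
  refine h1 g ?_ k hk
  have h2 : g = m * (m⁻¹ * g) := by group
  rw [h2]
  exact mul_mem hm (hTV L (hmr.unique hg))

/-- **The preimage of a 2-subgroup generated by good elements.** -/
theorem fullOn_NP (hG : RGD.Sup X {x | IsRoot cs h x} = ⊤) (hTc : ∀ s ∈ T, ∀ t ∈ T, s * t = t * s)
    {P : Subgroup W} (hP : IsPGroup 2 ↥P) {Γ : Set W} (hΓ : ∀ w ∈ Γ, GoodW cs h X w)
    (hPΓ : P = Subgroup.closure Γ) : FullOn A (NP R P) := by
  classical
  have hp : Fact (Nat.Prime 2) := ⟨Nat.prime_two⟩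
  have hT := fullOn_T R hA hall hG hTc
  have hGG : GG cs h T X = ⊤ := by
    rw [eq_top_iff, ← hG]
    exact le_sup_right
  let f : NP R P →* P :=
    { toFun := fun g => ⟨Classical.choose g.2, (Classical.choose_spec g.2).1⟩
      map_one' := Subtype.ext (rp_eq R (Classical.choose_spec (1 : NP R P).2).2 rp_one)
      map_mul' := fun a b => Subtype.ext (rp_eq R (Classical.choose_spec (a * b).2).2
        ((Classical.choose_spec a.2).2.mul (Classical.choose_spec b.2).2)) }
  have hfr : ∀ g : NP R P, Rp cs R.nsys (f g : W) g := fun g => (Classical.choose_spec g.2).2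
  have hf : ∀ (g : NP R P) (w : P), Rp cs R.nsys (w : W) g → f g = w := fun g w hw =>
    Subtype.ext (rp_eq R (hfr g) hw)
  have hfs : Function.Surjective f := by
    intro w
    obtain ⟨g, hg⟩ := exists_rp cs R.nsys (w : W)
    exact ⟨⟨g, w, w.2, hg⟩, hf _ w hg⟩
  let Q : Sylow 2 (NP R P) := default
  -- the Sylow subgroup maps onto `P`
  have hQ : (Q : Subgroup (NP R P)).map f = ⊤ := by
    have h1 : (Q.mapSurjective hfs : Subgroup _) = (Q : Subgroup _).map f := Sylow.coe_mapSurjective hfs Q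
    rw [← h1]
    refine ((Q.mapSurjective hfs).is_maximal' ?_ le_top).symm
    exact hP.of_equiv Subgroup.topEquiv.symm
  have hQrep : ∀ w ∈ P, ∃ g : NP R P, g ∈ Q ∧ Rp cs R.nsys w (g : Y) := by
    intro w hw
    have h1 : (⟨w, hw⟩ : P) ∈ (Q : Subgroup (NP R P)).map f := by rw [hQ]; exact Subgroup.mem_top _
    obtain ⟨g, hg, e⟩ := h1
    refine ⟨g, hg, ?_⟩
    have := hfr g
    rwa [e] at this
  have hQ2 : IsPGroup 2 ↥((Q : Subgroup (NP R P)).map (NP R P).subtype) := Q.2.map _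
  have hpow : ∀ g : NP R P, g ∈ Q → ∃ m : ℕ, (g : Y) ^ 2 ^ m = 1 := by
    intro g hg
    obtain ⟨m, hm⟩ := Q.2 ⟨g, hg⟩
    exact ⟨m, congrArg (fun z : Q => ((z : NP R P) : Y)) hm⟩
  have key : ∀ w ∈ Subgroup.closure Γ, ∀ g : NP R P, g ∈ Q → Rp cs R.nsys w (g : Y) → Cl A (g : Y) := by
    intro w hw
    induction hw using Subgroup.closure_induction with
    | mem w hw =>
      intro g hg hgr
      obtain ⟨m, hm⟩ := hpow g hg
      exact cl_of_good R hA hall hG hTc (hΓ w hw) hgr hm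
    | one =>
      intro g hg hgr
      obtain ⟨m, hm⟩ := hpow g hg
      exact hT _ hgr.mem_of_one m hm
    | mul w1 w2 hw1 hw2 h1 h2 =>
      intro g hg hgr
      obtain ⟨g2, hg2, hr2⟩ := hQrep w2 (by rw [hPΓ]; exact hw2)
      have h3 : Rp cs R.nsys w1 ((g * g2⁻¹ : NP R P) : Y) := by
        have := hgr.mul hr2.inv
        rwa [mul_inv_cancel_right] at this
      have c1 := h1 (g * g2⁻¹) (mul_mem hg (inv_mem hg2)) h3
      have c2 := h2 g2 hg2 hr2
      have := Cl.mul hA hQ2 ⟨_, mul_mem hg (inv_mem hg2), rfl⟩ ⟨_, hg2, rfl⟩ c1 c2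
      have e : (NP R P).subtype (g * g2⁻¹) * (NP R P).subtype g2 = (g : Y) := by
        rw [← map_mul, inv_mul_cancel_right]; rfl
      rwa [e] at this
    | inv w hw h1 =>
      intro g hg hgr
      have h2 := h1 g⁻¹ (inv_mem hg) (by
        have := hgr.inv
        rwa [inv_inv] at this)
      have := h2.inv
      have e : (((g⁻¹ : NP R P) : Y))⁻¹ = (g : Y) := by
        rw [Subgroup.coe_inv, inv_inv]
      rwa [e] at this
  intro x hx k hk
  have hz : IsPGroup 2 ↥(Subgroup.zpowers (⟨x, hx⟩ : NP R P)) := isPGroup_zpowers (k := k) (Subtype.ext hk)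
  obtain ⟨g, hg⟩ := exists_conj_le Q hz
  have h1 := hg _ (Subgroup.mem_zpowers _)
  obtain ⟨w, hw, hwr⟩ := (g * ⟨x, hx⟩ * g⁻¹ : NP R P).2
  rw [hPΓ] at hw
  have := key w hw _ h1 hwr
  exact Cl.of_conj (g := (g : Y)) this

end full

section main

variable {ι : Type*} [Fintype ι] {β : ι → (I → ℤ)} {P : Subgroup W}

/-- A frame of commuting rank one groups with a group of permutations. -/
structure FrameData (cs : CoxeterSystem M W) (h : IsCartan M C) (X : (I → ℤ) → Subgroup Y) (β : ι → (I → ℤ))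
    (P : Subgroup W) : Prop where
  root : ∀ a, IsRoot cs h (β a)
  orth : ∀ a b, a ≠ b → LC X (β a) (β b)
  perm : ∀ w ∈ P, ∀ a, ∃ b, rep cs h w (β a) = β b ∨ rep cs h w (β a) = -β b
  faith : ∀ w ∈ P, (∀ a, rep cs h w (β a) = β a ∨ rep cs h w (β a) = -β a) → w = 1

variable (F : FrameData cs h X β P)

include R F

theorem frame_cj {w : W} (hw : w ∈ P) {g : Y} (hg : Rp cs R.nsys w g) (a : ι) :
    ∃ b, cj g (LL X (β a)) = LL X (β b) ∧ (rep cs h w (β a) = β b ∨ rep cs h w (β a) = -β b) := by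
  obtain ⟨b, hb⟩ := F.perm w hw a
  refine ⟨b, ?_, hb⟩
  rw [rp_cj_LL R hg (F.root a)]
  rcases hb with hb | hb
  · rw [hb]
  · rw [hb, LL_neg]

theorem NP_le_normalizer : NP R P ≤ Subgroup.normalizer ((⨆ a, LL X (β a) : Subgroup Y) : Set Y) := by
  have key : ∀ g ∈ NP R P, cj g (⨆ a, LL X (β a)) ≤ ⨆ a, LL X (β a) := by
    rintro g ⟨w, hw, hg⟩
    rw [cj_iSup]
    refine iSup_le fun a => ?_
    obtain ⟨b, hb, -⟩ := frame_cj R F hw hg a
    rw [hb]
    exact le_iSup (fun a => LL X (β a)) b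
  intro g hg
  rw [mem_normalizer_iff_cj]
  apply le_antisymm (key g hg)
  have h1 := cj_mono g (key g⁻¹ (inv_mem hg))
  rwa [cj_cj_inv] at h1

omit R in
theorem frame_cj_E {y : Y} (hy : y ∈ ⨆ a, LL X (β a)) (a : ι) : cj y (LL X (β a)) = LL X (β a) := by
  obtain ⟨l, hl, e⟩ := exists_local_cj F.orth (fun a => le_rfl) hy a
  rw [e, cj_eq_of_mem hl]

omit R in
theorem frame_inj (hSL : ∀ x, IsRoot cs h x → IsSL (LL X x)) {a b : ι} (hab : LL X (β a) = LL X (β b)) : a = b := by
  by_contra hne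
  obtain ⟨x, hx, y, hy, hxy⟩ := (hSL _ (F.root a)).exists_not_commute
  exact hxy (F.orth a b hne x hx y (hab ▸ hy))

theorem frame_kernel (hSL : ∀ x, IsRoot cs h x → IsSL (LL X x)) {w : W} (hw : w ∈ P) {g : Y}
    (hg : Rp cs R.nsys w g) {y : Y} (hy : y ∈ ⨆ a, LL X (β a))
    (hfix : ∀ a, cj (y * g) (LL X (β a)) = LL X (β a)) : g ∈ T := by
  have h1 : w = 1 := by
    refine F.faith w hw fun a => ?_
    obtain ⟨b, hb, hb'⟩ := frame_cj R F hw hg a
    have h2 := hfix a
    rw [cj_mul, hb, frame_cj_E F hy] at h2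
    have h3 := frame_inj F hSL h2
    rwa [h3] at hb'
  rw [h1] at hg
  exact hg.mem_of_one

/-- **The main theorem.** -/
theorem closedRow (hG : RGD.Sup X {x | IsRoot cs h x} = ⊤) (hcen : ∀ z : Y, (∀ y, z * y = y * z) → z = 1)
    (hTc : ∀ s ∈ T, ∀ t ∈ T, s * t = t * s) (hSL : ∀ i, IsSL (LL X (sr i)))
    {link : I → I → Prop} (hlink : ∀ i j, link i j → Link T X i j) (hconn : ∀ i j, Relation.ReflTransGen link i j)
    (hP : IsPGroup 2 ↥P) {Γ : Set W} (hΓ : ∀ w ∈ Γ, GoodW cs h X w) (hPΓ : P = Subgroup.closure Γ)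
    (hord : ∀ m : ℕ, 2 ^ m ∣ Nat.card Y → 2 ^ m ∣ Nat.card T * Nat.card P * ∏ a, (Nat.card (X (β a)) + 1)) :
    ClosedTwo.ClosedRow Y := by
  classical
  intro S A hA
  by_cases hbot : A = ⊥
  · exact Or.inl hbot
  right
  have hSL' : ∀ x, IsRoot cs h x → IsSL (LL X x) := fun x hx => isSL_of_root R hSL hx
  have hGG : GG cs h T X = ⊤ := by
    rw [eq_top_iff, ← hG]
    exact le_sup_right
  have hn := NP_le_normalizer R F
  -- the order
  have hinf : (⨆ a, LL X (β a)) ⊓ NP R P = (⨆ a, LL X (β a)) ⊓ T := by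
    apply le_antisymm
    · rintro g ⟨h1, w, hw, hg⟩
      refine ⟨h1, frame_kernel R F hSL' hw hg (one_mem _) fun a => ?_⟩
      rw [one_mul]
      exact frame_cj_E F h1 a
    · exact inf_le_inf_left _ (T_le_NP R)
  have hE : Nat.card ↥((⨆ a, LL X (β a)) ⊓ T) * ∏ a, (Nat.card (X (β a)) + 1) ∣ Nat.card ↥(⨆ a, LL X (β a)) := by
    have h1 := Prod.card_dvd (L := fun a => LL X (β a)) (K := fun a => X (β a)) F.orth
      (fun a => X_le_LL (β a)) (St := T) (fun s hs a => R.tor _ (F.root a) s hs)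
    have h2 : ∀ a, Nat.card (Set.range fun g : LL X (β a) => cj (g : Y) (X (β a))) = Nat.card (X (β a)) + 1 :=
      fun a => card_conj R hGG (F.root a)
    simp only [h2] at h1
    exact h1
  have hcard : Nat.card T * Nat.card P * ∏ a, (Nat.card (X (β a)) + 1) ∣ Nat.card ↥((⨆ a, LL X (β a)) ⊔ NP R P) := by
    have h1 := card_sup_mul' hn
    rw [hinf, card_NP R P] at h1
    obtain ⟨c, hc⟩ := hE
    rw [hc] at h1
    refine ⟨c, ?_⟩
    have hpos : 0 < Nat.card ↥((⨆ a, LL X (β a)) ⊓ T) := Nat.card_pos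
    refine Nat.eq_of_mul_eq_mul_right hpos ?_
    rw [h1]; ring
  have hidx : ¬ 2 ∣ ((⨆ a, LL X (β a)) ⊔ NP R P).index := by
    intro h2
    have hne : Nat.card ↥((⨆ a, LL X (β a)) ⊔ NP R P) ≠ 0 := Nat.card_pos.ne'
    have h3 : 2 ^ ((Nat.card ↥((⨆ a, LL X (β a)) ⊔ NP R P)).factorization 2 + 1) ∣ Nat.card Y := by
      rw [← Subgroup.card_mul_index ((⨆ a, LL X (β a)) ⊔ NP R P), pow_succ]
      exact mul_dvd_mul (Nat.ordProj_dvd _ 2) h2
    exact Nat.pow_succ_factorization_not_dvd hne Nat.prime_two ((hord _ h3).trans hcard)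
  -- one root
  have hone : ∃ x, IsRoot cs h x ∧ FullOn A (LL X x) := by
    obtain ⟨t, htR, htt, ht1, htcl⟩ := exists_invol_mem hA hbot hidx
    have htR' : t ∈ (((⨆ a, LL X (β a)) ⊔ NP R P : Subgroup Y) : Set Y) := htR
    rw [Subgroup.coe_mul_of_right_le_normalizer_left _ _ hn, Set.mem_mul] at htR'
    obtain ⟨y, hy, g, ⟨w, hw, hg⟩, rfl⟩ := htR'
    by_cases hmove : ∃ a, cj (y * g) (LL X (β a)) ≠ LL X (β a)
    · obtain ⟨a, ha⟩ := hmove
      obtain ⟨b, hb, -⟩ := frame_cj R F hw hg a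
      have h1 : cj (y * g) (LL X (β a)) = LL X (β b) := by rw [cj_mul, hb, frame_cj_E F hy]
      have hab : b ≠ a := by
        rintro rfl
        exact ha h1
      refine ⟨β a, F.root a, (hSL' _ (F.root a)).of_swap hA (a := y * g) (k := 1) (by rw [pow_one, pow_two, htt])
        htcl ?_ ?_⟩
      · intro x _
        rw [show y * g * (y * g * x * (y * g)⁻¹) * (y * g)⁻¹ = (y * g * (y * g)) * x * (y * g * (y * g))⁻¹ by group,
          htt, one_mul, inv_one, mul_one]
      · intro x hx z hz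
        refine F.orth b a hab _ ?_ z hz
        rw [← h1]
        exact conj_mem_cj.2 hx
    · push Not at hmove
      have hgT : g ∈ T := frame_kernel R F hSL' hw hg hy hmove
      by_cases hcent : ∃ a, ∃ x ∈ LL X (β a), (y * g) * x ≠ x * (y * g)
      · obtain ⟨a, x, hx, hxa⟩ := hcent
        refine ⟨β a, F.root a, (hSL' _ (F.root a)).of_normalizes hA htt htcl ?_ ⟨x, hx, hxa⟩⟩
        intro x hx
        rw [← hmove a]
        exact conj_mem_cj.2 hx
      · push Not at hcent
        have hyT : y ∈ T := by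
          have hfix : ∀ a, ∀ K : Subgroup Y, K ≤ LL X (β a) → cj g K = K → cj y K = K := by
            intro a K hK hgK
            have h1 : cj (y * g) K = K := cj_eq_of_commute (L := LL X (β a)) (fun x hx => hcent a x hx) hK
            rwa [cj_mul, hgK] at h1
          refine mem_of_prod (L := fun a => LL X (β a)) (K := fun a => X (β a)) (K' := fun a => X (-β a)) F.orth
            (fun a z hz h1 h2 => mem_T_of_norm R hGG (F.root a) hz h1 h2) (fun a => X_le_LL (β a))
            (fun a => X_neg_le_LL (β a)) hy ?_ ?_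
          · exact fun a => hfix a _ (X_le_LL (β a)) (R.tor _ (F.root a) g hgT)
          · exact fun a => hfix a _ (X_neg_le_LL (β a)) (R.tor _ (F.root a).neg g hgT)
        have htT : y * g ∈ T := mul_mem hyT hgT
        obtain ⟨x, hx, u, hu, hxu⟩ : ∃ x, IsRoot cs h x ∧ ∃ u ∈ X x, (y * g) * u ≠ u * (y * g) := by
          by_contra hno
          push Not at hno
          apply ht1
          apply hcen
          have hle : RGD.Sup X {x | IsRoot cs h x} ≤ Subgroup.centralizer ({y * g} : Set Y) := by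
            refine RGD.Sup_le fun x hx u hu => ?_
            rw [Subgroup.mem_centralizer_singleton_iff]
            exact (hno x hx u hu).symm
          rw [hG] at hle
          intro z
          exact (Subgroup.mem_centralizer_singleton_iff.1 (hle (Subgroup.mem_top z))).symm
        refine ⟨x, hx, (hSL' x hx).of_normalizes hA htt htcl ?_ ⟨u, X_le_LL x hu, hxu⟩⟩
        intro z hz
        have := T_norm_LL R hx htT
        rw [← this]
        exact conj_mem_cj.2 hz
  obtain ⟨x0, hx0, hfull0⟩ := hone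
  have hall : ∀ x, IsRoot cs h x → FullOn A (LL X x) :=
    fun x hx => fullOn_all R hA hSL hlink hconn hx0 hfull0 hx
  refine eq_of_fullOn hA hidx ?_
  refine FullOn.sup hA (fullOn_iSup hA (fun a => hall _ (F.root a)) F.orth) ?_ hn
  exact fullOn_NP R hA hall hG hTc hP hΓ hPΓ

end main

end Cfsg.Agent.ClosedExc.Frame

end
end
end

-- part: ClosedExc/Rows
section
prune_inst 0x1040000000020000000000400000203200040000000000004000000480080000000020300000000000000400380060025c00000000000000000000011c00800000400092080104040008000000000000000000000000000000000000000000000000000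
set_option linter.all false
open scoped Cfsg.Agent.FastGrp

-- merged: Cfsg.Agent.ClosedExc.FoldInst
section

/-!
# The folded groups: general lemmas for the hypotheses of `Frame.closedRow` (helper50, S1252)

* `isSL_of_hom` : `LL X x` is the image of `SL₂(F)`;
* `lc_of_fibres` : relative roots with orthogonal fibres have commuting rank one groups;
* `torus_comm` : the torus is abelian.
-/

set_option autoImplicit false
set_option linter.unusedSectionVars false

namespace Cfsg.Agent.ClosedExc.FoldInst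

open CoxeterSystem Cfsg.Agent.ChevalleyStructure.CoxeterGeom Cfsg.Agent.Tits.Roots
  Cfsg.Agent.Nodes.Reps Cfsg.Agent.Nodes.BNOf Cfsg.Agent.Nodes.FreeTorus Cfsg.Agent.Nodes.Bruhat
open Cfsg.Lie Cfsg.Agent.ChevalleyStructure Cfsg.Agent.ChevalleyStructure.Elts
  Cfsg.Agent.ChevalleyStructure.TwistedU Cfsg.Agent.ChevalleyStructure.NPerm Cfsg.Agent.Nodes.RGDChev
  Cfsg.Agent.Nodes.RGDFold
open Cfsg.Agent.ClosedExc.Frame

/-- `LL X x` is the image of `SL₂(F)`. -/
theorem isSL_of_hom {I G : Type*} [Group G] {F : Type} [Field F] [Fintype F] (hF : Odd (Fintype.card F))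
    {X : (I → ℤ) → Subgroup G} {x : I → ℤ} (ψ : Matrix.SpecialLinearGroup (Fin 2) F →* G)
    (hker : ∀ g, ψ g = 1 → g = 1 ∨ g = -1)
    (h1 : ∀ t, ψ (SL2Hom.up t) ∈ X x) (h2 : ∀ t, ψ (SL2Hom.lo t) ∈ X (-x))
    (h3 : ∀ u ∈ X x, ∃ t, u = ψ (SL2Hom.up t)) (h4 : ∀ u ∈ X (-x), ∃ t, u = ψ (SL2Hom.lo t)) :
    IsSL (LL X x) := by
  refine ⟨F, inferInstance, inferInstance, ψ, hF, hker, ?_⟩
  apply le_antisymm
  · rw [MonoidHom.range_eq_map, Subgroup.map_le_iff_le_comap]
    intro g _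
    refine (Subgroup.closure_le _).2 ?_ (SL2Hom.mem_closure_SL2 g)
    rintro x (⟨t, rfl⟩ | ⟨t, rfl⟩)
    · exact Subgroup.mem_sup_left (h1 t)
    · exact Subgroup.mem_sup_right (h2 t)
  · refine sup_le ?_ ?_
    · intro u hu
      obtain ⟨t, ht⟩ := h3 u hu
      exact ⟨SL2Hom.up t, ht.symm⟩
    · intro u hu
      obtain ⟨t, ht⟩ := h4 u hu
      exact ⟨SL2Hom.lo t, ht.symm⟩

section Group

variable {D : ChevalleyDatum} {l : ℕ} {M' : CoxeterMatrix (Fin l)} (hp : IsType D l M') {K : Type} [Field K]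
variable {m : ℕ} {J : Fin m → List (Fin l)} {σ : GL D.Idx K →* GL D.Idx K} {G : Subgroup (GL D.Idx K)}

include hp in
/-- root elements of orthogonal roots commute -/
theorem commute_xG_of_orthB {r s : ℕ} (h : orthB D r s = true) (t u : K) :
    Commute (xG hp.inList r t) (xG hp.inList s u) ∧ Commute (xG hp.inList (D.neg r) t) (xG hp.inList s u) ∧
      Commute (xG hp.inList r t) (xG hp.inList (D.neg s) u) ∧
      Commute (xG hp.inList (D.neg r) t) (xG hp.inList (D.neg s) u) := by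
  simp only [orthB, Bool.and_eq_true, decide_eq_true_eq, List.isEmpty_iff] at h
  obtain ⟨⟨⟨⟨⟨⟨⟨hr, hs⟩, h1⟩, h2⟩, c1⟩, c2⟩, c3⟩, c4⟩ := h
  have hnr := neg_lt hp.inList hr
  have hns := neg_lt hp.inList hs
  have hnn : ∀ {t : ℕ}, t < D.nroots → D.neg (D.neg t) = t := fun ht => RootVec.neg_neg hp.checked ht
  have n1 : D.neg s ≠ r := fun e => h2 (by rw [← e, hnn hs])
  have n2 : D.neg s ≠ D.neg r := fun e => h1 (by rw [← hnn hs, e, hnn hr])
  exact ⟨(OddHalf.LongSL.Chev.commute_xG hp K hr hs h1 h2 c1 t u).symm,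
    (OddHalf.LongSL.Chev.commute_xG hp K hnr hs h2 (by rw [hnn hr]; exact h1) c2 t u).symm,
    (OddHalf.LongSL.Chev.commute_xG hp K hr hns n1 n2 c3 t u).symm,
    (OddHalf.LongSL.Chev.commute_xG hp K hnr hns n2 (by rw [hnn hr]; exact n1) c4 t u).symm⟩

/-- subgroups generated by commuting elements -/
theorem commute_rspan {Γ ι : Type*} [Group Γ] {x : ι → K → Γ} {S S' : Set ι}
    (h : ∀ r ∈ S, ∀ s ∈ S', ∀ t u, Commute (x r t) (x s u)) {a b : Γ} (ha : a ∈ rspan x S) (hb : b ∈ rspan x S') :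
    Commute a b := by
  have h1 : rspan x S ≤ Subgroup.centralizer ((rspan x S' : Subgroup Γ) : Set Γ) := by
    refine rspan_le x fun r hr t => ?_
    rw [Subgroup.mem_centralizer_iff]
    intro y hy
    have h2 : rspan x S' ≤ Subgroup.centralizer {x r t} := by
      refine rspan_le x fun s hs u => ?_
      rw [Subgroup.mem_centralizer_singleton_iff]
      exact (h r hr s hs t u).eq.symm
    exact Subgroup.mem_centralizer_singleton_iff.1 (h2 hy)
  exact (Subgroup.mem_centralizer_iff.1 (h1 ha) b hb).symm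

include hp in
/-- Relative roots with orthogonal fibres. -/
theorem lc_of_fibres {x y : Fin m → ℤ}
    (h : ∀ k < D.nroots, V D J k = x → ∀ k' < D.nroots, V D J k' = y → orthB D k k' = true) :
    LC (fun z => (R D hp K J σ z).subgroupOf G) x y := by
  set Sx : Set ℕ := {k | k < D.nroots ∧ (V D J k = x ∨ V D J k = -x)} with hSx
  set Sy : Set ℕ := {k | k < D.nroots ∧ (V D J k = y ∨ V D J k = -y)} with hSy
  have hnn : ∀ {t : ℕ}, t < D.nroots → D.neg (D.neg t) = t := fun ht => RootVec.neg_neg hp.checked ht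
  have key : ∀ r ∈ Sx, ∀ s ∈ Sy, ∀ t u, Commute (xG (F := K) hp.inList r t) (xG hp.inList s u) := by
    rintro r ⟨hr, hr'⟩ s ⟨hs, hs'⟩ t u
    have ex : ∃ r', r' < D.nroots ∧ V D J r' = x ∧ (r = r' ∨ r = D.neg r') := by
      rcases hr' with h1 | h1
      · exact ⟨r, hr, h1, Or.inl rfl⟩
      · exact ⟨D.neg r, neg_lt hp.inList hr, by rw [V_neg hp.checked hr, h1, _root_.neg_neg], Or.inr (hnn hr).symm⟩
    have ey : ∃ s', s' < D.nroots ∧ V D J s' = y ∧ (s = s' ∨ s = D.neg s') := by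
      rcases hs' with h1 | h1
      · exact ⟨s, hs, h1, Or.inl rfl⟩
      · exact ⟨D.neg s, neg_lt hp.inList hs, by rw [V_neg hp.checked hs, h1, _root_.neg_neg], Or.inr (hnn hs).symm⟩
    obtain ⟨r', hr1, hr2, hr3⟩ := ex
    obtain ⟨s', hs1, hs2, hs3⟩ := ey
    obtain ⟨c1, c2, c3, c4⟩ := commute_xG_of_orthB hp (h r' hr1 hr2 s' hs1 hs2) t u
    rcases hr3 with rfl | rfl <;> rcases hs3 with rfl | rfl
    exacts [c1, c3, c2, c4]
  have hle : ∀ {z : Fin m → ℤ} {S : Set ℕ}, (∀ k < D.nroots, V D J k = z → k ∈ S) →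
      ∀ g ∈ (R D hp K J σ z).subgroupOf G, (g : GL D.Idx K) ∈ rspan (xG (F := K) hp.inList) S := by
    intro z S hS g hg
    exact rspan_mono _ (fun k hk => hS k hk.1 hk.2) (Subgroup.mem_subgroupOf.1 hg).1
  have hle2 : ∀ {z : Fin m → ℤ} {S : Set ℕ}, (∀ k < D.nroots, (V D J k = z ∨ V D J k = -z) → k ∈ S) →
      ∀ g ∈ LL (fun z => (R D hp K J σ z).subgroupOf G) z,
        (g : GL D.Idx K) ∈ rspan (xG (F := K) hp.inList) S := by
    intro z S hS
    have h1 : LL (fun z => (R D hp K J σ z).subgroupOf G) z ≤ (rspan (xG (F := K) hp.inList) S).subgroupOf G := by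
      refine sup_le ?_ ?_
      · intro g hg
        rw [Subgroup.mem_subgroupOf]
        exact hle (fun k hk e => hS k hk (Or.inl e)) g hg
      · intro g hg
        rw [Subgroup.mem_subgroupOf]
        exact hle (fun k hk e => hS k hk (Or.inr e)) g hg
    intro g hg
    exact Subgroup.mem_subgroupOf.1 (h1 hg)
  intro a ha b hb
  have h1 := hle2 (S := Sx) (fun k hk e => ⟨hk, e⟩) a ha
  have h2 := hle2 (S := Sy) (fun k hk e => ⟨hk, e⟩) b hb
  exact Subtype.ext (commute_rspan key h1 h2).eq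

include hp in
/-- the torus is abelian -/
theorem torus_comm (s : ↥G) (hs : s ∈ (D.diagonalSubgroup K ⊓ G).subgroupOf G) (t : ↥G)
    (ht : t ∈ (D.diagonalSubgroup K ⊓ G).subgroupOf G) : s * t = t * s :=
  Subtype.ext (OddHalf.Small.ChevCent.diag_comm hp.inList (Subgroup.mem_subgroupOf.1 hs).1
    (Subgroup.mem_subgroupOf.1 ht).1)

end Group

end Cfsg.Agent.ClosedExc.FoldInst

end

-- merged: Cfsg.Agent.ClosedExc.ChevInst
section

/-!
# The exceptional Chevalley groups in odd characteristic: the hypotheses of `Frame.closedRow` (helper50, S1252)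
-/

set_option autoImplicit false
set_option linter.unusedSectionVars false

namespace Cfsg.Agent.ClosedExc.Chev

open CoxeterSystem Cfsg.Agent.ChevalleyStructure.CoxeterGeom Cfsg.Agent.Tits.Roots
  Cfsg.Agent.Nodes.Reps Cfsg.Agent.Nodes.BNOf Cfsg.Agent.Nodes.FreeTorus Cfsg.Agent.Nodes.Bruhat
open Cfsg.Lie Cfsg.Agent.ChevalleyStructure Cfsg.Agent.ChevalleyStructure.Elts
  Cfsg.Agent.ChevalleyStructure.NPerm Cfsg.Agent.Nodes.RGDChev
open Cfsg.Agent.OddHalf.LongSL Cfsg.Agent.ClosedExc.Frame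

variable {D : ChevalleyDatum} {l : ℕ} {M : CoxeterMatrix (Fin l)} (hp : IsType D l M) (K : Type) [Field K]

/-- The root groups. -/
abbrev XX (D : ChevalleyDatum) (l : ℕ) (K : Type) [Field K] (x : Fin l → ℤ) : Subgroup ↥(D.group K) :=
  (XV D l K x).subgroupOf (D.group K)

/-- The torus. -/
abbrev TG (D : ChevalleyDatum) (K : Type) [Field K] : Subgroup ↥(D.group K) :=
  (D.diagonalSubgroup K).subgroupOf (D.group K)

include hp

theorem mem_XX {r : ℕ} (hr : r < D.nroots) {u : ↥(D.group K)} :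
    u ∈ XX D l K (vec D l r) ↔ ∃ t, xG hp.inList r t = (u : GL D.Idx K) := by
  rw [Subgroup.mem_subgroupOf, XV_vec hp K hr, mem_rootSubgroup_iff hp.inList]
  exact ⟨fun ⟨t, ht⟩ => ⟨t, ht.symm⟩, fun ⟨t, ht⟩ => ⟨t, ht.symm⟩⟩

theorem commute_of_orthB {r s : ℕ} (h : orthB D r s = true) :
    ∀ a ∈ LL (XX D l K) (vec D l r), ∀ b ∈ LL (XX D l K) (vec D l s), Commute a b := by
  simp only [orthB, Bool.and_eq_true, decide_eq_true_eq, List.isEmpty_iff] at h
  obtain ⟨⟨⟨⟨⟨⟨⟨hr, hs⟩, h1⟩, h2⟩, c1⟩, c2⟩, c3⟩, c4⟩ := h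
  have hnr := neg_lt hp.inList hr
  have hns := neg_lt hp.inList hs
  have hnn : ∀ {t : ℕ}, t < D.nroots → D.neg (D.neg t) = t := fun ht => RootVec.neg_neg hp.checked ht
  have e1 : -vec D l r = vec D l (D.neg r) := (vec_neg hp hr).symm
  have e2 : -vec D l s = vec D l (D.neg s) := (vec_neg hp hs).symm
  have key : ∀ {r s : ℕ}, r < D.nroots → s < D.nroots → s ≠ r → s ≠ D.neg r → D.commTerms r s = [] →
      ∀ a ∈ XX D l K (vec D l r), ∀ b ∈ XX D l K (vec D l s), Commute a b := by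
    intro r s hr hs h1 h2 hc a ha b hb
    obtain ⟨t, ht⟩ := (mem_XX hp K hr).1 ha
    obtain ⟨u, hu⟩ := (mem_XX hp K hs).1 hb
    refine Subtype.ext ?_
    change (a : GL D.Idx K) * b = b * a
    rw [← ht, ← hu]
    exact (OddHalf.LongSL.Chev.commute_xG hp K hr hs h1 h2 hc t u).symm
  have n1 : D.neg s ≠ r := fun e => h2 (by rw [← e, hnn hs])
  have n2 : D.neg s ≠ D.neg r := fun e => h1 (by rw [← hnn hs, e, hnn hr])
  intro a ha b hb
  unfold LL at ha hb
  rw [e1] at ha
  rw [e2] at hb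
  have hX : ∀ a ∈ XX D l K (vec D l r) ⊔ XX D l K (vec D l (D.neg r)),
      a ∈ Subgroup.centralizer ((XX D l K (vec D l s) ⊔ XX D l K (vec D l (D.neg s)) : Subgroup _) : Set ↥(D.group K)) := by
    intro a ha
    refine (sup_le ?_ ?_ : _ ≤ Subgroup.centralizer _) ha
    · intro a ha
      rw [Subgroup.mem_centralizer_iff]
      intro b hb
      have hle : XX D l K (vec D l s) ⊔ XX D l K (vec D l (D.neg s)) ≤ Subgroup.centralizer ({a} : Set ↥(D.group K)) := by
        refine sup_le ?_ ?_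
        · intro b hb
          rw [Subgroup.mem_centralizer_singleton_iff]
          exact (key hr hs h1 h2 c1 a ha b hb).symm
        · intro b hb
          rw [Subgroup.mem_centralizer_singleton_iff]
          exact (key hr hns n1 n2 c3 a ha b hb).symm
      exact Subgroup.mem_centralizer_singleton_iff.1 (hle hb)
    · intro a ha
      rw [Subgroup.mem_centralizer_iff]
      intro b hb
      have hle : XX D l K (vec D l s) ⊔ XX D l K (vec D l (D.neg s)) ≤ Subgroup.centralizer ({a} : Set ↥(D.group K)) := by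
        refine sup_le ?_ ?_
        · intro b hb
          rw [Subgroup.mem_centralizer_singleton_iff]
          exact (key hnr hs h2 (by rw [hnn hr]; exact h1) c2 a ha b hb).symm
        · intro b hb
          rw [Subgroup.mem_centralizer_singleton_iff]
          exact (key hnr hns n2 (by rw [hnn hr]; exact n1) c4 a ha b hb).symm
      exact Subgroup.mem_centralizer_singleton_iff.1 (hle hb)
  exact (Subgroup.mem_centralizer_iff.1 (hX a ha) b hb).symm

/-- Orthogonal roots have commuting rank one groups. -/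
theorem lc_of_orth {x y : Fin l → ℤ} (h : Orth D l x y) : LC (XX D l K) x y := by
  obtain ⟨r, s, h1, rfl, rfl⟩ := h
  exact commute_of_orthB hp K h1

/-- the image of `SL(2,K)` -/
theorem range_phi (i : Fin l) : (OddHalf.LongSL.Chev.phi hp K i).range = LL (XX D l K) (sr i) := by
  have hr := simple_lt hp.inList (lt_rank hp i)
  apply le_antisymm
  · rw [MonoidHom.range_eq_map, Subgroup.map_le_iff_le_comap]
    intro g _
    refine (Subgroup.closure_le _).2 ?_ (SL2Hom.mem_closure_SL2 g)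
    rintro x (⟨t, rfl⟩ | ⟨t, rfl⟩)
    · refine Subgroup.mem_sup_left ?_
      rw [Subgroup.mem_subgroupOf, OddHalf.LongSL.Chev.phi_up, XV_sr hp i]
      exact xG_mem_rootSubgroup _ _ _
    · refine Subgroup.mem_sup_right ?_
      rw [Subgroup.mem_subgroupOf, OddHalf.LongSL.Chev.phi_lo, XV_neg_sr hp i]
      exact xG_mem_rootSubgroup _ _ _
  · refine sup_le ?_ ?_
    · intro u hu
      rw [Subgroup.mem_subgroupOf, XV_sr hp i, mem_rootSubgroup_iff hp.inList] at hu
      obtain ⟨t, ht⟩ := hu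
      exact ⟨SL2Hom.up t, Subtype.ext (by rw [OddHalf.LongSL.Chev.phi_up, ht])⟩
    · intro u hu
      rw [Subgroup.mem_subgroupOf, XV_neg_sr hp i, mem_rootSubgroup_iff hp.inList] at hu
      obtain ⟨t, ht⟩ := hu
      exact ⟨SL2Hom.lo t, Subtype.ext (by rw [OddHalf.LongSL.Chev.phi_lo, ht])⟩

theorem isSL [Fintype K] (hK : Odd (Fintype.card K)) (i : Fin l) : IsSL (LL (XX D l K) (sr i)) :=
  ⟨K, inferInstance, inferInstance, OddHalf.LongSL.Chev.phi hp K i, hK, fun _ hg =>
    OddHalf.LongSL.Chev.phi_eq_one _ (congrArg Subtype.val hg), range_phi hp K i⟩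

theorem torus_comm (s : ↥(D.group K)) (hs : s ∈ TG D K) (t : ↥(D.group K)) (ht : t ∈ TG D K) : s * t = t * s :=
  Subtype.ext (OddHalf.Small.ChevCent.diag_comm hp.inList (Subgroup.mem_subgroupOf.1 hs) (Subgroup.mem_subgroupOf.1 ht))

theorem neg_one_mem_T (i : Fin l) : OddHalf.LongSL.Chev.phi hp K i (-1) ∈ TG D K := by
  rw [Subgroup.mem_subgroupOf, OddHalf.LongSL.Chev.phi_neg_one]
  exact hG_mem_diagonal hp.inList (simple_lt hp.inList (lt_rank hp i)) (neg_ne_zero.2 one_ne_zero)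

theorem neg_one_conj (i : Fin l) {s : ℕ} (hs : s < D.nroots) (t : K) :
    (OddHalf.LongSL.Chev.phi hp K i (-1) : GL D.Idx K) * xG hp.inList s t *
      (OddHalf.LongSL.Chev.phi hp K i (-1) : GL D.Idx K)⁻¹ = xG hp.inList s ((-1) ^ (D.cartan i s) * t) := by
  rw [OddHalf.LongSL.Chev.phi_neg_one]
  exact OddHalf.LongSL.Chev.conj_hG hp K i hs (-1) (neg_ne_zero.2 one_ne_zero) t

/-- an odd Cartan integer -/
theorem link_odd (h2 : (2 : K) ≠ 0) {i j : Fin l} (hc : D.cartan i (D.simple j) % 2 = 1) :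
    Link (TG D K) (XX D l K) i j := by
  left
  have hj := simple_lt hp.inList (lt_rank hp j)
  have hx : xG hp.inList (D.simple j) (1 : K) ∈ D.group K := xG_mem_group hp.inList _ _
  refine ⟨OddHalf.LongSL.Chev.phi hp K i (-1), ?_, ?_, neg_one_mem_T hp K i, ⟨_, hx⟩, ?_, ?_⟩
  · rw [← range_phi hp K i]; exact ⟨_, rfl⟩
  · rw [← map_mul]; simp only [_root_.mul_neg, _root_.mul_one, _root_.neg_neg, _root_.map_one]
  · refine Subgroup.mem_sup_left ?_
    rw [← vec_simple hp j]
    exact (mem_XX hp K hj).2 ⟨1, rfl⟩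
  · intro h
    have h1 : (OddHalf.LongSL.Chev.phi hp K i (-1) : GL D.Idx K) * xG hp.inList (D.simple j) 1 =
        xG hp.inList (D.simple j) 1 * (OddHalf.LongSL.Chev.phi hp K i (-1) : GL D.Idx K) := congrArg Subtype.val h
    have h3 := neg_one_conj hp K i hj (1 : K)
    rw [h1, mul_inv_cancel_right] at h3
    have h4 := xG_injective hp.inList hj h3
    have hodd : Odd (D.cartan i (D.simple j)) := Int.odd_iff.2 hc
    rw [hodd.neg_one_zpow] at h4
    apply h2
    linear_combination h4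

omit hp in
/-- the standard element of order 4 -/
theorem sq_eq {F : Type*} [Field F] : SL2Hom.up (1 : F) * SL2Hom.lo (-1) * SL2Hom.up 1 *
    (SL2Hom.up (1 : F) * SL2Hom.lo (-1) * SL2Hom.up 1) = -1 := by
  apply Subtype.ext
  show (!![1, 1; 0, 1] * !![1, 0; -1, 1] * !![1, 1; 0, 1] *
    (!![1, 1; 0, 1] * !![1, 0; -1, 1] * !![1, 1; 0, 1]) : Matrix (Fin 2) (Fin 2) F) = -1
  rw [Matrix.one_fin_two]
  ext i j
  (revert i j; simp only [_root_.Fin.forall_fin_succ, _root_.Matrix.cons_mul, _root_.Nat.succ_eq_add_one, Nat.reduceAdd, _root_.Matrix.vecMul_cons, _root_.Matrix.head_cons, _root_.one_smul, _root_.Matrix.tail_cons, _root_.Matrix.empty_vecMul, _root_.add_zero, _root_.Matrix.add_cons, _root_.add_neg_cancel, _root_.zero_add, _root_.Matrix.empty_add_empty, _root_.zero_smul, _root_.Matrix.empty_mul, _root_.Equiv.symm_apply_apply, _root_.neg_smul, _root_.Matrix.neg_cons, _root_.Matrix.neg_empty, _root_.neg_add_cancel, _root_.neg_zero, _root_.Matrix.of_apply,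 _root_.Matrix.cons_val', _root_.Matrix.cons_val_fin_one, _root_.Matrix.neg_apply, Fin.isValue, _root_.Matrix.cons_val_zero, _root_.Matrix.cons_val_succ, _root_.forall_const, _root_.and_self, _root_.implies_true])

theorem phi_n (i : Fin l) :
    (OddHalf.LongSL.Chev.phi hp K i (SL2Hom.up 1 * SL2Hom.lo (-1) * SL2Hom.up 1) : GL D.Idx K) = nn hp K i := by
  rw [nn, nG_def, map_mul, map_mul, Subgroup.coe_mul, Subgroup.coe_mul, OddHalf.LongSL.Chev.phi_up,
    OddHalf.LongSL.Chev.phi_lo, inv_one, mul_assoc]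

/-- an even Cartan integer, with orthogonal roots `α_j`, `s_i α_j` -/
theorem link_even {i j : Fin l} (hc : D.cartan i (D.simple j) % 2 = 0) (hc' : D.cartan i (D.neg (D.simple j)) % 2 = 0)
    (ho : orthB D (D.reflectRoot i (D.simple j)) (D.simple j) = true) : Link (TG D K) (XX D l K) i j := by
  right
  have hj := simple_lt hp.inList (lt_rank hp j)
  have hnj := neg_lt hp.inList hj
  set g : Matrix.SpecialLinearGroup (Fin 2) K := SL2Hom.up 1 * SL2Hom.lo (-1) * SL2Hom.up 1 with hg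
  have hgg : g * g = -1 := sq_eq
  have hm : OddHalf.LongSL.Chev.phi hp K i g = ⟨nn hp K i, nn_mem_group hp i⟩ := Subtype.ext (phi_n hp K i)
  -- the square centralizes the rank one group
  have hz : ∀ x ∈ LL (XX D l K) (sr j), OddHalf.LongSL.Chev.phi hp K i (-1) * x *
      (OddHalf.LongSL.Chev.phi hp K i (-1))⁻¹ = x := by
    have key : ∀ {s : ℕ}, s < D.nroots → D.cartan i s % 2 = 0 → XX D l K (vec D l s) ≤
        Subgroup.centralizer ({OddHalf.LongSL.Chev.phi hp K i (-1)} : Set ↥(D.group K)) := by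
      intro s hs hcs u hu
      obtain ⟨t, ht⟩ := (mem_XX hp K hs).1 hu
      rw [Subgroup.mem_centralizer_singleton_iff]
      refine Subtype.ext ?_
      have h3 := neg_one_conj hp K i hs t
      rw [(Int.even_iff.2 hcs).neg_one_zpow, one_mul, ht] at h3
      exact (mul_inv_eq_iff_eq_mul.1 h3).symm
    intro x hx
    have hle : LL (XX D l K) (sr j) ≤
        Subgroup.centralizer ({OddHalf.LongSL.Chev.phi hp K i (-1)} : Set ↥(D.group K)) := by
      unfold LL
      rw [← vec_simple hp j, ← vec_neg hp hj]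
      exact sup_le (key hj hc) (key hnj hc')
    have h1 := Subgroup.mem_centralizer_singleton_iff.1 (hle hx)
    rw [← h1, mul_inv_cancel_right]
  refine ⟨OddHalf.LongSL.Chev.phi hp K i g, ?_, 2, ?_, ?_, ?_⟩
  · rw [← range_phi hp K i]; exact ⟨_, rfl⟩
  · have e4 : g ^ 2 ^ 2 = 1 := by
      rw [show (2 : ℕ) ^ 2 = 2 * 2 by norm_num, pow_mul, pow_two, pow_two, hgg]; simp
    rw [← map_pow, e4, map_one]
  · intro x hx
    have := hz x hx
    rw [← hgg, map_mul] at this
    rw [show OddHalf.LongSL.Chev.phi hp K i g * (OddHalf.LongSL.Chev.phi hp K i g * x *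
      (OddHalf.LongSL.Chev.phi hp K i g)⁻¹) * (OddHalf.LongSL.Chev.phi hp K i g)⁻¹ =
      OddHalf.LongSL.Chev.phi hp K i g * OddHalf.LongSL.Chev.phi hp K i g * x *
        (OddHalf.LongSL.Chev.phi hp K i g * OddHalf.LongSL.Chev.phi hp K i g)⁻¹ by group]
    exact this
  · intro x hx y hy
    have h1 : OddHalf.LongSL.Chev.phi hp K i g * x * (OddHalf.LongSL.Chev.phi hp K i g)⁻¹ ∈
        LL (XX D l K) (vec D l (D.reflectRoot i (D.simple j))) := by
      have hsub : ∀ {s : ℕ}, s < D.nroots → ∀ u ∈ XX D l K (vec D l s),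
          OddHalf.LongSL.Chev.phi hp K i g * u * (OddHalf.LongSL.Chev.phi hp K i g)⁻¹ ∈
            XX D l K (vec D l (D.reflectRoot i s)) := by
        intro s hs u hu
        rw [hm, Subgroup.mem_subgroupOf]
        change nn hp K i * (u : GL D.Idx K) * (nn hp K i)⁻¹ ∈ _
        rw [← cj_nn hp i hs]
        exact conj_mem_cj.2 (Subgroup.mem_subgroupOf.1 hu)
      have hneg : D.reflectRoot i (D.neg (D.simple j)) = D.neg (D.reflectRoot i (D.simple j)) := by
        have cs := M.toCoxeterSystem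
        refine vec_inj hp (reflectRoot_lt hp.inList (lt_rank hp i) hnj)
          (neg_lt hp.inList (reflectRoot_lt hp.inList (lt_rank hp i) hj)) ?_
        rw [← rep_vec hp cs i hnj, vec_neg hp hj, map_neg, rep_vec hp cs i hj,
          vec_neg hp (reflectRoot_lt hp.inList (lt_rank hp i) hj)]
      have hle : LL (XX D l K) (sr j) ≤ (LL (XX D l K) (vec D l (D.reflectRoot i (D.simple j)))).comap
          (MulAut.conj (OddHalf.LongSL.Chev.phi hp K i g)).toMonoidHom := by
        unfold LL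
        rw [← vec_simple hp j, ← vec_neg hp hj, ← vec_neg hp (reflectRoot_lt hp.inList (lt_rank hp i) hj), ← hneg]
        refine sup_le ?_ ?_
        · exact fun u hu => Subgroup.mem_sup_left (hsub hj u hu)
        · exact fun u hu => Subgroup.mem_sup_right (hsub hnj u hu)
      exact hle hx
    have hy' : y ∈ LL (XX D l K) (vec D l (D.simple j)) := by rw [vec_simple hp j]; exact hy
    exact commute_of_orthB hp K ho _ h1 _ hy'

/-- the order of a root group -/
theorem card_XX [Fintype K] {W : Type*} [Group W] (cs : CoxeterSystem M W) {x : Fin l → ℤ}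
    (hx : IsRoot cs hp.isCartan x) : Nat.card (XX D l K x) = Fintype.card K := by
  obtain ⟨r, hr, rfl⟩ := (isRoot_iff hp cs x).1 hx
  rw [← Nat.card_eq_fintype_card]
  refine (Nat.card_congr (Equiv.ofBijective (fun t : K => (⟨⟨xG hp.inList r t, xG_mem_group hp.inList r t⟩,
    (mem_XX hp K hr).2 ⟨t, rfl⟩⟩ : XX D l K (vec D l r))) ⟨?_, ?_⟩)).symm
  · intro s t h
    exact xG_injective hp.inList hr (congrArg (fun z : XX D l K (vec D l r) => ((z : ↥(D.group K)) : GL D.Idx K)) h)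
  · rintro ⟨u, hu⟩
    obtain ⟨t, ht⟩ := (mem_XX hp K hr).1 hu
    exact ⟨t, Subtype.ext (Subtype.ext ht)⟩

/-- **The Chevalley groups.** -/
theorem closedRow [Fintype K] (hK : Odd (Fintype.card K))
    (hcen : ∀ z : ↥(D.group K), (∀ y, z * y = y * z) → z = 1)
    {link : Fin l → Fin l → Prop} (hlink : ∀ i j, link i j → Link (TG D K) (XX D l K) i j)
    (hconn : ∀ i j, Relation.ReflTransGen link i j)
    {W : Type*} [Group W] (cs : CoxeterSystem M W) {O : (Fin l → ℤ) → (Fin l → ℤ) → Prop}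
    (hO : ∀ x y, O x y → Orth D l x y) {k s : ℕ} (hw : WFrame cs hp.isCartan O k (2 ^ s))
    (hord : ∀ m : ℕ, 2 ^ m ∣ Nat.card ↥(D.group K) →
      2 ^ m ∣ Nat.card ↥(D.diagonalSubgroup K) * 2 ^ s * (Fintype.card K + 1) ^ k) :
    ClosedTwo.ClosedRow ↥(D.group K) := by
  classical
  obtain ⟨p, hpc⟩ := CharP.exists K
  have hpp : p.Prime := (CharP.char_is_prime_or_zero K p).resolve_right (CharP.char_ne_zero_of_finite K p)
  have : Fact p.Prime := ⟨hpp⟩
  have hfin : Finite W := finite_W hp cs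
  obtain ⟨β, P, Γ, h1, h2, h3, h4, h5, h6, h7⟩ := hw
  have hT : Nat.card (TG D K) = Nat.card ↥(D.diagonalSubgroup K) :=
    Nat.card_congr (Subgroup.subgroupOfEquivOfLe (Cfsg.Agent.ChevalleyStructure.Elts.diagonal_le_group hp.inList K)).toEquiv
  refine Frame.closedRow (rgd (K := K) hp cs p) (β := β) (P := P) ⟨h1, fun a b hab => lc_of_orth hp K (hO _ _ (h2 a b hab)),
    h3, h4⟩ (G1_eq_top hp cs) hcen (fun s hs t ht => torus_comm hp K s hs t ht) (isSL hp K hK) hlink hconn
    (IsPGroup.of_card h5) (Γ := Γ) ?_ h6 ?_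
  · intro w hw
    obtain ⟨L, hL, hLo, e⟩ := h7 w hw
    exact ⟨L, hL, hLo.imp fun ho => lc_of_orth hp K (hO _ _ ho), e⟩
  · intro m hm
    have h8 := hord m hm
    have h9 : ∀ a, Nat.card (XX D l K (β a)) = Fintype.card K := fun a => card_XX hp K cs (h1 a)
    rw [hT, h5]
    simp only [h9, Finset.prod_const, Finset.card_univ, Fintype.card_fin]
    exact h8

end Cfsg.Agent.ClosedExc.Chev

end

-- merged: Cfsg.Agent.ClosedExc.Orders
section

/-!
# 2-adic valuations of `q ^ n - 1`, `q ^ n + 1`, `q` odd (helper50, S1252)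
-/

set_option autoImplicit false

namespace Cfsg.Agent.ClosedExc.Orders

variable {q : ℕ}

theorem v_even (hq : Odd q) (h3 : 3 ≤ q) {n : ℕ} (hn : n ≠ 0) (he : Even n) :
    padicValNat 2 (q ^ n - 1) + 1 = padicValNat 2 (q + 1) + padicValNat 2 (q - 1) + padicValNat 2 n := by
  have h1 : 2 ∣ q - 1 := by
    obtain ⟨k, rfl⟩ := hq
    exact ⟨k, by omega⟩
  have h2 : ¬ 2 ∣ q := by
    obtain ⟨k, rfl⟩ := hq
    omega
  have := padicValNat.pow_two_sub_pow (x := q) (y := 1) (by omega) h1 h2 hn he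
  rwa [one_pow] at this

theorem v_odd (hq : Odd q) (h3 : 3 ≤ q) {n : ℕ} (ho : Odd n) : padicValNat 2 (q ^ n - 1) = padicValNat 2 (q - 1) := by
  have h1 : q ^ n - 1 = (q - 1) * ∑ i ∈ Finset.range n, q ^ i := by
    have := Nat.geomSum_eq (m := q) (by omega) n
    have h4 : (q - 1) ∣ q ^ n - 1 := by
      have := Nat.sub_dvd_pow_sub_pow q 1 n
      rwa [one_pow] at this
    rw [this, Nat.mul_div_cancel' h4]
  have h2 : Odd (∑ i ∈ Finset.range n, q ^ i) := by
    rw [Finset.odd_sum_iff_odd_card_odd]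
    have : (Finset.range n).filter (fun i => Odd (q ^ i)) = Finset.range n := by
      rw [Finset.filter_true_of_mem]
      intro i _
      exact hq.pow
    rw [this, Finset.card_range]
    exact ho
  rw [h1, padicValNat.mul (by omega) (by
    intro h; rw [h] at h2; exact absurd h2 (by decide)), padicValNat.eq_zero_of_not_dvd (n := ∑ i ∈ Finset.range n, q ^ i), add_zero]
  exact fun h => (Nat.not_even_iff_odd.2 h2) (even_iff_two_dvd.2 h)

theorem v_odd_add (hq : Odd q) (h3 : 3 ≤ q) {n : ℕ} (ho : Odd n) : padicValNat 2 (q ^ n + 1) = padicValNat 2 (q + 1) := by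
  -- `(q^n - 1)(q^n + 1) = q^(2n) - 1`
  have h0 : n ≠ 0 := by rintro rfl; exact absurd ho (by decide)
  have h1 := v_even hq h3 (n := 2 * n) (by omega) ⟨n, by ring⟩
  have hpow : 1 < q ^ n := Nat.one_lt_pow h0 (by omega)
  have h2 : q ^ (2 * n) - 1 = (q ^ n - 1) * (q ^ n + 1) := by
    have : q ^ (2 * n) = q ^ n * q ^ n := by rw [two_mul, pow_add]
    rw [this]
    obtain ⟨m, hm⟩ : ∃ m, q ^ n = m + 1 := ⟨q ^ n - 1, by omega⟩
    rw [hm]
    have : (m + 1) * (m + 1) - 1 = m * (m + 1 + 1) := by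
      have : (m + 1) * (m + 1) = m * (m + 1 + 1) + 1 := by ring
      rw [this, Nat.add_sub_cancel]
    rw [this, Nat.add_sub_cancel]
  rw [h2, padicValNat.mul (by omega) (by omega), v_odd hq h3 ho, padicValNat.mul (by norm_num) h0,
    padicValNat.eq_zero_of_not_dvd (n := n) (fun h => (Nat.not_even_iff_odd.2 ho) (even_iff_two_dvd.2 h))] at h1
  have h4 : padicValNat 2 2 = 1 := padicValNat.self (by norm_num)
  rw [h4] at h1
  omega

theorem v2 : padicValNat 2 2 = 1 := padicValNat.self (by norm_num)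
theorem v8 : padicValNat 2 8 = 3 := by rw [show 8 = 2 ^ 3 by norm_num, padicValNat.prime_pow]

theorem v_mul_odd (k : ℕ) {m : ℕ} (hm : Odd m) : padicValNat 2 (2 ^ k * m) = k := by
  have h0 : m ≠ 0 := by rintro rfl; exact absurd hm (by decide)
  rw [padicValNat.mul (by positivity) h0, padicValNat.prime_pow,
    padicValNat.eq_zero_of_not_dvd (fun h => (Nat.not_even_iff_odd.2 hm) (even_iff_two_dvd.2 h)), add_zero]

theorem v6 : padicValNat 2 6 = 1 := v_mul_odd 1 (m := 3) (by decide)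
theorem v10 : padicValNat 2 10 = 1 := v_mul_odd 1 (m := 5) (by decide)
theorem v12 : padicValNat 2 12 = 2 := v_mul_odd 2 (m := 3) (by decide)
theorem v14 : padicValNat 2 14 = 1 := v_mul_odd 1 (m := 7) (by decide)
theorem v18 : padicValNat 2 18 = 1 := v_mul_odd 1 (m := 9) (by decide)
theorem v20 : padicValNat 2 20 = 2 := v_mul_odd 2 (m := 5) (by decide)
theorem v24 : padicValNat 2 24 = 3 := v_mul_odd 3 (m := 3) (by decide)
theorem v30 : padicValNat 2 30 = 1 := v_mul_odd 1 (m := 15) (by decide)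

theorem v_q (hq : Odd q) (n : ℕ) : padicValNat 2 (q ^ n) = 0 :=
  padicValNat.eq_zero_of_not_dvd fun h => (Nat.not_even_iff_odd.2 (hq.pow (n := n))) (even_iff_two_dvd.2 h)

theorem pow_sub_ne (h3 : 3 ≤ q) {n : ℕ} (hn : n ≠ 0) : q ^ n - 1 ≠ 0 := by
  have : 1 < q ^ n := Nat.one_lt_pow hn (by omega)
  omega

/-- divisibility from valuations -/
theorem dvd_of_v {a b : ℕ} (ha : a ≠ 0) (hb : b ≠ 0) (h : padicValNat 2 a ≤ padicValNat 2 b) (m : ℕ)
    (hm : 2 ^ m ∣ a) : 2 ^ m ∣ b := by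
  rw [padicValNat_dvd_iff_le ha] at hm
  rw [padicValNat_dvd_iff_le hb]
  omega

theorem ord_E8 (hq : Odd q) (h3 : 3 ≤ q) {N T : ℕ} (hN : N = q ^ 120 * (q ^ 2 - 1) * (q ^ 8 - 1) * (q ^ 12 - 1) * (q ^ 14 - 1) * (q ^ 18 - 1) * (q ^ 20 - 1) * (q ^ 24 - 1) * (q ^ 30 - 1))
    (hT : T = (q - 1) ^ 8) (m : ℕ) (hm : 2 ^ m ∣ N) :
    2 ^ m ∣ T * 2 ^ 6 * (q + 1) ^ 8 := by
  have n0 : q ^ 120 ≠ 0 := by positivity
  have n2 := pow_sub_ne h3 (n := 2) (by norm_num)
  have e2 := v_even hq h3 (n := 2) (by norm_num) (by decide)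
  rw [v2] at e2
  have n8 := pow_sub_ne h3 (n := 8) (by norm_num)
  have e8 := v_even hq h3 (n := 8) (by norm_num) (by decide)
  rw [v8] at e8
  have n12 := pow_sub_ne h3 (n := 12) (by norm_num)
  have e12 := v_even hq h3 (n := 12) (by norm_num) (by decide)
  rw [v12] at e12
  have n14 := pow_sub_ne h3 (n := 14) (by norm_num)
  have e14 := v_even hq h3 (n := 14) (by norm_num) (by decide)
  rw [v14] at e14
  have n18 := pow_sub_ne h3 (n := 18) (by norm_num)
  have e18 := v_even hq h3 (n := 18) (by norm_num) (by decide)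
  rw [v18] at e18
  have n20 := pow_sub_ne h3 (n := 20) (by norm_num)
  have e20 := v_even hq h3 (n := 20) (by norm_num) (by decide)
  rw [v20] at e20
  have n24 := pow_sub_ne h3 (n := 24) (by norm_num)
  have e24 := v_even hq h3 (n := 24) (by norm_num) (by decide)
  rw [v24] at e24
  have n30 := pow_sub_ne h3 (n := 30) (by norm_num)
  have e30 := v_even hq h3 (n := 30) (by norm_num) (by decide)
  rw [v30] at e30
  have hq1 : q - 1 ≠ 0 := by omega
  have hq2 : q + 1 ≠ 0 := by omega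
  subst hN hT
  refine dvd_of_v (by (clear * - h3 n2 n8 n12 n14 n18 n20 n24 n30; positivity)) (by (clear * - h3 hq1; positivity)) ?_ m hm
  rw [padicValNat.mul (by (clear * - h3 n2 n8 n12 n14 n18 n20 n24; positivity)) n30, padicValNat.mul (by (clear * - h3 n2 n8 n12 n14 n18 n20; positivity)) n24, padicValNat.mul (by (clear * - h3 n2 n8 n12 n14 n18; positivity)) n20, padicValNat.mul (by (clear * - h3 n2 n8 n12 n14; positivity)) n18, padicValNat.mul (by (clear * - h3 n2 n8 n12; positivity)) n14, padicValNat.mul (by positivity) n12, padicValNat.mul (by positivity) n8, padicValNat.mul (by positivity) n2, v_q hq,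
    padicValNat.mul (by (clear * - hq1; positivity)) (by positivity), padicValNat.mul (by (clear * - hq1; positivity)) (by positivity),
    padicValNat.pow, padicValNat.pow, padicValNat.pow, v2]
  omega

theorem ord_E7 (hq : Odd q) (h3 : 3 ≤ q) {c : ℕ} (hc : c ≠ 0) {N T : ℕ} (hN : c * N = q ^ 63 * (q ^ 2 - 1) * (q ^ 6 - 1) * (q ^ 8 - 1) * (q ^ 10 - 1) * (q ^ 12 - 1) * (q ^ 14 - 1) * (q ^ 18 - 1))
    (hT : c * T = (q - 1) ^ 7) (m : ℕ) (hm : 2 ^ m ∣ N) :
    2 ^ m ∣ T * 2 ^ 3 * (q + 1) ^ 7 := by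
  have n0 : q ^ 63 ≠ 0 := by positivity
  have n2 := pow_sub_ne h3 (n := 2) (by norm_num)
  have e2 := v_even hq h3 (n := 2) (by norm_num) (by decide)
  rw [v2] at e2
  have n6 := pow_sub_ne h3 (n := 6) (by norm_num)
  have e6 := v_even hq h3 (n := 6) (by norm_num) (by decide)
  rw [v6] at e6
  have n8 := pow_sub_ne h3 (n := 8) (by norm_num)
  have e8 := v_even hq h3 (n := 8) (by norm_num) (by decide)
  rw [v8] at e8
  have n10 := pow_sub_ne h3 (n := 10) (by norm_num)
  have e10 := v_even hq h3 (n := 10) (by norm_num) (by decide)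
  rw [v10] at e10
  have n12 := pow_sub_ne h3 (n := 12) (by norm_num)
  have e12 := v_even hq h3 (n := 12) (by norm_num) (by decide)
  rw [v12] at e12
  have n14 := pow_sub_ne h3 (n := 14) (by norm_num)
  have e14 := v_even hq h3 (n := 14) (by norm_num) (by decide)
  rw [v14] at e14
  have n18 := pow_sub_ne h3 (n := 18) (by norm_num)
  have e18 := v_even hq h3 (n := 18) (by norm_num) (by decide)
  rw [v18] at e18
  have hq1 : q - 1 ≠ 0 := by omega
  have hq2 : q + 1 ≠ 0 := by omega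
  have hN0 : N ≠ 0 := by
    rintro rfl
    rw [mul_zero] at hN
    exact absurd hN.symm (by (clear * - h3 n2 n6 n8 n10 n12 n14 n18; positivity))
  have hT0 : T ≠ 0 := by
    rintro rfl
    rw [mul_zero] at hT
    exact absurd hT.symm (by (clear * - hq1; positivity))
  have hN' := congrArg (padicValNat 2) hN
  have hT' := congrArg (padicValNat 2) hT
  rw [padicValNat.mul hc hN0, padicValNat.mul (by (clear * - h3 n2 n6 n8 n10 n12 n14; positivity)) n18, padicValNat.mul (by (clear * - h3 n2 n6 n8 n10 n12; positivity)) n14, padicValNat.mul (by (clear * - h3 n2 n6 n8 n10; positivity)) n12, padicValNat.mul (by (clear * - h3 n2 n6 n8; positivity)) n10, padicValNat.mul (by (clear * - h3 n2 n6; positivity)) n8, padicValNat.mul (by positivity) n6, padicValNat.mul (by positivity) n2, v_q hq] at hN'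
  rw [padicValNat.mul hc hT0, padicValNat.pow] at hT'
  refine dvd_of_v hN0 (by (clear * - h3 hT0; positivity)) ?_ m hm
  rw [padicValNat.mul (by (clear * - hT0; positivity)) (by positivity), padicValNat.mul hT0 (by positivity),
    padicValNat.pow, padicValNat.pow, v2]
  (clear * - e2 e6 e8 e10 e12 e14 e18 hN' hT'; omega)

theorem ord_E6 (hq : Odd q) (h3 : 3 ≤ q) {c : ℕ} (hc : c ≠ 0) {N T : ℕ} (hN : c * N = q ^ 36 * (q ^ 2 - 1) * (q ^ 5 - 1) * (q ^ 6 - 1) * (q ^ 8 - 1) * (q ^ 9 - 1) * (q ^ 12 - 1))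
    (hT : c * T = (q - 1) ^ 6) (m : ℕ) (hm : 2 ^ m ∣ N) :
    2 ^ m ∣ T * 2 ^ 3 * (q + 1) ^ 4 := by
  have n0 : q ^ 36 ≠ 0 := by positivity
  have n2 := pow_sub_ne h3 (n := 2) (by norm_num)
  have e2 := v_even hq h3 (n := 2) (by norm_num) (by decide)
  rw [v2] at e2
  have n5 := pow_sub_ne h3 (n := 5) (by norm_num)
  have e5 := v_odd hq h3 (n := 5) (by decide)
  have n6 := pow_sub_ne h3 (n := 6) (by norm_num)
  have e6 := v_even hq h3 (n := 6) (by norm_num) (by decide)
  rw [v6] at e6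
  have n8 := pow_sub_ne h3 (n := 8) (by norm_num)
  have e8 := v_even hq h3 (n := 8) (by norm_num) (by decide)
  rw [v8] at e8
  have n9 := pow_sub_ne h3 (n := 9) (by norm_num)
  have e9 := v_odd hq h3 (n := 9) (by decide)
  have n12 := pow_sub_ne h3 (n := 12) (by norm_num)
  have e12 := v_even hq h3 (n := 12) (by norm_num) (by decide)
  rw [v12] at e12
  have hq1 : q - 1 ≠ 0 := by omega
  have hq2 : q + 1 ≠ 0 := by omega
  have hN0 : N ≠ 0 := by
    rintro rfl
    rw [mul_zero] at hN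
    exact absurd hN.symm (by (clear * - h3 n2 n5 n6 n8 n9 n12; positivity))
  have hT0 : T ≠ 0 := by
    rintro rfl
    rw [mul_zero] at hT
    exact absurd hT.symm (by (clear * - hq1; positivity))
  have hN' := congrArg (padicValNat 2) hN
  have hT' := congrArg (padicValNat 2) hT
  rw [padicValNat.mul hc hN0, padicValNat.mul (by (clear * - h3 n2 n5 n6 n8 n9; positivity)) n12, padicValNat.mul (by (clear * - h3 n2 n5 n6 n8; positivity)) n9, padicValNat.mul (by (clear * - h3 n2 n5 n6; positivity)) n8, padicValNat.mul (by (clear * - h3 n2 n5; positivity)) n6, padicValNat.mul (by positivity) n5, padicValNat.mul (by positivity) n2, v_q hq] at hN'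
  rw [padicValNat.mul hc hT0, padicValNat.pow] at hT'
  refine dvd_of_v hN0 (by (clear * - h3 hT0; positivity)) ?_ m hm
  rw [padicValNat.mul (by (clear * - hT0; positivity)) (by positivity), padicValNat.mul hT0 (by positivity),
    padicValNat.pow, padicValNat.pow, v2]
  omega

theorem ord_F4 (hq : Odd q) (h3 : 3 ≤ q) {N T : ℕ} (hN : N = q ^ 24 * (q ^ 2 - 1) * (q ^ 6 - 1) * (q ^ 8 - 1) * (q ^ 12 - 1))
    (hT : T = (q - 1) ^ 4) (m : ℕ) (hm : 2 ^ m ∣ N) :
    2 ^ m ∣ T * 2 ^ 3 * (q + 1) ^ 4 := by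
  have n0 : q ^ 24 ≠ 0 := by positivity
  have n2 := pow_sub_ne h3 (n := 2) (by norm_num)
  have e2 := v_even hq h3 (n := 2) (by norm_num) (by decide)
  rw [v2] at e2
  have n6 := pow_sub_ne h3 (n := 6) (by norm_num)
  have e6 := v_even hq h3 (n := 6) (by norm_num) (by decide)
  rw [v6] at e6
  have n8 := pow_sub_ne h3 (n := 8) (by norm_num)
  have e8 := v_even hq h3 (n := 8) (by norm_num) (by decide)
  rw [v8] at e8
  have n12 := pow_sub_ne h3 (n := 12) (by norm_num)
  have e12 := v_even hq h3 (n := 12) (by norm_num) (by decide)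
  rw [v12] at e12
  have hq1 : q - 1 ≠ 0 := by omega
  have hq2 : q + 1 ≠ 0 := by omega
  subst hN hT
  refine dvd_of_v (by (clear * - h3 n2 n6 n8 n12; positivity)) (by positivity) ?_ m hm
  rw [padicValNat.mul (by (clear * - h3 n2 n6 n8; positivity)) n12, padicValNat.mul (by positivity) n8, padicValNat.mul (by positivity) n6, padicValNat.mul (by positivity) n2, v_q hq,
    padicValNat.mul (by positivity) (by positivity), padicValNat.mul (by positivity) (by positivity),
    padicValNat.pow, padicValNat.pow, padicValNat.pow, v2]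
  omega

theorem ord_G2 (hq : Odd q) (h3 : 3 ≤ q) {N T : ℕ} (hN : N = q ^ 6 * (q ^ 2 - 1) * (q ^ 6 - 1))
    (hT : T = (q - 1) ^ 2) (m : ℕ) (hm : 2 ^ m ∣ N) :
    2 ^ m ∣ T * 2 ^ 0 * (q + 1) ^ 2 := by
  have n0 : q ^ 6 ≠ 0 := by positivity
  have n2 := pow_sub_ne h3 (n := 2) (by norm_num)
  have e2 := v_even hq h3 (n := 2) (by norm_num) (by decide)
  rw [v2] at e2
  have n6 := pow_sub_ne h3 (n := 6) (by norm_num)
  have e6 := v_even hq h3 (n := 6) (by norm_num) (by decide)
  rw [v6] at e6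
  have hq1 : q - 1 ≠ 0 := by omega
  have hq2 : q + 1 ≠ 0 := by omega
  subst hN hT
  refine dvd_of_v (by positivity) (by positivity) ?_ m hm
  rw [padicValNat.mul (by positivity) n6, padicValNat.mul (by positivity) n2, v_q hq,
    padicValNat.mul (by positivity) (by positivity), padicValNat.mul (by positivity) (by positivity),
    padicValNat.pow, padicValNat.pow, padicValNat.pow, v2]
  omega

theorem ord_TwE6 (hq : Odd q) (h3 : 3 ≤ q) {c : ℕ} (hc : c ≠ 0) {N T : ℕ} (hN : c * N = q ^ 36 * (q ^ 2 - 1) * (q ^ 5 + 1) * (q ^ 6 - 1) * (q ^ 8 - 1) * (q ^ 9 + 1) * (q ^ 12 - 1))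
    (hT : c * T = (q - 1) ^ 4 * (q + 1) ^ 2) (m : ℕ) (hm : 2 ^ m ∣ N) :
    2 ^ m ∣ T * 2 ^ 3 * (q + 1) ^ 4 := by
  have n0 : q ^ 36 ≠ 0 := by positivity
  have n2 := pow_sub_ne h3 (n := 2) (by norm_num)
  have e2 := v_even hq h3 (n := 2) (by norm_num) (by decide)
  rw [v2] at e2
  have n5 : q ^ 5 + 1 ≠ 0 := by positivity
  have e5 := v_odd_add hq h3 (n := 5) (by decide)
  have n6 := pow_sub_ne h3 (n := 6) (by norm_num)
  have e6 := v_even hq h3 (n := 6) (by norm_num) (by decide)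
  rw [v6] at e6
  have n8 := pow_sub_ne h3 (n := 8) (by norm_num)
  have e8 := v_even hq h3 (n := 8) (by norm_num) (by decide)
  rw [v8] at e8
  have n9 : q ^ 9 + 1 ≠ 0 := by positivity
  have e9 := v_odd_add hq h3 (n := 9) (by decide)
  have n12 := pow_sub_ne h3 (n := 12) (by norm_num)
  have e12 := v_even hq h3 (n := 12) (by norm_num) (by decide)
  rw [v12] at e12
  have hq1 : q - 1 ≠ 0 := by omega
  have hq2 : q + 1 ≠ 0 := by omega
  have hN0 : N ≠ 0 := by
    rintro rfl
    rw [mul_zero] at hN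
    exact absurd hN.symm (by (clear * - h3 n2 n6 n8 n12; positivity))
  have hT0 : T ≠ 0 := by
    rintro rfl
    rw [mul_zero] at hT
    exact absurd hT.symm (by (clear * - h3 hq1; positivity))
  have hN' := congrArg (padicValNat 2) hN
  have hT' := congrArg (padicValNat 2) hT
  rw [padicValNat.mul hc hN0, padicValNat.mul (by (clear * - h3 n2 n6 n8; positivity)) n12, padicValNat.mul (by (clear * - h3 n2 n6 n8; positivity)) n9, padicValNat.mul (by (clear * - h3 n2 n6; positivity)) n8, padicValNat.mul (by positivity) n6, padicValNat.mul (by positivity) n5, padicValNat.mul (by positivity) n2, v_q hq] at hN'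
  rw [padicValNat.mul hc hT0, padicValNat.mul (by (clear * - hq1; positivity)) (by positivity), padicValNat.pow, padicValNat.pow] at hT'
  refine dvd_of_v hN0 (by (clear * - h3 hT0; positivity)) ?_ m hm
  rw [padicValNat.mul (by (clear * - hT0; positivity)) (by positivity), padicValNat.mul hT0 (by positivity),
    padicValNat.pow, padicValNat.pow, v2]
  omega

end Cfsg.Agent.ClosedExc.Orders

end

-- merged: Cfsg.Agent.ClosedExc.Families
section

/-!
# Strongly closed 2-subgroups of the exceptional Chevalley groups in odd characteristic (helper50, S1252)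

The rows of `G₂(q)`, `F₄(q)`, `E₆(q)`, `E₇(q)`, `E₈(q)`, `q` odd, from frames in the Weyl groups.
-/

set_option autoImplicit false
set_option linter.unusedSectionVars false

namespace Cfsg.Agent.ClosedExc.Families

open CoxeterSystem Cfsg Cfsg.Lie Cfsg.Agent.ChevalleyStructure Cfsg.Agent.ChevalleyStructure.CoxeterGeom
  Cfsg.Agent.Tits.Roots Cfsg.Agent.Nodes.RGDChev Cfsg.Agent.ClosedExc.Frame Cfsg.Agent.ClosedExc.Chev
open Cfsg.Agent.ClosedTwo (ClosedRow)

/-- trees are connected -/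
theorem conn_of_par {I : Type*} {link : I → I → Prop} (c : I) (par : I → I) (m : ℕ)
    (h : ∀ i, i = c ∨ (link i (par i) ∧ link (par i) i)) (hm : ∀ i, par^[m] i = c) (i j : I) :
    Relation.ReflTransGen link i j := by
  classical
  have h1 : ∀ n i, Relation.ReflTransGen link i (par^[n] i) ∨ ∃ k, Relation.ReflTransGen link i (par^[k] i) ∧
      par^[k] i = c := by
    intro n
    induction n with
    | zero => exact fun i => Or.inl .refl
    | succ n ih =>
      intro i
      rcases ih i with h2 | h2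
      · rcases h (par^[n] i) with h3 | h3
        · exact Or.inr ⟨n, h2, h3⟩
        · left
          rw [Function.iterate_succ_apply']
          exact h2.tail h3.1
      · exact Or.inr h2
  have h2 : ∀ n i, Relation.ReflTransGen link (par^[n] i) i ∨ ∃ k, Relation.ReflTransGen link (par^[k] i) i ∧
      par^[k] i = c := by
    intro n
    induction n with
    | zero => exact fun i => Or.inl .refl
    | succ n ih =>
      intro i
      rcases ih i with h2 | h2
      · rcases h (par^[n] i) with h3 | h3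
        · exact Or.inr ⟨n, h2, h3⟩
        · left
          rw [Function.iterate_succ_apply']
          exact Relation.ReflTransGen.head h3.2 h2
      · exact Or.inr h2
  have h3 : Relation.ReflTransGen link i c := by
    rcases h1 m i with h3 | ⟨k, h3, h4⟩
    · rwa [hm] at h3
    · rwa [h4] at h3
  have h4 : Relation.ReflTransGen link c j := by
    rcases h2 m j with h4 | ⟨k, h4, h5⟩
    · rwa [hm] at h4
    · rwa [h5] at h4
  exact h3.trans h4

theorem isType_G2 : IsType chevG2 2 CoxeterMatrix.G₂ := by simp [IsType, typeList]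
theorem isType_F4 : IsType chevF4 4 CoxeterMatrix.F₄ := by simp [IsType, typeList]
theorem isType_E6 : IsType chevE6 6 CoxeterMatrix.E₆ := by simp [IsType, typeList]
theorem isType_E7 : IsType chevE7 7 CoxeterMatrix.E₇ := by simp [IsType, typeList]
theorem isType_E8 : IsType chevE8 8 CoxeterMatrix.E₈ := by simp [IsType, typeList]

/-- the link relation -/
def lk (D : ChevalleyDatum) (l : ℕ) (i j : Fin l) : Prop := D.cartan i (D.simple j) % 2 = 1

instance (D : ChevalleyDatum) (l : ℕ) (i j : Fin l) : Decidable (lk D l i j) := by unfold lk; infer_instance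

theorem three_le {K : Type} [Field K] [Fintype K] (hK : Odd (Fintype.card K)) : 3 ≤ Fintype.card K := by
  have h1 : 1 < Fintype.card K := Fintype.one_lt_card
  obtain ⟨k, hk⟩ := hK
  omega

theorem connE6 : ∀ i j, Relation.ReflTransGen (lk chevE6 6) i j :=
  conn_of_par 3 ![2, 3, 3, 3, 3, 4] 3 (by decide +kernel) (by decide +kernel)

theorem connE7 : ∀ i j, Relation.ReflTransGen (lk chevE7 7) i j :=
  conn_of_par 3 ![2, 3, 3, 3, 3, 4, 5] 3 (by (refine of_decide_eq_true ?_; delta Cfsg.Agent.ClosedExc.Families.instDecidableLk Cfsg.Agent.ClosedExc.Families.lk; rewrite [Cfsg.Agent.ChevFast.E7.cartan]; decide +kernel)) (by decide +kernel)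

theorem connE8 : ∀ i j, Relation.ReflTransGen (lk chevE8 8) i j :=
  conn_of_par 3 ![2, 3, 3, 3, 3, 4, 5, 6] 4 (by (refine of_decide_eq_true ?_; delta Cfsg.Agent.ClosedExc.Families.instDecidableLk Cfsg.Agent.ClosedExc.Families.lk; rewrite [Cfsg.Agent.ChevFast.E8.cartan]; decide +kernel)) (by decide +kernel)

theorem connG2 : ∀ i j, Relation.ReflTransGen (lk chevG2 2) i j :=
  conn_of_par 0 ![0, 0] 1 (by decide +kernel) (by decide +kernel)

theorem connF4 : ∀ i j, Relation.ReflTransGen (fun i j => lk chevF4 4 i j ∨ (i = 1 ∧ j = 2)) i j :=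
  conn_of_par 0 ![0, 0, 1, 2] 3 (by decide +kernel) (by decide +kernel)

variable (K : Type) [Field K] [Fintype K] (hK : Odd (Fintype.card K))

include hK

theorem two_ne : (2 : K) ≠ 0 := SL.two_ne hK

theorem row_E6 (hcen : ∀ z : ↥(chevE6.group K), (∀ y, z * y = y * z) → z = 1) {W : Type*} [Group W]
    (cs : CoxeterSystem CoxeterMatrix.E₆ W) (hw : WFrame cs isType_E6.isCartan (Orth chevE6 6) 4 8) :
    ClosedRow ↥(chevE6.group K) := by
  refine Chev.closedRow isType_E6 K hK hcen (fun i j h => link_odd isType_E6 K (two_ne K hK) h) connE6 cs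
    (fun _ _ h => h) (s := 3) hw ?_
  exact Orders.ord_E6 hK (three_le hK) (Nat.gcd_pos_of_pos_left _ (by norm_num)).ne' (S1063.result (F := K) rfl)
    (S1035.result (F := K) rfl (chevE6, Nat.gcd 3 (Fintype.card K - 1)) (by simp only [_root_.List.mem_cons, _root_.Prod.mk.injEq, _root_.List.not_mem_nil, _root_.or_false, _root_.true_or, _root_.or_true]))

theorem row_E7 (hcen : ∀ z : ↥(chevE7.group K), (∀ y, z * y = y * z) → z = 1) {W : Type*} [Group W]
    (cs : CoxeterSystem CoxeterMatrix.E₇ W) (hw : WFrame cs isType_E7.isCartan (Orth chevE7 7) 7 8) :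
    ClosedRow ↥(chevE7.group K) := by
  refine Chev.closedRow isType_E7 K hK hcen (fun i j h => link_odd isType_E7 K (two_ne K hK) h) connE7 cs
    (fun _ _ h => h) (s := 3) hw ?_
  exact Orders.ord_E7 hK (three_le hK) (Nat.gcd_pos_of_pos_left _ (by norm_num)).ne' (S1064.result (F := K) rfl)
    (S1035.result (F := K) rfl (chevE7, Nat.gcd 2 (Fintype.card K - 1)) (by simp only [_root_.List.mem_cons, _root_.Prod.mk.injEq, _root_.Nat.coprime_two_left, _root_.and_true, _root_.List.not_mem_nil, _root_.or_false, _root_.true_or, _root_.or_true]))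

theorem row_E8 (hcen : ∀ z : ↥(chevE8.group K), (∀ y, z * y = y * z) → z = 1) {W : Type*} [Group W]
    (cs : CoxeterSystem CoxeterMatrix.E₈ W) (hw : WFrame cs isType_E8.isCartan (Orth chevE8 8) 8 64) :
    ClosedRow ↥(chevE8.group K) := by
  have hT := S1035.result (F := K) rfl (chevE8, 1) (by simp only [_root_.List.mem_cons, _root_.Prod.mk.injEq, _root_.and_true, _root_.List.not_mem_nil, _root_.or_false, _root_.true_or, _root_.or_true])
  rw [one_mul] at hT
  refine Chev.closedRow isType_E8 K hK hcen (fun i j h => link_odd isType_E8 K (two_ne K hK) h) connE8 cs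
    (fun _ _ h => h) (s := 6) hw ?_
  exact Orders.ord_E8 hK (three_le hK) (S1065.result (F := K) rfl) hT

theorem row_F4 (hcen : ∀ z : ↥(chevF4.group K), (∀ y, z * y = y * z) → z = 1) {W : Type*} [Group W]
    (cs : CoxeterSystem CoxeterMatrix.F₄ W) {O : (Fin 4 → ℤ) → (Fin 4 → ℤ) → Prop}
    (hO : ∀ x y, O x y → Orth chevF4 4 x y) (hw : WFrame cs isType_F4.isCartan O 4 8) :
    ClosedRow ↥(chevF4.group K) := by
  have hT := S1035.result (F := K) rfl (chevF4, 1) (by simp only [_root_.List.mem_cons, _root_.Prod.mk.injEq, _root_.and_true, _root_.List.not_mem_nil, _root_.or_false, _root_.true_or, _root_.or_true])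
  rw [one_mul] at hT
  refine Chev.closedRow isType_F4 K hK hcen (link := fun i j => lk chevF4 4 i j ∨ (i = 1 ∧ j = 2)) ?_ connF4 cs
    hO (s := 3) hw ?_
  · rintro i j (h | ⟨rfl, rfl⟩)
    · exact link_odd isType_F4 K (two_ne K hK) h
    · exact link_even isType_F4 K (by decide +kernel) (by decide +kernel) (by decide +kernel)
  · exact Orders.ord_F4 hK (three_le hK) (S1062.result (F := K) rfl) hT

omit hK in
theorem wframe_G2 {W : Type*} [Group W] (cs : CoxeterSystem CoxeterMatrix.G₂ W) :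
    WFrame cs isType_G2.isCartan (Orth chevG2 2) 2 1 := by
  refine ⟨![vec chevG2 2 7, vec chevG2 2 11], ⊥, ∅, ?_, ?_, ?_, ?_, ?_, ?_, ?_⟩
  · intro a
    fin_cases a
    · exact isRoot_vec isType_G2 cs (by decide +kernel)
    · exact isRoot_vec isType_G2 cs (by decide +kernel)
  · intro a b hab
    fin_cases a <;> fin_cases b
    · exact absurd rfl hab
    · exact ⟨7, 11, by decide +kernel, rfl, rfl⟩
    · exact ⟨11, 7, by decide +kernel, rfl, rfl⟩
    · exact absurd rfl hab
  · intro w hw a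
    rw [Subgroup.mem_bot] at hw
    exact ⟨a, Or.inl (by rw [hw, map_one, Module.End.one_apply])⟩
  · intro w hw _
    exact Subgroup.mem_bot.1 hw
  · exact Subgroup.card_bot
  · rw [Subgroup.closure_empty]
  · intro w hw
    exact absurd hw (Set.notMem_empty w)

theorem row_G2 (hcen : ∀ z : ↥(chevG2.group K), (∀ y, z * y = y * z) → z = 1) : ClosedRow ↥(chevG2.group K) := by
  have hT := S1035.result (F := K) rfl (chevG2, 1) (by simp only [_root_.List.mem_cons, _root_.Prod.mk.injEq, _root_.and_true, _root_.List.not_mem_nil, _root_.or_false, _root_.true_or])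
  rw [one_mul] at hT
  refine Chev.closedRow isType_G2 K hK hcen (fun i j h => link_odd isType_G2 K (two_ne K hK) h) connG2
    CoxeterMatrix.G₂.toCoxeterSystem (fun _ _ h => h) (s := 0) (wframe_G2 _) ?_
  exact Orders.ord_G2 hK (three_le hK) (S1059.result (F := K) rfl) hT

end Cfsg.Agent.ClosedExc.Families

end

-- merged: Cfsg.Agent.ClosedExc.TwD4
section

/-!
# Strongly closed 2-subgroups of `³D₄(q)`, `q` odd (helper50, S1252)

`Frame.closedRow` for the root group datum of type `G₂` of `³D₄(q)`: frame = a long root and an orthogonal short root,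
with rank one groups `SL₂(q)`, `SL₂(q³)`.
-/

set_option autoImplicit false
set_option linter.unusedSectionVars false
set_option maxHeartbeats 400000

namespace Cfsg.Agent.ClosedExc.TwD4

open CoxeterSystem Cfsg.Agent.ChevalleyStructure.CoxeterGeom Cfsg.Agent.Tits.Roots
  Cfsg.Agent.Nodes.Reps Cfsg.Agent.Nodes.BNOf Cfsg.Agent.Nodes.FreeTorus Cfsg.Agent.Nodes.Bruhat
open Cfsg.Lie Cfsg.Agent.ChevalleyStructure Cfsg.Agent.ChevalleyStructure.Elts
  Cfsg.Agent.ChevalleyStructure.TwistedU Cfsg.Agent.ChevalleyStructure.NPerm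
open Cfsg.Agent.Nodes.RGDFold Cfsg.Agent.Nodes.RGDTwD4
open Cfsg.Agent.ClosedExc.Frame Cfsg.Agent.ClosedExc.FoldInst
open Cfsg.Agent.ChevalleyStructure.D4Fixed (sig)
open Cfsg.Agent.OddHalf.LongSL.Fold (FF goodS mem_FF psi0 psi0_up psi0_lo)
open Cfsg.Agent.ClosedTwo (ClosedRow)

theorem simples : chevD4.simple 0 = 18 ∧ chevD4.simple 1 = 14 ∧ chevD4.simple 2 = 13 ∧ chevD4.simple 3 = 12 := by
  decide +kernel

theorem negs : chevD4.neg 18 = 5 ∧ chevD4.neg 14 = 9 ∧ chevD4.neg 13 = 10 ∧ chevD4.neg 12 = 11 := by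
  decide +kernel

theorem cartans : chevD4.cartan 1 18 = -1 ∧ chevD4.cartan 1 13 = -1 ∧ chevD4.cartan 1 12 = -1 ∧
    chevD4.cartan 0 14 = -1 ∧ chevD4.cartan 2 14 = -1 ∧ chevD4.cartan 3 14 = -1 := by
  decide +kernel

theorem fibres : ∀ k < chevD4.nroots, V chevD4 J k = sr 0 → ∀ k' < chevD4.nroots, V chevD4 J k' = ![1, 2] →
    orthB chevD4 k k' = true := by decide +kernel

section

variable {F : Type*} [Field F] {G : Type*} [Group G]

/-- commuting homomorphisms -/
theorem commute_hom {F' : Type*} [Field F'] (f : Matrix.SpecialLinearGroup (Fin 2) F →* G)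
    (f' : Matrix.SpecialLinearGroup (Fin 2) F' →* G)
    (h1 : ∀ t u, Commute (f (SL2Hom.up t)) (f' (SL2Hom.up u))) (h2 : ∀ t u, Commute (f (SL2Hom.up t)) (f' (SL2Hom.lo u)))
    (h3 : ∀ t u, Commute (f (SL2Hom.lo t)) (f' (SL2Hom.up u))) (h4 : ∀ t u, Commute (f (SL2Hom.lo t)) (f' (SL2Hom.lo u)))
    (g : Matrix.SpecialLinearGroup (Fin 2) F) (g' : Matrix.SpecialLinearGroup (Fin 2) F') : Commute (f g) (f' g') := by
  have key : ∀ x : G, (∀ u, Commute x (f' (SL2Hom.up u))) → (∀ u, Commute x (f' (SL2Hom.lo u))) → ∀ g',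
      Commute x (f' g') := by
    intro x hx1 hx2 g'
    have h : g' ∈ (Subgroup.centralizer ({x} : Set G)).comap f' := by
      refine (Subgroup.closure_le _).2 ?_ (SL2Hom.mem_closure_SL2 g')
      rintro y (⟨t, rfl⟩ | ⟨t, rfl⟩)
      · exact Subgroup.mem_centralizer_singleton_iff.2 (hx1 t).eq.symm
      · exact Subgroup.mem_centralizer_singleton_iff.2 (hx2 t).eq.symm
    exact (Subgroup.mem_centralizer_singleton_iff.1 h).symm
  have h : g ∈ (Subgroup.centralizer ({f' g'} : Set G)).comap f := by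
    refine (Subgroup.closure_le _).2 ?_ (SL2Hom.mem_closure_SL2 g)
    rintro y (⟨t, rfl⟩ | ⟨t, rfl⟩)
    · exact Subgroup.mem_centralizer_singleton_iff.2 (key _ (h1 t) (h2 t) g').eq
    · exact Subgroup.mem_centralizer_singleton_iff.2 (key _ (h3 t) (h4 t) g').eq
  exact Subgroup.mem_centralizer_singleton_iff.1 h

theorem map_up (φ : F →+* F) (t : F) : Matrix.SpecialLinearGroup.map φ (SL2Hom.up t) = SL2Hom.up (φ t) := by
  apply Subtype.ext
  show φ.mapMatrix (SL2Hom.up t).1 = (SL2Hom.up (φ t)).1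
  ext i j
  (revert i j; simp only [SL2Hom.up, _root_.Fin.forall_fin_succ, _root_.RingHom.mapMatrix_apply, _root_.Matrix.map_apply, _root_.Matrix.of_apply, _root_.Matrix.cons_val', _root_.Matrix.cons_val_fin_one, Fin.isValue, _root_.Matrix.cons_val_zero, _root_.Matrix.cons_val_succ, _root_.forall_const, _root_.map_one, _root_.and_self, _root_.map_zero, _root_.implies_true])

theorem map_lo (φ : F →+* F) (t : F) : Matrix.SpecialLinearGroup.map φ (SL2Hom.lo t) = SL2Hom.lo (φ t) := by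
  apply Subtype.ext
  show φ.mapMatrix (SL2Hom.lo t).1 = (SL2Hom.lo (φ t)).1
  ext i j
  (revert i j; simp only [SL2Hom.lo, _root_.Fin.forall_fin_succ, _root_.RingHom.mapMatrix_apply, _root_.Matrix.map_apply, _root_.Matrix.of_apply, _root_.Matrix.cons_val', _root_.Matrix.cons_val_fin_one, Fin.isValue, _root_.Matrix.cons_val_zero, _root_.Matrix.cons_val_succ, _root_.forall_const, _root_.map_one, _root_.map_zero, _root_.and_self, _root_.implies_true])

theorem map_neg_one (φ : F →+* F) : Matrix.SpecialLinearGroup.map (n := Fin 2) φ (-1) = -1 := by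
  apply Matrix.SpecialLinearGroup.ext
  intro i j
  show φ ((-1 : Matrix (Fin 2) (Fin 2) F) i j) = (-1 : Matrix (Fin 2) (Fin 2) F) i j
  (revert i j; simp only [_root_.Fin.forall_fin_succ, _root_.Matrix.neg_apply, _root_.map_neg, _root_.neg_inj, _root_.IsEmpty.forall_iff, _root_.and_true, _root_.Matrix.one_apply_eq, _root_.map_one, Nat.reduceAdd, Fin.isValue, _root_.Fin.succ_zero_eq_one, _root_.ne_eq, _root_.zero_ne_one, _root_.not_false_eq_true, _root_.Matrix.one_apply_ne, _root_.map_zero, _root_.and_self, _root_.Fin.succ_ne_zero, _root_.true_and])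

end

section

variable {K : Type} [Field K]

/-- the root elements -/
noncomputable abbrev xx (r : ℕ) (t : K) : GL chevD4.Idx K := xG hp.inList r t

/-- the root homomorphism of a simple root -/
noncomputable abbrev ph (K : Type) [Field K] (j : Fin 4) : Matrix.SpecialLinearGroup (Fin 2) K →* GL chevD4.Idx K :=
  SL2Hom.phi (goodS hp j) K

theorem ph_up (j : Fin 4) (t : K) : ph K j (SL2Hom.up t) = xx (chevD4.simple j) t :=
  Units.ext (SL2Hom.phi_upper _ _ _ rfl)

theorem ph_lo (j : Fin 4) (t : K) : ph K j (SL2Hom.lo t) = xx (chevD4.neg (chevD4.simple j)) t :=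
  Units.ext (SL2Hom.phi_lower _ _ _ rfl)

theorem ph_neg_one (j : Fin 4) : ph K j (-1) = hG hp.inList (chevD4.simple j) (-1) :=
  OddHalf.LongSL.Chev.phi_neg_one hp K j

theorem ph_comm {i j : Fin 4} (h : orthB chevD4 (chevD4.simple i) (chevD4.simple j) = true)
    (g g' : Matrix.SpecialLinearGroup (Fin 2) K) : Commute (ph K i g) (ph K j g') := by
  refine commute_hom _ _ ?_ ?_ ?_ ?_ g g' <;> intro t u
  · rw [ph_up, ph_up]; exact (commute_xG_of_orthB hp h t u).1
  · rw [ph_up, ph_lo]; exact (commute_xG_of_orthB hp h t u).2.2.1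
  · rw [ph_lo, ph_up]; exact (commute_xG_of_orthB hp h t u).2.1
  · rw [ph_lo, ph_lo]; exact (commute_xG_of_orthB hp h t u).2.2.2

theorem c02 (g g' : Matrix.SpecialLinearGroup (Fin 2) K) : Commute (ph K 0 g) (ph K 2 g') :=
  ph_comm (by decide +kernel) g g'
theorem c03 (g g' : Matrix.SpecialLinearGroup (Fin 2) K) : Commute (ph K 0 g) (ph K 3 g') :=
  ph_comm (by decide +kernel) g g'
theorem c23 (g g' : Matrix.SpecialLinearGroup (Fin 2) K) : Commute (ph K 2 g) (ph K 3 g') :=
  ph_comm (by decide +kernel) g g'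

/-- the twisted diagonal embedding of `SL₂(K)` -/
noncomputable def psi1 (φ : K →+* K) : Matrix.SpecialLinearGroup (Fin 2) K →* GL chevD4.Idx K where
  toFun g := ph K 0 g * ph K 2 (Matrix.SpecialLinearGroup.map φ g) *
    ph K 3 (Matrix.SpecialLinearGroup.map φ (Matrix.SpecialLinearGroup.map φ g))
  map_one' := by simp only [map_one, mul_one]
  map_mul' a b := by
    simp only [map_mul]
    have h1 := (c02 b (Matrix.SpecialLinearGroup.map φ a)).eq
    have h2 := (c03 b (Matrix.SpecialLinearGroup.map φ (Matrix.SpecialLinearGroup.map φ a))).eq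
    have h3 := (c23 (Matrix.SpecialLinearGroup.map φ b)
      (Matrix.SpecialLinearGroup.map φ (Matrix.SpecialLinearGroup.map φ a))).eq
    set A := ph K 0 a
    set B := ph K 2 (Matrix.SpecialLinearGroup.map φ a)
    set C := ph K 3 (Matrix.SpecialLinearGroup.map φ (Matrix.SpecialLinearGroup.map φ a))
    set A' := ph K 0 b
    set B' := ph K 2 (Matrix.SpecialLinearGroup.map φ b)
    set C' := ph K 3 (Matrix.SpecialLinearGroup.map φ (Matrix.SpecialLinearGroup.map φ b))
    calc A * A' * (B * B') * (C * C') = A * (A' * B) * (B' * C) * C' := by group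
      _ = A * (B * A') * (C * B') * C' := by rw [h1, h3]
      _ = A * B * (A' * C) * B' * C' := by group
      _ = A * B * (C * A') * B' * C' := by rw [h2]
      _ = A * B * C * (A' * B' * C') := by group

theorem psi1_apply (φ : K →+* K) (g : Matrix.SpecialLinearGroup (Fin 2) K) : psi1 φ g =
    ph K 0 g * ph K 2 (Matrix.SpecialLinearGroup.map φ g) *
      ph K 3 (Matrix.SpecialLinearGroup.map φ (Matrix.SpecialLinearGroup.map φ g)) := rfl

theorem X_eq (φ : K →+* K) (t : K) : D4Fixed.X φ t = xx 18 t * xx 13 (φ t) * xx 12 (φ (φ t)) := by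
  unfold D4Fixed.X xx
  rw [D4U.xU_eq, D4U.xU_eq, D4U.xU_eq, xG_eq]

theorem Y_eq (φ : K →+* K) (t : K) : D4Fixed.Y φ t = xx 5 t * xx 10 (φ t) * xx 11 (φ (φ t)) := by
  unfold D4Fixed.Y xx
  rw [D4U.xU_eq, D4U.xU_eq, D4U.xU_eq, xG_eq]

theorem psi1_up (φ : K →+* K) (t : K) : psi1 φ (SL2Hom.up t) = D4Fixed.X φ t := by
  rw [psi1_apply, map_up, map_up, ph_up, ph_up, ph_up, X_eq]
  simp only [Fin.val_zero, show ((2 : Fin 4) : ℕ) = 2 from rfl, show ((3 : Fin 4) : ℕ) = 3 from rfl, simples.1,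
    simples.2.2.1, simples.2.2.2]

theorem psi1_lo (φ : K →+* K) (t : K) : psi1 φ (SL2Hom.lo t) = D4Fixed.Y φ t := by
  rw [psi1_apply, map_lo, map_lo, ph_lo, ph_lo, ph_lo, Y_eq]
  simp only [Fin.val_zero, show ((2 : Fin 4) : ℕ) = 2 from rfl, show ((3 : Fin 4) : ℕ) = 3 from rfl, simples.1,
    simples.2.2.1, simples.2.2.2, negs.1, negs.2.2.1, negs.2.2.2]

theorem psi1_ker [Fintype K] (hK : Odd (Fintype.card K)) (φ : K →+* K) {g : Matrix.SpecialLinearGroup (Fin 2) K}
    (hg : psi1 φ g = 1) : g = 1 ∨ g = -1 := by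
  refine SL.eq_of_central hK fun u => ?_
  have h1 : ph K 0 (g * u * g⁻¹ * u⁻¹) = 1 := by
    have h2 : psi1 φ g * ph K 0 u * (psi1 φ g)⁻¹ = ph K 0 u := by rw [hg]; simp
    rw [psi1_apply] at h2
    have e1 := (c02 u (Matrix.SpecialLinearGroup.map φ g)).eq
    have e2 := (c03 u (Matrix.SpecialLinearGroup.map φ (Matrix.SpecialLinearGroup.map φ g))).eq
    simp only [map_mul, map_inv]
    generalize ph K 0 g = A at *
    generalize ph K 2 (Matrix.SpecialLinearGroup.map φ g) = B at *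
    generalize ph K 3 (Matrix.SpecialLinearGroup.map φ (Matrix.SpecialLinearGroup.map φ g)) = C at *
    generalize ph K 0 u = U at *
    have e3 : A * B * C * U * (A * B * C)⁻¹ = A * U * A⁻¹ := by
      calc A * B * C * U * (A * B * C)⁻¹ = A * B * (C * U) * C⁻¹ * B⁻¹ * A⁻¹ := by group
        _ = A * B * (U * C) * C⁻¹ * B⁻¹ * A⁻¹ := by rw [e2]
        _ = A * (B * U) * B⁻¹ * A⁻¹ := by group
        _ = A * (U * B) * B⁻¹ * A⁻¹ := by rw [e1]
        _ = A * U * A⁻¹ := by group
    rw [← e3, h2, mul_inv_cancel]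
  rcases OddHalf.LongSL.Chev.phi_eq_one _ h1 with h2 | h2
  · left
    have h3 : g * u * g⁻¹ = u := by rwa [mul_inv_eq_one] at h2
    exact mul_inv_eq_iff_eq_mul.1 h3
  · right
    have h3 : g * u * g⁻¹ = -u := by
      rw [mul_inv_eq_iff_eq_mul] at h2
      rw [h2, neg_mul, one_mul]
    have h4 := mul_inv_eq_iff_eq_mul.1 h3
    rw [h4, neg_mul]

/-- conjugation by the central involutions -/
theorem conj_z {i : Fin 4} {s : ℕ} (hs : s < chevD4.nroots) (hc : chevD4.cartan i s = -1) (t : K) :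
    ph K i (-1) * xx s t * (ph K i (-1))⁻¹ = xx s (-t) := by
  rw [ph_neg_one, OddHalf.LongSL.Chev.conj_hG hp K i hs (-1) (neg_ne_zero.2 one_ne_zero), hc]
  congr 1
  rw [zpow_neg, zpow_one, inv_neg, inv_one, neg_one_mul]

theorem conj_z0 (φ : K →+* K) (t : K) : ph K 1 (-1) * D4Fixed.X φ t * (ph K 1 (-1))⁻¹ = D4Fixed.X φ (-t) := by
  have h1 := conj_z (K := K) (i := 1) (s := 18) (by decide +kernel) cartans.1 t
  have h2 := conj_z (K := K) (i := 1) (s := 13) (by decide +kernel) cartans.2.1 (φ t)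
  have h3 := conj_z (K := K) (i := 1) (s := 12) (by decide +kernel) cartans.2.2.1 (φ (φ t))
  rw [X_eq, X_eq, map_neg, map_neg, ← h1, ← h2, ← h3]
  group

theorem conj_z1 (φ : K →+* K) (t : K) : psi1 φ (-1) * xx 14 t * (psi1 φ (-1))⁻¹ = xx 14 (-t) := by
  rw [psi1_apply, map_neg_one, map_neg_one]
  have h1 := conj_z (K := K) (i := 3) (s := 14) (by decide +kernel) cartans.2.2.2.2.2 t
  have h2 := conj_z (K := K) (i := 2) (s := 14) (by decide +kernel) cartans.2.2.2.2.1 (-t)
  have h3 := conj_z (K := K) (i := 0) (s := 14) (by decide +kernel) cartans.2.2.2.1 (- -t)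
  rw [_root_.neg_neg] at h3
  rw [_root_.neg_neg] at h2
  calc ph K 0 (-1) * ph K 2 (-1) * ph K 3 (-1) * xx 14 t * (ph K 0 (-1) * ph K 2 (-1) * ph K 3 (-1))⁻¹
      = ph K 0 (-1) * (ph K 2 (-1) * (ph K 3 (-1) * xx 14 t * (ph K 3 (-1))⁻¹) * (ph K 2 (-1))⁻¹) *
          (ph K 0 (-1))⁻¹ := by group
    _ = xx 14 (-t) := by rw [h1, h2, h3]

end

section Group

variable {K : Type} [Field K] {q : ℕ} {φ : K →+* K} (hφ : ∀ x, φ x = x ^ q) (hle : twistedD4 K q ≤ D4Fixed.fix φ)

include hφ hle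

theorem mem_X0 (g : ↥(twistedD4 K q)) : g ∈ X φ q (sr 0) ↔ ∃ t : FF φ, (g : GL chevD4.Idx K) = xx 14 (t : K) := by
  constructor
  · intro h
    have h1 : (g : GL chevD4.Idx K) ∈ R chevD4 hp K J (sig φ) (sr 0) := Subgroup.mem_subgroupOf.1 h
    rw [R0] at h1
    obtain ⟨t, ht, e⟩ := D4U.RS_14_fix h1.1 h1.2
    exact ⟨⟨t, ht⟩, by rw [e, xx, xG_eq]⟩
  · rintro ⟨t, ht⟩
    refine Subgroup.mem_subgroupOf.2 ?_
    rw [R0, ht, xx, xG_eq]
    exact ⟨mem_rspan D4Comm.xG (S := {k | k ∈ [14]}) (by simp) _, hle (D4U.xG14_mem hφ t.2)⟩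

theorem mem_X0' (g : ↥(twistedD4 K q)) : g ∈ X φ q (-sr 0) ↔ ∃ t : FF φ, (g : GL chevD4.Idx K) = xx 9 (t : K) := by
  constructor
  · intro h
    have h1 : (g : GL chevD4.Idx K) ∈ R chevD4 hp K J (sig φ) (-sr 0) := Subgroup.mem_subgroupOf.1 h
    rw [R0'] at h1
    obtain ⟨t, ht, e⟩ := D4Twisted.RS_9_fix φ h1.1 h1.2
    exact ⟨⟨t, ht⟩, by rw [e, xx, xG_eq]⟩
  · rintro ⟨t, ht⟩
    refine Subgroup.mem_subgroupOf.2 ?_
    rw [R0', ht, xx, xG_eq]
    refine ⟨mem_rspan D4Comm.xG (S := {k | k ∈ [9]}) (by simp) _, hle ?_⟩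
    rw [← D4U.xU_eq]
    exact D4Fixed.x9_mem ((hφ _).symm.trans t.2)

theorem mem_X1 (g : ↥(twistedD4 K q)) : g ∈ X φ q (sr 1) ↔ ∃ t : K, (g : GL chevD4.Idx K) = D4Fixed.X φ t := by
  constructor
  · intro h
    have h1 : (g : GL chevD4.Idx K) ∈ R chevD4 hp K J (sig φ) (sr 1) := Subgroup.mem_subgroupOf.1 h
    rw [R1] at h1
    exact D4U.RS_outer_fix h1.1 h1.2
  · rintro ⟨t, ht⟩
    refine Subgroup.mem_subgroupOf.2 ?_
    rw [R1, ht]
    exact ⟨D4Twisted.X_mem_RS t, hle (D4Fixed.X_mem hφ t)⟩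

theorem mem_X1' (g : ↥(twistedD4 K q)) : g ∈ X φ q (-sr 1) ↔ ∃ t : K, (g : GL chevD4.Idx K) = D4Fixed.Y φ t := by
  constructor
  · intro h
    have h1 : (g : GL chevD4.Idx K) ∈ R chevD4 hp K J (sig φ) (-sr 1) := Subgroup.mem_subgroupOf.1 h
    rw [R1'] at h1
    exact D4Twisted.RS_neg_fix φ h1.1 h1.2
  · rintro ⟨t, ht⟩
    refine Subgroup.mem_subgroupOf.2 ?_
    rw [R1', ht]
    exact ⟨Hexagon.TwD4RGD.Y_mem_RS t, hle (D4Fixed.Y_mem hφ t)⟩

theorem f0_mem (g : Matrix.SpecialLinearGroup (Fin 2) (FF φ)) : psi0 (hp := hp) 1 φ g ∈ twistedD4 K q := by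
  have h1 : g ∈ (twistedD4 K q).comap (psi0 (hp := hp) 1 φ) := by
    refine (Subgroup.closure_le _).2 ?_ (SL2Hom.mem_closure_SL2 g)
    rintro x (⟨t, rfl⟩ | ⟨t, rfl⟩)
    · show psi0 (hp := hp) 1 φ _ ∈ twistedD4 K q
      rw [psi0_up]
      show xG hp.inList (chevD4.simple 1) (t : K) ∈ twistedD4 K q
      rw [simples.2.1, xG_eq]
      exact D4U.xG14_mem hφ t.2
    · show psi0 (hp := hp) 1 φ _ ∈ twistedD4 K q
      rw [psi0_lo]
      show xG hp.inList (chevD4.neg (chevD4.simple 1)) (t : K) ∈ twistedD4 K q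
      rw [simples.2.1, negs.2.1, xG_eq, ← D4U.xU_eq]
      exact D4Fixed.x9_mem ((hφ _).symm.trans t.2)
  exact h1

theorem f1_mem (g : Matrix.SpecialLinearGroup (Fin 2) K) : psi1 φ g ∈ twistedD4 K q := by
  have h1 : g ∈ (twistedD4 K q).comap (psi1 φ) := by
    refine (Subgroup.closure_le _).2 ?_ (SL2Hom.mem_closure_SL2 g)
    rintro x (⟨t, rfl⟩ | ⟨t, rfl⟩)
    · show psi1 φ _ ∈ twistedD4 K q
      rw [psi1_up]
      exact D4Fixed.X_mem hφ t
    · show psi1 φ _ ∈ twistedD4 K q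
      rw [psi1_lo]
      exact D4Fixed.Y_mem hφ t
  exact h1

theorem isSL0 [Fintype K] (hK : Odd (Fintype.card K)) [Fintype (FF φ)] (hF : Odd (Fintype.card (FF φ))) :
    IsSL (LL (X φ q) (sr 0)) := by
  let ψ : Matrix.SpecialLinearGroup (Fin 2) (FF φ) →* ↥(twistedD4 K q) :=
    (psi0 (hp := hp) 1 φ).codRestrict _ (f0_mem hφ hle)
  have hψ : ∀ g, (ψ g : GL chevD4.Idx K) = psi0 (hp := hp) 1 φ g := fun g => rfl
  have hup : ∀ t : FF φ, (ψ (SL2Hom.up t) : GL chevD4.Idx K) = xx 14 (t : K) := by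
    intro t
    rw [hψ, psi0_up]
    show xG hp.inList (chevD4.simple 1) (t : K) = _
    rw [simples.2.1]
  have hlo : ∀ t : FF φ, (ψ (SL2Hom.lo t) : GL chevD4.Idx K) = xx 9 (t : K) := by
    intro t
    rw [hψ, psi0_lo]
    show xG hp.inList (chevD4.neg (chevD4.simple 1)) (t : K) = _
    rw [simples.2.1, negs.2.1]
  refine isSL_of_hom hF ψ ?_ ?_ ?_ ?_ ?_
  · intro g hg
    left
    have h1 : psi0 (hp := hp) 1 φ g = 1 := congrArg Subtype.val hg
    exact OddHalf.LongSL.Fold.psi0_injective (hp := hp) 1 φ (SL.two_ne hK) (by decide +kernel)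
      (h1.trans (map_one _).symm)
  · exact fun t => (mem_X0 hφ hle _).2 ⟨t, hup t⟩
  · exact fun t => (mem_X0' hφ hle _).2 ⟨t, hlo t⟩
  · intro u hu
    obtain ⟨t, ht⟩ := (mem_X0 hφ hle _).1 hu
    exact ⟨t, Subtype.ext (by rw [hup, ht])⟩
  · intro u hu
    obtain ⟨t, ht⟩ := (mem_X0' hφ hle _).1 hu
    exact ⟨t, Subtype.ext (by rw [hlo, ht])⟩

theorem isSL1 [Fintype K] (hK : Odd (Fintype.card K)) : IsSL (LL (X φ q) (sr 1)) := by
  let ψ : Matrix.SpecialLinearGroup (Fin 2) K →* ↥(twistedD4 K q) := (psi1 φ).codRestrict _ (f1_mem hφ hle)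
  have hψ : ∀ g, (ψ g : GL chevD4.Idx K) = psi1 φ g := fun g => rfl
  refine isSL_of_hom hK ψ ?_ ?_ ?_ ?_ ?_
  · intro g hg
    exact psi1_ker hK φ (congrArg Subtype.val hg)
  · exact fun t => (mem_X1 hφ hle _).2 ⟨t, by rw [hψ, psi1_up]⟩
  · exact fun t => (mem_X1' hφ hle _).2 ⟨t, by rw [hψ, psi1_lo]⟩
  · intro u hu
    obtain ⟨t, ht⟩ := (mem_X1 hφ hle _).1 hu
    exact ⟨t, Subtype.ext (by rw [hψ, psi1_up, ht])⟩
  · intro u hu
    obtain ⟨t, ht⟩ := (mem_X1' hφ hle _).1 hu
    exact ⟨t, Subtype.ext (by rw [hψ, psi1_lo, ht])⟩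

theorem hG_diag (i : Fin 4) : hG hp.inList (chevD4.simple i) (-1 : K) ∈ chevD4.diagonalSubgroup K :=
  hG_mem_diagonal hp.inList (simple_lt hp.inList (Cfsg.Agent.Nodes.RGDChev.lt_rank hp i)) (neg_ne_zero.2 one_ne_zero)

theorem link01 (h2 : (2 : K) ≠ 0) : Link (T K q) (X φ q) 0 1 := by
  left
  have hz : psi0 (hp := hp) 1 φ (-1) = ph K 1 (-1) := by
    rw [OddHalf.LongSL.Fold.psi0_neg_one, ph_neg_one]
  have hm : ph K 1 (-1) ∈ twistedD4 K q := by rw [← hz]; exact f0_mem hφ hle _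
  have hX : D4Fixed.X φ (1 : K) ∈ twistedD4 K q := D4Fixed.X_mem hφ 1
  refine ⟨⟨ph K 1 (-1), hm⟩, ?_, ?_, ?_, ⟨_, hX⟩, ?_, ?_⟩
  · let ψ : Matrix.SpecialLinearGroup (Fin 2) (FF φ) →* ↥(twistedD4 K q) :=
      (psi0 (hp := hp) 1 φ).codRestrict _ (f0_mem hφ hle)
    have h1 : (⟨ph K 1 (-1), hm⟩ : ↥(twistedD4 K q)) = ψ (-1) := Subtype.ext hz.symm
    rw [h1]
    have h3 : (-1 : Matrix.SpecialLinearGroup (Fin 2) (FF φ)) ∈ (LL (X φ q) (sr 0)).comap ψ := by
      refine (Subgroup.closure_le _).2 ?_ (SL2Hom.mem_closure_SL2 _)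
      rintro x (⟨t, rfl⟩ | ⟨t, rfl⟩)
      · refine Subgroup.mem_sup_left ((mem_X0 hφ hle _).2 ⟨t, ?_⟩)
        show psi0 (hp := hp) 1 φ _ = _
        rw [psi0_up]
        show xG hp.inList (chevD4.simple 1) (t : K) = _
        rw [simples.2.1]
      · refine Subgroup.mem_sup_right ((mem_X0' hφ hle _).2 ⟨t, ?_⟩)
        show psi0 (hp := hp) 1 φ _ = _
        rw [psi0_lo]
        show xG hp.inList (chevD4.neg (chevD4.simple 1)) (t : K) = _
        rw [simples.2.1, negs.2.1]
    exact h3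
  · apply Subtype.ext
    show ph K 1 (-1) * ph K 1 (-1) = 1
    rw [← map_mul]; simp
  · refine Subgroup.mem_subgroupOf.2 ⟨?_, hm⟩
    show ph K 1 (-1) ∈ _
    rw [ph_neg_one]
    exact hG_diag hφ hle 1
  · exact Subgroup.mem_sup_left ((mem_X1 hφ hle _).2 ⟨1, rfl⟩)
  · intro h
    have h1 : ph K 1 (-1) * D4Fixed.X φ 1 = D4Fixed.X φ 1 * ph K 1 (-1) := congrArg Subtype.val h
    have h3 := conj_z0 φ (1 : K)
    rw [h1, mul_inv_cancel_right] at h3
    have h4 := TwD4Card.X_inj h3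
    apply h2
    linear_combination h4

theorem link10 (h2 : (2 : K) ≠ 0) : Link (T K q) (X φ q) 1 0 := by
  left
  have hm : psi1 φ (-1) ∈ twistedD4 K q := f1_mem hφ hle _
  have hX : xx 14 (1 : K) ∈ twistedD4 K q := by
    rw [xx, xG_eq]; exact D4U.xG14_mem hφ (map_one φ)
  refine ⟨⟨psi1 φ (-1), hm⟩, ?_, ?_, ?_, ⟨_, hX⟩, ?_, ?_⟩
  · let ψ : Matrix.SpecialLinearGroup (Fin 2) K →* ↥(twistedD4 K q) := (psi1 φ).codRestrict _ (f1_mem hφ hle)
    have h3 : (-1 : Matrix.SpecialLinearGroup (Fin 2) K) ∈ (LL (X φ q) (sr 1)).comap ψ := by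
      refine (Subgroup.closure_le _).2 ?_ (SL2Hom.mem_closure_SL2 _)
      rintro x (⟨t, rfl⟩ | ⟨t, rfl⟩)
      · refine Subgroup.mem_sup_left ((mem_X1 hφ hle _).2 ⟨t, ?_⟩)
        show psi1 φ _ = _
        rw [psi1_up]
      · refine Subgroup.mem_sup_right ((mem_X1' hφ hle _).2 ⟨t, ?_⟩)
        show psi1 φ _ = _
        rw [psi1_lo]
    exact h3
  · apply Subtype.ext
    show psi1 φ (-1) * psi1 φ (-1) = 1
    rw [← map_mul]; simp
  · refine Subgroup.mem_subgroupOf.2 ⟨?_, hm⟩
    show psi1 φ (-1) ∈ _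
    rw [psi1_apply, map_neg_one, map_neg_one, ph_neg_one, ph_neg_one, ph_neg_one]
    exact mul_mem (mul_mem (hG_diag hφ hle 0) (hG_diag hφ hle 2)) (hG_diag hφ hle 3)
  · refine Subgroup.mem_sup_left ((mem_X0 hφ hle _).2 ⟨⟨1, map_one φ⟩, rfl⟩)
  · intro h
    have h1 : psi1 φ (-1) * xx 14 1 = xx 14 1 * psi1 φ (-1) := congrArg Subtype.val h
    have h3 := conj_z1 φ (1 : K)
    rw [h1, mul_inv_cancel_right] at h3
    have h4 := xG_injective hp.inList (by decide +kernel) h3
    apply h2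
    linear_combination h4

theorem card_X0 [Fintype K] (hq : 2 ≤ q) (hK : Fintype.card K = q ^ 3) : Nat.card (X φ q (sr 0)) = q := by
  classical
  have hfin : Fintype (FF φ) := Fintype.ofFinite _
  have hc := OddHalf.LongSL.Tw.card_FF hq hK hφ
  rw [← Nat.card_eq_fintype_card] at hc
  have hx : ∀ t : FF φ, xx 14 (t : K) ∈ twistedD4 K q := fun t => by
    rw [xx, xG_eq]; exact D4U.xG14_mem hφ t.2
  refine Eq.trans ?_ hc
  refine (Nat.card_congr (Equiv.ofBijective (fun t : FF φ => (⟨⟨xx 14 (t : K), hx t⟩,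
    (mem_X0 hφ hle _).2 ⟨t, rfl⟩⟩ : X φ q (sr 0))) ⟨?_, ?_⟩)).symm
  · intro s t h
    exact Subtype.ext (xG_injective hp.inList (by decide +kernel)
      (congrArg (fun z : X φ q (sr 0) => ((z : ↥(twistedD4 K q)) : GL chevD4.Idx K)) h))
  · rintro ⟨u, hu⟩
    obtain ⟨t, ht⟩ := (mem_X0 hφ hle _).1 hu
    exact ⟨t, Subtype.ext (Subtype.ext ht.symm)⟩

theorem card_X1 [Fintype K] : Nat.card (X φ q (sr 1)) = Fintype.card K := by
  rw [← Nat.card_eq_fintype_card]
  refine (Nat.card_congr (Equiv.ofBijective (fun t : K => (⟨⟨D4Fixed.X φ t, D4Fixed.X_mem hφ t⟩,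
    (mem_X1 hφ hle _).2 ⟨t, rfl⟩⟩ : X φ q (sr 1))) ⟨?_, ?_⟩)).symm
  · intro s t h
    exact TwD4Card.X_inj (congrArg (fun z : X φ q (sr 1) => ((z : ↥(twistedD4 K q)) : GL chevD4.Idx K)) h)
  · rintro ⟨u, hu⟩
    obtain ⟨t, ht⟩ := (mem_X1 hφ hle _).1 hu
    exact ⟨t, Subtype.ext (Subtype.ext ht.symm)⟩

end Group

/-- the orders -/
theorem ord {q m : ℕ} (hq : 2 ≤ q) (ho : Odd q)
    (h : 2 ^ m ∣ q ^ 12 * (q ^ 2 - 1) * (q ^ 6 - 1) * (q ^ 8 + q ^ 4 + 1)) :
    2 ^ m ∣ (q - 1) ^ 2 * (q ^ 2 + q + 1) * 1 * ((q + 1) * (q ^ 3 + 1)) := by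
  have h1 : Nat.Coprime (2 ^ m) (q ^ 8 + q ^ 4 + 1) := by
    refine Nat.Coprime.pow_left m (Nat.coprime_two_left.2 ?_)
    have e8 : Odd (q ^ 8) := ho.pow
    have e4 : Odd (q ^ 4) := ho.pow
    exact (e8.add_odd e4).add_one
  have h2 : Nat.Coprime (2 ^ m) (q ^ 12) := Nat.Coprime.pow_left m (Nat.coprime_two_left.2 ho.pow)
  have h3 := h1.dvd_of_dvd_mul_right h
  rw [mul_assoc] at h3
  have h4 := h2.dvd_of_dvd_mul_left h3
  obtain ⟨k, rfl⟩ := Nat.exists_eq_add_of_le' (show 1 ≤ q by omega)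
  have e : (k + 1 - 1) ^ 2 * ((k + 1) ^ 2 + (k + 1) + 1) * 1 * ((k + 1 + 1) * ((k + 1) ^ 3 + 1)) =
      ((k + 1) ^ 2 - 1) * ((k + 1) ^ 6 - 1) := by
    have e1 : (k + 1) ^ 2 - 1 = k * (k + 2) := by
      rw [Nat.sub_eq_iff_eq_add (Nat.one_le_pow _ _ (by omega))]; ring
    have e2 : (k + 1) ^ 6 - 1 = k * ((k + 1) ^ 2 + (k + 1) + 1) * ((k + 1) ^ 3 + 1) := by
      rw [Nat.sub_eq_iff_eq_add (Nat.one_le_pow _ _ (by omega))]; ring
    rw [e1, e2, Nat.add_sub_cancel]
    ring
  rw [e]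
  exact h4

/-- **The row of `³D₄(q)`, `q` odd.** -/
theorem row_twD4 (K : Type) [Field K] [Fintype K] {q : ℕ} (hq : IsPrimePow q) (hK : Fintype.card K = q ^ 3)
    (ho : Odd q) (hcen : ∀ z : ↥(twistedD4 K q), (∀ y, z * y = y * z) → z = 1) : ClosedRow ↥(twistedD4 K q) := by
  classical
  obtain ⟨φ, hφ⟩ := D4Fixed.exists_frob hq hK
  have hle := D4Fixed.twisted_le_fix hK hφ
  obtain ⟨p, hpc⟩ := CharP.exists K
  have hpp : p.Prime := (CharP.char_is_prime_or_zero K p).resolve_right (CharP.char_ne_zero_of_finite K p)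
  have : Fact p.Prime := ⟨hpp⟩
  have hKo : Odd (Fintype.card K) := by rw [hK]; exact ho.pow
  have h2 : (2 : K) ≠ 0 := SL.two_ne hKo
  have hfin : Fintype (FF φ) := Fintype.ofFinite _
  have hFc := OddHalf.LongSL.Tw.card_FF hq.two_le hK hφ
  let cs := CoxeterMatrix.G₂.toCoxeterSystem
  have hW : Finite CoxeterMatrix.G₂.Group := Cfsg.Agent.Nodes.RGDFold.finite_W (hp := hp) cs isCartan foldData
  have R := _root_.Cfsg.Agent.Nodes.RGDTwD4.rgd cs hK hφ p
  have hr1 : rep cs isCartan (cs.simple 1 * cs.simple 0) (sr 1) = ![1, 2] := by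
    rw [rep_mul_apply, rep_refl, rep_refl]
    decide +kernel
  have hroot : IsRoot cs isCartan (![1, 2] : Fin 2 → ℤ) := ⟨_, 1, hr1.symm⟩
  have hc12 : Nat.card (X φ q ![1, 2]) = q ^ 3 := by
    obtain ⟨g, hg⟩ := exists_rp cs R.nsys (cs.simple 1 * cs.simple 0)
    have h1 := R.conj_rp hg (isRoot_sr cs isCartan 1)
    rw [hr1] at h1
    have h3 : Nat.card (cj g (X φ q (sr 1))) = Nat.card (X φ q (sr 1)) :=
      Nat.card_congr ((X φ q (sr 1)).equivMapOfInjective _ (MulAut.conj g).injective).toEquiv.symm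
    rw [← h1, h3, card_X1 hφ hle, hK]
  have hlc : LC (X φ q) (sr 0) ![1, 2] := lc_of_fibres hp fibres
  refine Frame.closedRow R (β := ![sr 0, ![1, 2]]) (P := ⊥) ⟨?_, ?_, ?_, ?_⟩ (_root_.Cfsg.Agent.Nodes.RGDTwD4.G1_eq_top cs hK hφ) hcen
    (fun s hs t ht => torus_comm hp s hs t ht) ?_ (link := fun i j => i ≠ j) ?_ ?_ IsPGroup.of_bot (Γ := ∅) ?_
    Subgroup.closure_empty.symm ?_
  · intro a
    fin_cases a
    · exact isRoot_sr cs isCartan 0
    · exact hroot
  · intro a b hab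
    fin_cases a <;> fin_cases b
    · exact absurd rfl hab
    · exact hlc
    · exact fun x hx y hy => (hlc y hy x hx).symm
    · exact absurd rfl hab
  · intro w hw a
    rw [Subgroup.mem_bot] at hw
    exact ⟨a, Or.inl (by rw [hw, map_one, Module.End.one_apply])⟩
  · intro w hw _
    exact Subgroup.mem_bot.1 hw
  · intro i
    fin_cases i
    · exact isSL0 hφ hle hKo (by rw [hFc]; exact ho)
    · exact isSL1 hφ hle hKo
  · intro i j hij
    fin_cases i <;> fin_cases j
    · exact absurd rfl hij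
    · exact link01 hφ hle h2
    · exact link10 hφ hle h2
    · exact absurd rfl hij
  · intro i j
    by_cases hij : i = j
    · rw [hij]
    · exact Relation.ReflTransGen.single hij
  · intro w hw
    exact absurd hw (Set.notMem_empty w)
  · intro m hm
    rw [S1067.result hq hK] at hm
    have h3 := ord hq.two_le ho hm
    have hT : Nat.card (T K q) = (q - 1) ^ 2 * (q ^ 2 + q + 1) := by
      rw [← S1106.result hq hK]
      exact Nat.card_congr (Subgroup.subgroupOfEquivOfLe inf_le_right).toEquiv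
    rw [hT, Subgroup.card_bot, Fin.prod_univ_two]
    show 2 ^ m ∣ _ * 1 * ((Nat.card (X φ q (sr 0)) + 1) * (Nat.card (X φ q ![1, 2]) + 1))
    rw [card_X0 hφ hle hq.two_le hK, hc12]
    exact h3

end Cfsg.Agent.ClosedExc.TwD4

end

-- merged: Cfsg.Agent.ClosedExc.WGen
section

/-!
# Frames in Weyl groups: the certificate (helper52, S1252)

Vectors of the root lattice are lists of integers, elements of the Weyl group are words, a subgroup of the Weyl group
permuting a list `T` of vectors which spans the lattice over `ℚ` is a list of permutations (lists of natural numbers).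
-/

set_option autoImplicit false
set_option linter.unusedSectionVars false

namespace Cfsg.Agent.ClosedExc.WFr

open CoxeterSystem Cfsg.Agent.ChevalleyStructure.CoxeterGeom Cfsg.Agent.Tits.Roots Cfsg.Agent.ClosedExc.Frame

/-! ### computations -/

/-- The dot product. -/
def dot : List ℤ → List ℤ → ℤ
  | [], _ => 0
  | _ :: _, [] => 0
  | a :: as, b :: bs => a * b + dot as bs

/-- Subtract `d` at position `i`. -/
def subAt : ℕ → ℤ → List ℤ → List ℤ
  | _, _, [] => []
  | 0, d, x :: xs => (x - d) :: xs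
  | i + 1, d, x :: xs => x :: subAt i d xs

/-- A simple reflection. -/
def step (AL : List (List ℤ)) (i : ℕ) (x : List ℤ) : List ℤ := subAt i (dot (AL.getD i []) x) x

/-- The action of a word. -/
def act (AL : List (List ℤ)) : List ℕ → List ℤ → List ℤ
  | [], x => x
  | i :: w, x => step AL i (act AL w x)

/-- A list as a vector. -/
def toV (l : ℕ) (x : List ℤ) : Fin l → ℤ := fun i => x.getD i 0

/-- The simple root. -/
def ei (l i : ℕ) : List ℤ := (List.range l).map fun j => if j = i then 1 else 0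

/-- The word of a reflection. -/
def rw' (p : List ℕ × ℕ) : List ℕ := p.1 ++ p.2 :: p.1.reverse

/-- The root of a reflection. -/
def rootOf (AL : List (List ℤ)) (l : ℕ) (p : List ℕ × ℕ) : List ℤ := act AL p.1 (ei l p.2)

/-- The word of a product of reflections. -/
def fw (g : List (List ℕ × ℕ)) : List ℕ := g.flatMap rw'

/-- The composition `σ ∘ τ` of permutations. -/
def comp (σ τ : List ℕ) : List ℕ := τ.map fun a => σ.getD a 0

/-- All products with increasing indices. -/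
def allProds (m : ℕ) : List (List ℕ) → List (List ℕ)
  | [] => [List.range m]
  | π :: t => allProds m t ++ (allProds m t).map (comp π)

/-- The permutation of a word in the generators. -/
def hperm (m : ℕ) (Pi : List (List ℕ)) : List ℕ → List ℕ
  | [] => List.range m
  | g :: w => comp (Pi.getD g []) (hperm m Pi w)

/-! ### lists as vectors -/

theorem toV_apply {l : ℕ} (x : List ℤ) (i : Fin l) : toV l x i = x.getD i 0 := rfl

theorem toV_inj {l : ℕ} {x y : List ℤ} (hx : x.length = l) (hy : y.length = l) (h : toV l x = toV l y) : x = y := by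
  refine List.ext_getElem (hx.trans hy.symm) fun i h1 h2 => ?_
  have := congrFun h ⟨i, hx ▸ h1⟩
  simp only [toV_apply] at this
  rwa [List.getD_eq_getElem _ _ h1, List.getD_eq_getElem _ _ h2] at this

theorem dot_eq : ∀ {l : ℕ} {a b : List ℤ}, a.length = l → b.length = l →
    dot a b = ∑ k : Fin l, a.getD k 0 * b.getD k 0
  | 0, [], [], _, _ => rfl
  | l + 1, a :: as, b :: bs, ha, hb => by
    rw [dot, dot_eq (l := l) (a := as) (b := bs) (by simpa using ha) (by simpa using hb), Fin.sum_univ_succ]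
    simp only [_root_.List.getD_eq_getElem?_getD, _root_.Fin.coe_ofNat_eq_mod, _root_.Nat.zero_mod, _root_.List.length_cons, _root_.lt_add_iff_pos_left, _root_.Order.lt_add_one_iff, _root_.zero_le, _root_.getElem?_pos, _root_.List.getElem_cons_zero, _root_.Option.getD_some, _root_.Fin.val_succ, _root_.List.getElem?_cons_succ]

theorem subAt_length : ∀ (i : ℕ) (d : ℤ) (x : List ℤ), (subAt i d x).length = x.length
  | _, _, [] => by simp [subAt]
  | 0, _, _ :: _ => by simp [subAt]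
  | i + 1, d, x :: xs => by simp [subAt, subAt_length i d xs]

theorem subAt_getD : ∀ (i : ℕ) (d : ℤ) (x : List ℤ) (j : ℕ), j < x.length →
    (subAt i d x).getD j 0 = x.getD j 0 - if j = i then d else 0
  | _, _, [], j, hj => by simp at hj
  | 0, d, x :: xs, 0, _ => by simp [subAt]
  | 0, d, x :: xs, j + 1, _ => by simp only [subAt, _root_.List.getD_eq_getElem?_getD, _root_.List.getElem?_cons_succ, _root_.Nat.add_eq_zero_iff, _root_.one_ne_zero, _root_.and_false, ↓ _root_.reduceIte, _root_.sub_zero]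
  | i + 1, d, x :: xs, 0, _ => by simp [subAt]
  | i + 1, d, x :: xs, j + 1, hj => by
    have := subAt_getD i d xs j (by simpa using hj)
    simp only [subAt, List.getD_cons_succ, this, Nat.add_right_cancel_iff]

theorem step_length (AL : List (List ℤ)) (i : ℕ) (x : List ℤ) : (step AL i x).length = x.length :=
  subAt_length _ _ _

theorem act_length (AL : List (List ℤ)) : ∀ (w : List ℕ) (x : List ℤ), (act AL w x).length = x.length
  | [], _ => rfl
  | i :: w, x => by rw [act, step_length, act_length AL w x]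

theorem ei_length (l i : ℕ) : (ei l i).length = l := by simp [ei]

theorem toV_ei {l : ℕ} (i : Fin l) : toV l (ei l i) = sr i := by
  funext j
  rw [toV_apply, ei, List.getD_eq_getElem _ _ (by simp)]
  simp only [List.getElem_map, List.getElem_range]
  by_cases hj : j = i
  · subst hj; simp [sr]
  · rw [if_neg (fun h => hj (Fin.ext h)), sr, Pi.single_eq_of_ne hj]

section W

variable {l : ℕ} {W : Type*} [Group W] {M : CoxeterMatrix (Fin l)} (cs : CoxeterSystem M W)
  {C : Fin l → Fin l → ℤ} (h : IsCartan M C) {AL : List (List ℤ)}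

/-- The element of a word. -/
def wd (cs : CoxeterSystem M W) : List ℕ → W
  | [] => 1
  | i :: w => (if hi : i < l then cs.simple ⟨i, hi⟩ else 1) * wd cs w

theorem wd_append : ∀ v w : List ℕ, wd cs (v ++ w) = wd cs v * wd cs w
  | [], w => by rw [List.nil_append, wd, one_mul]
  | i :: v, w => by rw [List.cons_append, wd, wd, wd_append v w, mul_assoc]

theorem wd_reverse : ∀ w : List ℕ, wd cs w.reverse = (wd cs w)⁻¹
  | [] => by rw [List.reverse_nil, wd, inv_one]
  | i :: w => by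
    rw [List.reverse_cons, wd_append, wd_reverse w, wd, wd, wd, mul_one, mul_inv_rev]
    congr 1
    split
    · rw [cs.inv_simple]
    · rw [inv_one]

/-- The table of the Cartan matrix. -/
structure IsTab (C : Fin l → Fin l → ℤ) (AL : List (List ℤ)) : Prop where
  len : AL.length = l
  len' : ∀ a ∈ AL, a.length = l
  eq : ∀ i j : Fin l, (AL.getD i []).getD j 0 = C i j

variable (hA : IsTab C AL)

include hA

theorem rep_step (i : Fin l) {x : List ℤ} (hx : x.length = l) :
    rep cs h (cs.simple i) (toV l x) = toV l (step AL i x) := by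
  rw [rep_simple, refl_apply]
  funext j
  have h1 : (AL.getD i []).length = l := by
    rw [List.getD_eq_getElem _ _ (by rw [hA.len]; exact i.2)]
    exact hA.len' _ (List.getElem_mem _)
  rw [Pi.sub_apply, toV_apply, toV_apply, step, subAt_getD _ _ _ _ (by rw [hx]; exact j.2), dot_eq h1 hx, pairing]
  congr 1
  by_cases hj : j = i
  · subst hj
    rw [Pi.single_eq_same, if_pos rfl]
    exact Finset.sum_congr rfl fun k _ => by rw [hA.eq, toV_apply]
  · rw [Pi.single_eq_of_ne hj, if_neg fun h => hj (Fin.ext h)]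

theorem rep_wd {x : List ℤ} (hx : x.length = l) :
    ∀ w : List ℕ, rep cs h (wd cs w) (toV l x) = toV l (act AL w x)
  | [] => by rw [wd, map_one, Module.End.one_apply, act]
  | i :: w => by
    rw [wd, rep_mul_apply, rep_wd hx w, act]
    by_cases hi : i < l
    · rw [dif_pos hi, rep_step cs h hA ⟨i, hi⟩ (by rw [act_length, hx])]
    · rw [dif_neg hi, map_one, Module.End.one_apply]
      funext j
      rw [toV_apply, toV_apply, step, subAt_getD _ _ _ _ (by rw [act_length, hx]; exact j.2),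
        if_neg (by have := j.2; omega), sub_zero]

/-- The reflection. -/
theorem isRefl {p : List ℕ × ℕ} (hp : p.2 < l) :
    _root_.Cfsg.Agent.ClosedExc.Frame.IsRefl cs h (toV l (rootOf AL l p)) (wd cs (rw' p)) := by
  refine ⟨wd cs p.1, ⟨p.2, hp⟩, ?_, ?_⟩
  · rw [rootOf, ← rep_wd cs h hA (ei_length l p.2)]
    exact congrArg _ (toV_ei ⟨p.2, hp⟩)
  · rw [rw', wd_append, wd, dif_pos hp, wd_reverse, mul_assoc]

theorem isRoot {p : List ℕ × ℕ} (hp : p.2 < l) : IsRoot cs h (toV l (rootOf AL l p)) := by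
  refine ⟨wd cs p.1, ⟨p.2, hp⟩, ?_⟩
  rw [rootOf, ← rep_wd cs h hA (ei_length l p.2)]
  exact congrArg _ (toV_ei ⟨p.2, hp⟩)

omit hA in
theorem wd_fw : ∀ g : List (List ℕ × ℕ), wd cs (fw g) = (g.map fun p => wd cs (rw' p)).prod
  | [] => rfl
  | p :: g => by
    rw [fw, List.flatMap_cons, wd_append, List.map_cons, List.prod_cons, ← wd_fw g]; rfl

/-! ### permutations of a spanning list of vectors -/

/-- `w` permutes the vectors in `T` according to `σ`. -/
structure Rel (cs : CoxeterSystem M W) (h : IsCartan M C) (T : List (List ℤ)) (w : W) (σ : List ℕ) : Prop where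
  len : σ.length = T.length
  lt : ∀ a ∈ σ, a < T.length
  eq : ∀ a < T.length, rep cs h w (toV l (T.getD a [])) = toV l (T.getD (σ.getD a 0) [])

omit hA in
theorem comp_getD {σ τ : List ℕ} {a : ℕ} (ha : a < τ.length) : (comp σ τ).getD a 0 = σ.getD (τ.getD a 0) 0 := by
  rw [comp, List.getD_eq_getElem _ _ (by rwa [List.length_map]), List.getElem_map, List.getD_eq_getElem τ _ ha]

variable {cs h}
variable {T : List (List ℤ)}

omit hA in
theorem Rel.getD_lt {w : W} {σ : List ℕ} (H : Rel cs h T w σ) {a : ℕ} (ha : a < T.length) :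
    σ.getD a 0 < T.length := by
  rw [List.getD_eq_getElem _ _ (by rwa [H.len])]
  exact H.lt _ (List.getElem_mem _)

omit hA in
theorem Rel.one : Rel cs h T 1 (List.range T.length) where
  len := List.length_range
  lt a ha := List.mem_range.1 ha
  eq a ha := by
    rw [map_one, Module.End.one_apply, List.getD_eq_getElem (List.range T.length) _ (by simpa using ha)]
    simp

omit hA in
theorem Rel.mul {w w' : W} {σ τ : List ℕ} (H : Rel cs h T w σ) (H' : Rel cs h T w' τ) :
    Rel cs h T (w * w') (comp σ τ) where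
  len := by rw [comp, List.length_map, H'.len]
  lt a ha := by
    rw [comp, List.mem_map] at ha
    obtain ⟨b, hb, rfl⟩ := ha
    exact H.getD_lt (H'.lt b hb)
  eq a ha := by
    rw [rep_mul_apply, H'.eq a ha, H.eq _ (H'.getD_lt ha), comp_getD (by rwa [H'.len])]

/-- The vectors span the lattice over `ℚ`. -/
def Spans (l : ℕ) (T : List (List ℤ)) (n : ℤ) (Cf : List (List ℤ)) : Prop :=
  n ≠ 0 ∧ ∀ i < l, (Cf.getD i []).length = T.length ∧
    ∀ j < l, dot (Cf.getD i []) (T.map fun x => x.getD j 0) = if j = i then n else 0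

omit hA in
theorem eq_one_of_spans {n : ℤ} {Cf : List (List ℤ)} (hs : Spans l T n Cf) {w : W}
    (hw : ∀ a < T.length, rep cs h w (toV l (T.getD a [])) = toV l (T.getD a [])) : w = 1 := by
  refine eq_one_of_fix cs h w fun i => ?_
  obtain ⟨hn, hs⟩ := hs
  obtain ⟨hl, hs⟩ := hs i i.2
  have h1 : n • (Pi.single i 1 : Fin l → ℤ) =
      ∑ a : Fin T.length, (Cf.getD i []).getD a 0 • toV l (T.getD a []) := by
    funext j
    have h2 := hs j j.2
    rw [dot_eq hl (List.length_map ..)] at h2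
    rw [Finset.sum_apply, Pi.smul_apply, smul_eq_mul, Pi.single_apply]
    have h3 : ∀ a : Fin T.length, (T.map fun x => x.getD j 0).getD a 0 = (T.getD a []).getD j 0 := by
      intro a
      rw [List.getD_eq_getElem _ _ (by rw [List.length_map]; exact a.2), List.getElem_map,
        List.getD_eq_getElem T _ a.2]
    simp only [h3] at h2
    simp only [Pi.smul_apply, smul_eq_mul, toV_apply]
    rw [h2]
    by_cases hj : j = i
    · subst hj; simp
    · rw [if_neg hj, if_neg fun h => hj (Fin.ext h), mul_zero]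
  have h2 : n • rep cs h w (Pi.single i 1) = n • (Pi.single i 1 : Fin l → ℤ) := by
    rw [← map_smul, h1, map_sum]
    refine Finset.sum_congr rfl fun a _ => ?_
    rw [map_smul, hw a a.2]
  funext j
  have h3 := congrFun h2 j
  simp only [Pi.smul_apply, smul_eq_mul] at h3
  exact mul_left_cancel₀ hn h3

omit hA in
theorem Rel.unique {n : ℤ} {Cf : List (List ℤ)} (hs : Spans l T n Cf) {w w' : W} {σ : List ℕ}
    (H : Rel cs h T w σ) (H' : Rel cs h T w' σ) : w = w' := by
  have h1 : w⁻¹ * w' = 1 := by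
    refine eq_one_of_spans (cs := cs) (h := h) hs fun a ha => ?_
    rw [rep_mul_apply, H'.eq a ha, ← H.eq a ha, ← rep_mul_apply, inv_mul_cancel, map_one, Module.End.one_apply]
  exact (inv_mul_eq_one.1 h1)

omit hA in
theorem getD_inj {T : List (List ℤ)} (hT : T.Nodup) {a b : ℕ} (ha : a < T.length) (hb : b < T.length)
    (e : T.getD a [] = T.getD b []) : a = b := by
  rw [List.getD_eq_getElem _ _ ha, List.getD_eq_getElem _ _ hb] at e
  exact (hT.getElem_inj_iff).1 e

omit hA in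
theorem Rel.perm_unique (hT : T.Nodup) (hTl : ∀ x ∈ T, x.length = l) {w : W} {σ τ : List ℕ}
    (H : Rel cs h T w σ) (H' : Rel cs h T w τ) : σ = τ := by
  refine List.ext_getElem (H.len.trans H'.len.symm) fun a h1 h2 => ?_
  have ha : a < T.length := by rwa [← H.len]
  have h3 := (H.eq a ha).symm.trans (H'.eq a ha)
  have h4 := H.getD_lt ha
  have h5 := H'.getD_lt ha
  have h6 := toV_inj (hTl _ (by rw [List.getD_eq_getElem _ _ h4]; exact List.getElem_mem _))
    (hTl _ (by rw [List.getD_eq_getElem _ _ h5]; exact List.getElem_mem _)) h3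
  have h7 := getD_inj hT h4 h5 h6
  rwa [List.getD_eq_getElem _ _ h1, List.getD_eq_getElem _ _ h2] at h7

end W

/-! ### the certificate -/

/-- The data of a frame. -/
structure Cert where
  /-- the Cartan matrix -/
  AL : List (List ℤ)
  /-- the vectors; the first ones are the frame -/
  T : List (List ℤ)
  /-- the generators: products of reflections, with their permutations -/
  G : List (List (List ℕ × ℕ) × List ℕ)
  /-- a polycyclic sequence of words in the generators -/
  H : List (List ℕ)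
  /-- the roots of the frame -/
  FR : List (List ℕ × ℕ)
  /-- multiplier -/
  n : ℤ
  /-- coefficients -/
  Cf : List (List ℤ)

/-- The permutations of the group. -/
def Cert.L (c : Cert) : List (List ℕ) := allProds c.T.length (c.H.map (hperm c.T.length (c.G.map Prod.snd)))

/-- The checks. -/
structure Ok (l k N : ℕ) (c : Cert) : Prop where
  Tl : ∀ x ∈ c.T, x.length = l
  Tn : c.T.Nodup
  kle : k ≤ c.T.length
  gl : ∀ g ∈ c.G, ∀ p ∈ g.1, p.2 < l
  gp : ∀ g ∈ c.G, g.2.length = c.T.length ∧ ∀ a ∈ g.2, a < c.T.length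
  ga : ∀ g ∈ c.G, ∀ a < c.T.length, act c.AL (fw g.1) (c.T.getD a []) = c.T.getD (g.2.getD a 0) []
  gi : ∀ g ∈ c.G, comp g.2 g.2 = List.range c.T.length
  span : Spans l c.T c.n c.Cf
  Hlt : ∀ w ∈ c.H, ∀ g ∈ w, g < c.G.length
  Ln : c.L.Nodup
  Lc : c.L.length = N
  Lg : ∀ g ∈ c.G, ∀ σ ∈ c.L, comp g.2 σ ∈ c.L
  Lk : ∀ σ ∈ c.L, ∀ a < k, σ.getD a 0 < k
  Lf : ∀ σ ∈ c.L, (∀ a < k, σ.getD a 0 = a) → σ = List.range c.T.length
  neg : ∀ a < k, ∀ b < k, c.T.getD a [] ≠ (c.T.getD b []).map fun x => -x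
  fr : ∀ a < k, (c.FR.getD a ([], 0)).2 < l ∧ rootOf c.AL l (c.FR.getD a ([], 0)) = c.T.getD a []

theorem range_mem_allProds (m : ℕ) : ∀ H : List (List ℕ), List.range m ∈ allProds m H
  | [] => List.mem_singleton.2 rfl
  | _ :: t => List.mem_append_left _ (range_mem_allProds m t)

theorem toV_neg {l : ℕ} (x : List ℤ) : toV l (x.map fun x => -x) = -toV l x := by
  funext i
  rw [Pi.neg_apply, toV_apply, toV_apply]
  simp only [List.getD_eq_getElem?_getD, List.getElem?_map]
  cases x[(i : ℕ)]? <;> simp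

section main

variable {l : ℕ} {W : Type*} [Group W] {M : CoxeterMatrix (Fin l)} (cs : CoxeterSystem M W)
  {C : Fin l → Fin l → ℤ} (h : IsCartan M C) {k N : ℕ} {c : Cert}

theorem wframe (hA : IsTab C c.AL) (hc : Ok l k N c) {O : (Fin l → ℤ) → (Fin l → ℤ) → Prop}
    (hO1 : ∀ a < k, ∀ b < k, a ≠ b → O (toV l (c.T.getD a [])) (toV l (c.T.getD b [])))
    (hO2 : ∀ g ∈ c.G, g.1.Pairwise fun p q => O (toV l (rootOf c.AL l p)) (toV l (rootOf c.AL l q))) :
    WFrame cs h O k N := by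
  classical
  have hRel : ∀ g ∈ c.G, Rel cs h c.T (wd cs (fw g.1)) g.2 := by
    intro g hg
    refine ⟨(hc.gp g hg).1, (hc.gp g hg).2, fun a ha => ?_⟩
    rw [rep_wd cs h hA (hc.Tl _ (by rw [List.getD_eq_getElem _ _ ha]; exact List.getElem_mem _)), hc.ga g hg a ha]
  have hinv : ∀ g ∈ c.G, (wd cs (fw g.1))⁻¹ = wd cs (fw g.1) := by
    intro g hg
    have h1 := (hRel g hg).mul (hRel g hg)
    rw [hc.gi g hg] at h1
    exact inv_eq_of_mul_eq_one_right (h1.unique hc.span Rel.one)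
  set Γ : Set W := {w | ∃ g ∈ c.G, w = wd cs (fw g.1)} with hΓ
  set P : Subgroup W := Subgroup.closure Γ with hP
  -- the elements of `P`
  have hP1 : ∀ w ∈ P, ∃ σ ∈ c.L, Rel cs h c.T w σ := by
    intro w hw
    induction hw using Subgroup.closure_induction_left with
    | one => exact ⟨_, range_mem_allProds _ _, Rel.one⟩
    | mul_left x hx y hy ih =>
      obtain ⟨g, hg, rfl⟩ := hx
      obtain ⟨σ, hσ, hr⟩ := ih
      exact ⟨_, hc.Lg g hg σ hσ, (hRel g hg).mul hr⟩
    | inv_mul_cancel x hx y hy ih =>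
      obtain ⟨g, hg, rfl⟩ := hx
      obtain ⟨σ, hσ, hr⟩ := ih
      rw [hinv g hg]
      exact ⟨_, hc.Lg g hg σ hσ, (hRel g hg).mul hr⟩
  -- all permutations occur
  have hH : ∀ w : List ℕ, (∀ g ∈ w, g < c.G.length) →
      ∃ v ∈ P, Rel cs h c.T v (hperm c.T.length (c.G.map Prod.snd) w) := by
    intro w
    induction w with
    | nil => exact fun _ => ⟨1, one_mem _, Rel.one⟩
    | cons g w ih =>
      intro hw
      obtain ⟨v, hv, hr⟩ := ih fun a ha => hw a (List.mem_cons_of_mem _ ha)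
      have hg := hw g List.mem_cons_self
      have hm := List.getElem_mem hg
      refine ⟨wd cs (fw (c.G[g]).1) * v, mul_mem (Subgroup.subset_closure ⟨_, hm, rfl⟩) hv, ?_⟩
      have h1 : (c.G.map Prod.snd).getD g [] = (c.G[g]).2 := by
        rw [List.getD_eq_getElem _ _ (by rwa [List.length_map]), List.getElem_map]
      rw [hperm, h1]
      exact (hRel _ hm).mul hr
  have hP2 : ∀ σ ∈ c.L, ∃ w ∈ P, Rel cs h c.T w σ := by
    have key : ∀ Hs : List (List ℕ), (∀ π ∈ Hs, ∃ v ∈ P, Rel cs h c.T v π) →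
        ∀ σ ∈ allProds c.T.length Hs, ∃ w ∈ P, Rel cs h c.T w σ := by
      intro Hs
      induction Hs with
      | nil =>
        intro _ σ hσ
        rw [allProds, List.mem_singleton] at hσ
        subst hσ
        exact ⟨1, one_mem _, Rel.one⟩
      | cons π t ih =>
        intro hπ σ hσ
        rw [allProds, List.mem_append] at hσ
        have ih' := ih fun π' h' => hπ π' (List.mem_cons_of_mem _ h')
        rcases hσ with hσ | hσ
        · exact ih' σ hσ
        · obtain ⟨τ, hτ, rfl⟩ := List.mem_map.1 hσ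
          obtain ⟨w, hw, hr⟩ := ih' τ hτ
          obtain ⟨v, hv, hr'⟩ := hπ π List.mem_cons_self
          exact ⟨v * w, mul_mem hv hw, hr'.mul hr⟩
    refine key _ fun π hπ => ?_
    obtain ⟨w, hw, rfl⟩ := List.mem_map.1 hπ
    exact hH w (hc.Hlt w hw)
  have hget : ∀ a < k, a < c.T.length := fun a ha => lt_of_lt_of_le ha hc.kle
  have hgl : ∀ a < c.T.length, (c.T.getD a []).length = l := fun a ha =>
    hc.Tl _ (by rw [List.getD_eq_getElem _ _ ha]; exact List.getElem_mem _)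
  refine ⟨fun a => toV l (c.T.getD a []), P, Γ, ?_, ?_, ?_, ?_, ?_, rfl, ?_⟩
  · intro a
    obtain ⟨h1, h2⟩ := hc.fr a a.2
    show IsRoot cs h (toV l (c.T.getD a []))
    rw [← h2]
    exact isRoot cs h hA h1
  · exact fun a b hab => hO1 a a.2 b b.2 fun e => hab (Fin.ext e)
  · intro w hw a
    obtain ⟨σ, hσ, hr⟩ := hP1 w hw
    exact ⟨⟨σ.getD a 0, hc.Lk σ hσ a a.2⟩, Or.inl (hr.eq a (hget a a.2))⟩
  · intro w hw hfix
    obtain ⟨σ, hσ, hr⟩ := hP1 w hw
    have h1 : ∀ a < k, σ.getD a 0 = a := by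
      intro a ha
      have h2 := hr.eq a (hget a ha)
      have h3 := hc.Lk σ hσ a ha
      rcases hfix ⟨a, ha⟩ with h4 | h4
      · have h5 := toV_inj (hgl _ (hget _ h3)) (hgl _ (hget a ha)) (h2.symm.trans h4)
        exact getD_inj hc.Tn (hget _ h3) (hget a ha) h5
      · exfalso
        have h5 : toV l (c.T.getD (σ.getD a 0) []) = toV l ((c.T.getD a []).map fun x => -x) := by
          rw [toV_neg]; exact h2.symm.trans h4
        exact hc.neg _ h3 a ha (toV_inj (hgl _ (hget _ h3)) (by rw [List.length_map]; exact hgl _ (hget a ha)) h5)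
    have h2 := hc.Lf σ hσ h1
    subst h2
    exact hr.unique hc.span Rel.one
  · -- the order
    let f : P → {σ // σ ∈ c.L} := fun w =>
      ⟨Classical.choose (hP1 w w.2), (Classical.choose_spec (hP1 w w.2)).1⟩
    have hf : ∀ w : P, Rel cs h c.T (w : W) (f w).1 := fun w => (Classical.choose_spec (hP1 w w.2)).2
    have hbij : Function.Bijective f := by
      constructor
      · intro v w e
        have h1 := hf v
        rw [e] at h1
        exact Subtype.ext (h1.unique hc.span (hf w))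
      · rintro ⟨σ, hσ⟩
        obtain ⟨w, hw, hr⟩ := hP2 σ hσ
        exact ⟨⟨w, hw⟩, Subtype.ext ((hf ⟨w, hw⟩).perm_unique hc.Tn hc.Tl hr)⟩
    rw [Nat.card_congr (Equiv.ofBijective f hbij)]
    have h1 : Nat.card {σ // σ ∈ c.L} = c.L.toFinset.card := by
      have e : {σ // σ ∈ c.L} ≃ {σ // σ ∈ c.L.toFinset} := Equiv.subtypeEquivRight fun σ => List.mem_toFinset.symm
      rw [Nat.card_congr e, Nat.card_eq_fintype_card, Fintype.card_coe]
    rw [h1, List.toFinset_card_of_nodup hc.Ln, hc.Lc]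
  · rintro w ⟨g, hg, rfl⟩
    refine ⟨g.1.map fun p => (toV l (rootOf c.AL l p), wd cs (rw' p)), ?_, ?_, ?_⟩
    · intro p hp
      obtain ⟨q, hq, rfl⟩ := List.mem_map.1 hp
      exact isRefl cs h hA (hc.gl g hg q hq)
    · exact List.pairwise_map.2 (hO2 g hg)
    · rw [wd_fw, List.map_map]; rfl

end main

end Cfsg.Agent.ClosedExc.WFr

end

-- merged: Cfsg.Agent.ClosedExc.WOrth
section

/-!
# Frames in Weyl groups: orthogonality in the tables (helper52, S1252)
-/

set_option autoImplicit false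

namespace Cfsg.Agent.ClosedExc.WFr

open CoxeterSystem Cfsg.Agent.ChevalleyStructure.CoxeterGeom Cfsg.Agent.Tits.Roots Cfsg.Agent.ClosedExc.Frame
  Cfsg.Agent.Nodes.RGDChev Cfsg.Lie Cfsg.Agent.ChevalleyStructure.RootVec
  Cfsg.Agent.ChevalleyStructure.CoxeterGeomTypes

/-- The index of a vector in a table. -/
def ix (R : List (List ℤ × ℕ)) (x : List ℤ) : ℕ := ((R.find? fun p => decide (p.1 = x)).map Prod.snd).getD 0

/-- `x` is the root with index `r`. -/
def isIx (D : ChevalleyDatum) (l : ℕ) (x : List ℤ) (r : ℕ) : Bool :=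
  (List.range l).all fun i => decide (rt D r i = x.getD i 0)

/-- `x`, `y` are orthogonal, with commuting root groups. -/
def orthL (D : ChevalleyDatum) (l : ℕ) (R : List (List ℤ × ℕ)) (x y : List ℤ) : Bool :=
  isIx D l x (ix R x) && isIx D l y (ix R y) && orthB D (ix R x) (ix R y)

theorem toV_of_isIx {D : ChevalleyDatum} {l : ℕ} {x : List ℤ} {r : ℕ} (h : isIx D l x r = true) :
    toV l x = vec D l r := by
  funext i
  rw [isIx, List.all_eq_true] at h
  have := of_decide_eq_true (h i (List.mem_range.2 i.2))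
  rw [toV_apply, vec_apply, this]

theorem orth_of {D : ChevalleyDatum} {l : ℕ} {R : List (List ℤ × ℕ)} {x y : List ℤ}
    (h : orthL D l R x y = true) : Orth D l (toV l x) (toV l y) := by
  rw [orthL, Bool.and_eq_true, Bool.and_eq_true] at h
  exact ⟨_, _, h.2, toV_of_isIx h.1.1, toV_of_isIx h.1.2⟩

end Cfsg.Agent.ClosedExc.WFr

end

-- merged: Cfsg.Agent.ClosedExc.WE6
section

/-!
# The frame of type E6 (helper52, S1252)
-/

set_option autoImplicit false
set_option maxRecDepth 100000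

namespace Cfsg.Agent.ClosedExc.WFr

open CoxeterSystem Cfsg.Agent.ChevalleyStructure.CoxeterGeom Cfsg.Agent.Tits.Roots Cfsg.Agent.ClosedExc.Frame
  Cfsg.Agent.Nodes.RGDChev Cfsg.Lie Cfsg.Agent.ChevalleyStructure.CoxeterGeomTypes

/-- E6: the certificate. -/
def cE6 : Cert where
  AL := [[2, 0, -1, 0, 0, 0], [0, 2, 0, -1, 0, 0], [-1, 0, 2, -1, 0, 0], [0, -1, -1, 2, -1, 0], [0, 0, 0, -1, 2, -1], [0, 0, 0, 0, -1, 2]]
  T := [[0, 0, 0, 0, 0, 1], [0, 0, 0, 1, 0, 0], [1, 0, 0, 0, 0, 0], [1, 2, 2, 3, 2, 1], [-1, -1, -1, -1, 0, 0], [0, -1, 0, -1, 0, 0], [0, 0, 0, 0, 1, 0], [0, 0, 1, 1, 1, 0]]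
  G := [([([3], 2), ([2], 0)], [0, 2, 1, 3, 5, 4, 7, 6]),
    ([([3, 4, 2, 3], 1), ([4, 1, 3, 2], 0)], [3, 2, 1, 0, 6, 7, 4, 5]),
    ([([5, 4, 2, 3], 1), ([3, 4, 2, 3], 1)], [1, 0, 3, 2, 4, 7, 6, 5])]
  H := [[2], [1], [0]]
  FR := [([], 5), ([], 3), ([], 0), ([1, 3, 4, 5, 2, 3, 4, 1, 3, 2], 0)]
  n := 2
  Cf := [[0, 0, 2, 0, 0, 0, 0, 0], [0, -2, 0, 0, 0, -2, 0, 0], [0, 0, -2, 0, -2, 2, 0, 0], [0, 2, 0, 0, 0, 0, 0, 0], [-1, -1, 1, 1, 2, 0, 0, 0], [2, 0, 0, 0, 0, 0, 0, 0]]

/-- The indices of the roots. -/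
def rE6 : List (List ℤ × ℕ) := [([0, 0, 0, 0, 0, 1], 36), ([0, 0, 0, 1, 0, 0], 39), ([0, 0, 1, 1, 0, 0], 43), ([0, 1, 1, 1, 1, 1], 52), ([0, 1, 1, 2, 1, 0], 53), ([1, 0, 0, 0, 0, 0], 56), ([1, 0, 1, 0, 0, 0], 57), ([1, 1, 1, 1, 1, 0], 62), ([1, 2, 2, 3, 2, 1], 71)]

theorem tabE6 : IsTab (cartanOf chevE6 6) cE6.AL where
  len := by decide +kernel
  len' := by decide +kernel
  eq := by (delta Cfsg.Agent.ChevalleyStructure.CoxeterGeomTypes.cartanOf; rewrite [Cfsg.Agent.ChevFast.E6.cartan]; decide +kernel)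

theorem okE6 : Ok 6 4 8 cE6 where
  Tl := by decide +kernel
  Tn := by decide +kernel
  kle := by decide +kernel
  gl := by decide +kernel
  gp := by decide +kernel
  ga := by decide +kernel
  gi := by decide +kernel
  span := by unfold Spans; decide +kernel
  Hlt := by decide +kernel
  Ln := by decide +kernel
  Lc := by decide +kernel
  Lg := by decide +kernel
  Lk := by decide +kernel
  Lf := by decide +kernel
  neg := by decide +kernel
  fr := by decide +kernel

theorem orth1E6 : ∀ a < 4, ∀ b < 4, a ≠ b → orthL chevE6 6 rE6 (cE6.T.getD a []) (cE6.T.getD b []) = true := by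
  (delta Cfsg.Agent.ClosedExc.Frame.orthB Cfsg.Agent.ClosedExc.WFr.orthL; rewrite [Cfsg.Agent.ChevFast.E6.commTerms, Cfsg.Agent.ChevFast.E6.neg]; decide +kernel)

theorem orth2E6 : ∀ g ∈ cE6.G, g.1.Pairwise fun p q =>
    orthL chevE6 6 rE6 (rootOf cE6.AL 6 p) (rootOf cE6.AL 6 q) = true := by
  decide +kernel

/-- **The frame of type E6.** -/
theorem wE6 {M : CoxeterMatrix (Fin 6)} (hp : IsType chevE6 6 M) {W : Type*} [Group W]
    (cs : CoxeterSystem M W) : WFrame cs hp.isCartan (Orth chevE6 6) 4 8 :=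
  wframe cs hp.isCartan tabE6 okE6 (fun a ha b hb hab => orth_of (orth1E6 a ha b hb hab))
    fun g hg => (orth2E6 g hg).imp fun h => orth_of h

end Cfsg.Agent.ClosedExc.WFr

end

-- merged: Cfsg.Agent.ClosedExc.WE7
section

/-!
# The frame of type E7 (helper52, S1252)
-/

set_option autoImplicit false
set_option maxRecDepth 100000

namespace Cfsg.Agent.ClosedExc.WFr

open CoxeterSystem Cfsg.Agent.ChevalleyStructure.CoxeterGeom Cfsg.Agent.Tits.Roots Cfsg.Agent.ClosedExc.Frame
  Cfsg.Agent.Nodes.RGDChev Cfsg.Lie Cfsg.Agent.ChevalleyStructure.CoxeterGeomTypes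

/-- E7: the certificate. -/
def cE7 : Cert where
  AL := [[2, 0, -1, 0, 0, 0, 0], [0, 2, 0, -1, 0, 0, 0], [-1, 0, 2, -1, 0, 0, 0], [0, -1, -1, 2, -1, 0, 0], [0, 0, 0, -1, 2, -1, 0], [0, 0, 0, 0, -1, 2, -1], [0, 0, 0, 0, 0, -1, 2]]
  T := [[0, 0, 0, 0, 0, 0, 1], [0, 0, 0, 0, 1, 0, 0], [0, 0, 1, 0, 0, 0, 0], [0, 1, 0, 0, 0, 0, 0], [0, 1, 1, 2, 1, 0, 0], [0, 1, 1, 2, 2, 2, 1], [2, 2, 3, 4, 3, 2, 1]]
  G := [([([6], 5), ([5], 4)], [1, 0, 2, 3, 5, 4, 6]),
    ([([5], 4), ([5, 3, 4, 2, 3], 1)], [5, 4, 2, 3, 1, 0, 6]),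
    ([([3], 2), ([3], 1)], [0, 4, 3, 2, 1, 5, 6])]
  H := [[2], [1], [0]]
  FR := [([], 6), ([], 4), ([], 2), ([], 1), ([3, 4, 2, 3], 1), ([5, 6, 4, 5, 3, 4, 2, 3], 1), ([0, 2, 3, 4, 5, 6, 1, 3, 4, 5, 2, 3, 4, 1, 3, 2], 0)]
  n := 2
  Cf := [[0, 0, -1, 0, -1, -1, 1], [0, 0, 0, 2, 0, 0, 0], [0, 0, 2, 0, 0, 0, 0], [0, -1, -1, -1, 1, 0, 0], [0, 2, 0, 0, 0, 0, 0], [-1, -1, 0, 0, -1, 1, 0], [2, 0, 0, 0, 0, 0, 0]]

/-- The indices of the roots. -/
def rE7 : List (List ℤ × ℕ) := [([0, 0, 0, 0, 0, 0, 1], 63), ([0, 0, 0, 0, 0, 1, 1], 65), ([0, 0, 0, 0, 1, 0, 0], 66), ([0, 0, 0, 0, 1, 1, 0], 67), ([0, 0, 1, 0, 0, 0, 0], 73), ([0, 0, 1, 1, 0, 0, 0], 74), ([0, 1, 0, 0, 0, 0, 0], 78), ([0, 1, 0, 1, 0, 0, 0], 79), ([0, 1, 1, 2, 1, 0, 0], 87), ([0, 1, 1, 2, 1, 1, 0], 88), ([0, 1, 1, 2, 2, 2, 1], 92), ([2, 2, 3, 4, 3, 2, 1], 125)]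

theorem tabE7 : IsTab (cartanOf chevE7 7) cE7.AL where
  len := by decide +kernel
  len' := by decide +kernel
  eq := by (delta Cfsg.Agent.ChevalleyStructure.CoxeterGeomTypes.cartanOf; rewrite [Cfsg.Agent.ChevFast.E7.cartan]; decide +kernel)

theorem okE7 : Ok 7 7 8 cE7 where
  Tl := by decide +kernel
  Tn := by decide +kernel
  kle := by decide +kernel
  gl := by decide +kernel
  gp := by decide +kernel
  ga := by decide +kernel
  gi := by decide +kernel
  span := by unfold Spans; decide +kernel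
  Hlt := by decide +kernel
  Ln := by decide +kernel
  Lc := by decide +kernel
  Lg := by decide +kernel
  Lk := by decide +kernel
  Lf := by decide +kernel
  neg := by decide +kernel
  fr := by decide +kernel

theorem orth1E7 : ∀ a < 7, ∀ b < 7, a ≠ b → orthL chevE7 7 rE7 (cE7.T.getD a []) (cE7.T.getD b []) = true := by
  (delta Cfsg.Agent.ClosedExc.Frame.orthB Cfsg.Agent.ClosedExc.WFr.orthL; rewrite [Cfsg.Agent.ChevFast.E7.commTerms, Cfsg.Agent.ChevFast.E7.neg]; decide +kernel)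

theorem orth2E7 : ∀ g ∈ cE7.G, g.1.Pairwise fun p q =>
    orthL chevE7 7 rE7 (rootOf cE7.AL 7 p) (rootOf cE7.AL 7 q) = true := by
  (delta Cfsg.Agent.ClosedExc.Frame.orthB Cfsg.Agent.ClosedExc.WFr.orthL; rewrite [Cfsg.Agent.ChevFast.E7.commTerms, Cfsg.Agent.ChevFast.E7.neg]; decide +kernel)

/-- **The frame of type E7.** -/
theorem wE7 {M : CoxeterMatrix (Fin 7)} (hp : IsType chevE7 7 M) {W : Type*} [Group W]
    (cs : CoxeterSystem M W) : WFrame cs hp.isCartan (Orth chevE7 7) 7 8 :=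
  wframe cs hp.isCartan tabE7 okE7 (fun a ha b hb hab => orth_of (orth1E7 a ha b hb hab))
    fun g hg => (orth2E7 g hg).imp fun h => orth_of h

end Cfsg.Agent.ClosedExc.WFr

end

-- merged: Cfsg.Agent.ClosedExc.WE8
section

/-!
# The frame of type E8 (helper52, S1252)
-/

set_option autoImplicit false
set_option maxRecDepth 100000

namespace Cfsg.Agent.ClosedExc.WFr

open CoxeterSystem Cfsg.Agent.ChevalleyStructure.CoxeterGeom Cfsg.Agent.Tits.Roots Cfsg.Agent.ClosedExc.Frame
  Cfsg.Agent.Nodes.RGDChev Cfsg.Lie Cfsg.Agent.ChevalleyStructure.CoxeterGeomTypes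

/-- E8: the certificate. -/
def cE8 : Cert where
  AL := [[2, 0, -1, 0, 0, 0, 0, 0], [0, 2, 0, -1, 0, 0, 0, 0], [-1, 0, 2, -1, 0, 0, 0, 0], [0, -1, -1, 2, -1, 0, 0, 0], [0, 0, 0, -1, 2, -1, 0, 0], [0, 0, 0, 0, -1, 2, -1, 0], [0, 0, 0, 0, 0, -1, 2, -1], [0, 0, 0, 0, 0, 0, -1, 2]]
  T := [[0, 0, 0, 0, 0, 0, 0, 1], [0, 0, 0, 0, 0, 1, 0, 0], [0, 0, 0, 1, 0, 0, 0, 0], [1, 0, 0, 0, 0, 0, 0, 0], [1, 2, 2, 3, 2, 1, 0, 0], [1, 2, 2, 3, 2, 2, 2, 1], [1, 2, 2, 4, 4, 3, 2, 1], [2, 2, 4, 5, 4, 3, 2, 1]]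
  G := [([([5], 4), ([4], 3)], [0, 2, 1, 3, 4, 6, 5, 7]),
    ([([7], 6), ([6], 5), ([3], 2), ([2], 0)], [1, 0, 3, 2, 5, 4, 7, 6]),
    ([([7], 6), ([6, 1, 3, 4, 5, 2, 3, 4, 1, 3, 2], 0)], [4, 5, 2, 3, 0, 1, 6, 7])]
  H := [[1], [1, 0, 1], [1, 0, 2, 0, 1], [2], [2, 0, 2], [0]]
  FR := [([], 7), ([], 5), ([], 3), ([], 0), ([1, 3, 4, 5, 2, 3, 4, 1, 3, 2], 0), ([6, 7, 5, 6, 1, 3, 4, 5, 2, 3, 4, 1, 3, 2], 0), ([4, 5, 6, 7, 3, 4, 5, 6, 1, 3, 4, 5, 2, 3, 4, 1, 3, 2], 0), ([2, 3, 4, 5, 6, 7, 0, 2, 3, 4, 5, 6, 1, 3, 4, 5, 2, 3, 4, 1, 3, 2], 0)]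
  n := 2
  Cf := [[0, 0, 0, 2, 0, 0, 0, 0], [0, 0, -1, 0, 1, 1, 0, -1], [0, 0, -1, -1, 0, 0, -1, 1], [0, 0, 2, 0, 0, 0, 0, 0], [0, -1, -1, 0, 0, -1, 1, 0], [0, 2, 0, 0, 0, 0, 0, 0], [-1, -1, 0, 0, -1, 1, 0, 0], [2, 0, 0, 0, 0, 0, 0, 0]]

/-- The indices of the roots. -/
def rE8 : List (List ℤ × ℕ) := [([0, 0, 0, 0, 0, 0, 0, 1], 120), ([0, 0, 0, 0, 0, 0, 1, 1], 122), ([0, 0, 0, 0, 0, 1, 0, 0], 123), ([0, 0, 0, 0, 0, 1, 1, 0], 124), ([0, 0, 0, 0, 1, 1, 0, 0], 127), ([0, 0, 0, 1, 0, 0, 0, 0], 130), ([0, 0, 0, 1, 1, 0, 0, 0], 131), ([0, 0, 1, 1, 0, 0, 0, 0], 136), ([1, 0, 0, 0, 0, 0, 0, 0], 162), ([1, 0, 1, 0, 0, 0, 0, 0], 163), ([1, 2, 2, 3, 2, 1, 0, 0], 204), ([1, 2, 2, 3, 2, 1, 1, 0], 205), ([1, 2, 2, 3, 2, 2, 2, 1], 209), ([1, 2, 2, 4, 4, 3, 2, 1], 218), ([2, 2, 4, 5, 4, 3, 2, 1], 232)]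

theorem tabE8 : IsTab (cartanOf chevE8 8) cE8.AL where
  len := by decide +kernel
  len' := by decide +kernel
  eq := by (delta Cfsg.Agent.ChevalleyStructure.CoxeterGeomTypes.cartanOf; rewrite [Cfsg.Agent.ChevFast.E8.cartan]; decide +kernel)

theorem okE8 : Ok 8 8 64 cE8 where
  Tl := by decide +kernel
  Tn := by decide +kernel
  kle := by decide +kernel
  gl := by decide +kernel
  gp := by decide +kernel
  ga := by decide +kernel
  gi := by decide +kernel
  span := by unfold Spans; decide +kernel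
  Hlt := by decide +kernel
  Ln := by decide +kernel
  Lc := by decide +kernel
  Lg := by decide +kernel
  Lk := by decide +kernel
  Lf := by decide +kernel
  neg := by decide +kernel
  fr := by decide +kernel

theorem orth1E8 : ∀ a < 8, ∀ b < 8, a ≠ b → orthL chevE8 8 rE8 (cE8.T.getD a []) (cE8.T.getD b []) = true := by
  (delta Cfsg.Agent.ClosedExc.Frame.orthB Cfsg.Agent.ClosedExc.WFr.orthL; rewrite [Cfsg.Agent.ChevFast.E8.commTerms, Cfsg.Agent.ChevFast.E8.neg]; decide +kernel)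

theorem orth2E8 : ∀ g ∈ cE8.G, g.1.Pairwise fun p q =>
    orthL chevE8 8 rE8 (rootOf cE8.AL 8 p) (rootOf cE8.AL 8 q) = true := by
  (delta Cfsg.Agent.ClosedExc.Frame.orthB Cfsg.Agent.ClosedExc.WFr.orthL; rewrite [Cfsg.Agent.ChevFast.E8.commTerms, Cfsg.Agent.ChevFast.E8.neg]; decide +kernel)

/-- **The frame of type E8.** -/
theorem wE8 {M : CoxeterMatrix (Fin 8)} (hp : IsType chevE8 8 M) {W : Type*} [Group W]
    (cs : CoxeterSystem M W) : WFrame cs hp.isCartan (Orth chevE8 8) 8 64 :=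
  wframe cs hp.isCartan tabE8 okE8 (fun a ha b hb hab => orth_of (orth1E8 a ha b hb hab))
    fun g hg => (orth2E8 g hg).imp fun h => orth_of h

end Cfsg.Agent.ClosedExc.WFr

end

-- merged: Cfsg.Agent.ClosedExc.WF4
section

/-!
# The frame of type F4 (helper52, S1252)
-/

set_option autoImplicit false
set_option maxRecDepth 100000

namespace Cfsg.Agent.ClosedExc.WFr

open CoxeterSystem Cfsg.Agent.ChevalleyStructure.CoxeterGeom Cfsg.Agent.Tits.Roots Cfsg.Agent.ClosedExc.Frame
  Cfsg.Agent.Nodes.RGDChev Cfsg.Lie Cfsg.Agent.ChevalleyStructure.CoxeterGeomTypes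

/-- F4: the certificate. -/
def cF4 : Cert where
  AL := [[2, -1, 0, 0], [-1, 2, -2, 0], [0, -1, 2, -1], [0, 0, -1, 2]]
  T := [[0, 0, 0, 1], [0, 2, 2, 1], [2, 2, 2, 1], [2, 4, 2, 1]]
  G := [([([], 1)], [0, 1, 3, 2]),
    ([([2], 1)], [1, 0, 2, 3]),
    ([([], 2), ([0, 1], 2)], [2, 3, 0, 1])]
  H := [[2], [1], [0]]
  FR := [([], 3), ([2, 3, 1], 2), ([2, 3, 0, 1], 2), ([1, 2, 3, 0, 1], 2)]
  n := 2
  Cf := [[0, -1, 1, 0], [0, 0, -1, 1], [-1, 1, 1, -1], [2, 0, 0, 0]]

/-- The indices of the roots. -/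
def rF4 : List (List ℤ × ℕ) := [([0, 0, 0, 1], 24), ([0, 0, 1, 0], 25), ([0, 1, 0, 0], 27), ([0, 1, 1, 0], 28), ([0, 2, 2, 1], 32), ([2, 2, 1, 0], 41), ([2, 2, 2, 1], 43), ([2, 4, 2, 1], 45)]

theorem tabF4 : IsTab (cartanOf chevF4 4) cF4.AL where
  len := by decide +kernel
  len' := by decide +kernel
  eq := by decide +kernel

theorem okF4 : Ok 4 4 8 cF4 where
  Tl := by decide +kernel
  Tn := by decide +kernel
  kle := by decide +kernel
  gl := by decide +kernel
  gp := by decide +kernel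
  ga := by decide +kernel
  gi := by decide +kernel
  span := by unfold Spans; decide +kernel
  Hlt := by decide +kernel
  Ln := by decide +kernel
  Lc := by decide +kernel
  Lg := by decide +kernel
  Lk := by decide +kernel
  Lf := by decide +kernel
  neg := by decide +kernel
  fr := by decide +kernel

theorem orth1F4 : ∀ a < 4, ∀ b < 4, a ≠ b → orthL chevF4 4 rF4 (cF4.T.getD a []) (cF4.T.getD b []) = true := by
  (delta Cfsg.Agent.ClosedExc.Frame.orthB Cfsg.Agent.ClosedExc.WFr.orthL; rewrite [Cfsg.Agent.ChevFast.F4.commTerms, Cfsg.Agent.ChevFast.F4.neg]; decide +kernel)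

theorem orth2F4 : ∀ g ∈ cF4.G, g.1.Pairwise fun p q =>
    orthL chevF4 4 rF4 (rootOf cF4.AL 4 p) (rootOf cF4.AL 4 q) = true := by
  decide +kernel

/-- **The frame of type F4.** -/
theorem wF4 {M : CoxeterMatrix (Fin 4)} (hp : IsType chevF4 4 M) {W : Type*} [Group W]
    (cs : CoxeterSystem M W) : WFrame cs hp.isCartan (Orth chevF4 4) 4 8 :=
  wframe cs hp.isCartan tabF4 okF4 (fun a ha b hb hab => orth_of (orth1F4 a ha b hb hab))
    fun g hg => (orth2F4 g hg).imp fun h => orth_of h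

end Cfsg.Agent.ClosedExc.WFr

end

-- merged: Cfsg.Agent.ClosedExc.Rows
section

/-!
# The rows of the exceptional groups of Lie type in odd characteristic, in the format of `ClosedRed.LieRows` (helper50)

`g2`, `f4`, `e6`, `e7`, `e8`, `twD4` (`²E₆(q)`: `ClosedTw/Row.lean`, helper75); frames in the Weyl groups: helper52.
-/

set_option autoImplicit false

namespace Cfsg.Agent.ClosedExc.Rows

open Cfsg Cfsg.Lie Cfsg.Agent.ClosedExc.Families Cfsg.Agent.ClosedExc.Frame
  Cfsg.Agent.ChevalleyStructure.CoxeterGeom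
open Cfsg.Agent.ClosedTwo (ClosedRow)

universe u

/-- simple groups: the centre may be assumed to be trivial -/
theorem closedRow_of_cen {G : Type u} [Group G] [Finite G] [IsSimpleGroup G]
    (h : (∀ z : G, (∀ y, z * y = y * z) → z = 1) → ClosedRow G) : ClosedRow G := by
  rcases (inferInstance : (Subgroup.center G).Normal).eq_bot_or_eq_top with h1 | h1
  · refine h fun z hz => ?_
    have h2 : z ∈ Subgroup.center G := Subgroup.mem_center_iff.2 fun y => (hz y).symm
    rw [h1, Subgroup.mem_bot] at h2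
    exact h2
  · intro S A hA
    have hn : A.Normal := by
      refine ⟨fun n hn g => ?_⟩
      have h2 : n ∈ Subgroup.center G := by rw [h1]; exact Subgroup.mem_top n
      rw [Subgroup.mem_center_iff.1 h2 g, mul_inv_cancel_right]
      exact hn
    rcases hn.eq_bot_or_eq_top with h2 | h2
    · exact Or.inl h2
    · right
      apply le_antisymm hA.1
      rw [h2]
      exact le_top

theorem odd_card {r : ℕ} (hr : r.Prime) (hr2 : r ≠ 2) (F : Type) [Field F] [Fintype F] [CharP F r] :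
    Odd (Fintype.card F) := by
  have : Fact r.Prime := ⟨hr⟩
  obtain ⟨n, -, hn⟩ := FiniteField.card F r
  rw [hn]
  exact (hr.odd_of_ne_two hr2).pow

/-- transport along an isomorphism -/
theorem transport {G : Type u} [Group G] [Finite G] [IsSimpleGroup G] {H : Type} [Group H]
    (e : Nonempty (G ≃* H)) (h : (∀ z : H, (∀ y, z * y = y * z) → z = 1) → ClosedRow H) : ClosedRow G := by
  obtain ⟨e⟩ := e
  have hfin : Finite H := Finite.of_equiv G e.toEquiv
  refine closedRow_of_cen fun hcen => Cfsg.Agent.ClosedTwo.ClosedRow.congr e.symm (h fun z hz => ?_)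
  have h1 := hcen (e.symm z) fun y => by
    apply e.injective
    rw [map_mul, map_mul, e.apply_symm_apply]
    exact hz (e y)
  rw [← e.apply_symm_apply z, h1, map_one]

variable {G : Type u} [Group G] [Finite G] [IsSimpleGroup G] {r : ℕ} (hr : r.Prime) (hr2 : r ≠ 2)

include hr hr2

theorem g2 (F : Type) [Field F] [Fintype F] [CharP F r] (e : Nonempty (G ≃* chevG2.group F)) : ClosedRow G :=
  transport e fun hcen => row_G2 F (odd_card hr hr2 F) hcen

theorem f4_of {O : (Fin 4 → ℤ) → (Fin 4 → ℤ) → Prop} (hO : ∀ x y, O x y → Orth chevF4 4 x y)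
    (hw : WFrame CoxeterMatrix.F₄.toCoxeterSystem isType_F4.isCartan O 4 8)
    (F : Type) [Field F] [Fintype F] [CharP F r] (e : Nonempty (G ≃* chevF4.group F)) : ClosedRow G :=
  transport e fun hcen => row_F4 F (odd_card hr hr2 F) hcen _ hO hw

theorem e6_of (hw : WFrame CoxeterMatrix.E₆.toCoxeterSystem isType_E6.isCartan (Orth chevE6 6) 4 8)
    (F : Type) [Field F] [Fintype F] [CharP F r] (e : Nonempty (G ≃* chevE6.group F)) : ClosedRow G :=
  transport e fun hcen => row_E6 F (odd_card hr hr2 F) hcen _ hw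

theorem e7_of (hw : WFrame CoxeterMatrix.E₇.toCoxeterSystem isType_E7.isCartan (Orth chevE7 7) 7 8)
    (F : Type) [Field F] [Fintype F] [CharP F r] (e : Nonempty (G ≃* chevE7.group F)) : ClosedRow G :=
  transport e fun hcen => row_E7 F (odd_card hr hr2 F) hcen _ hw

theorem e8_of (hw : WFrame CoxeterMatrix.E₈.toCoxeterSystem isType_E8.isCartan (Orth chevE8 8) 8 64)
    (F : Type) [Field F] [Fintype F] [CharP F r] (e : Nonempty (G ≃* chevE8.group F)) : ClosedRow G :=
  transport e fun hcen => row_E8 F (odd_card hr hr2 F) hcen _ hw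

theorem f4 (F : Type) [Field F] [Fintype F] [CharP F r] (e : Nonempty (G ≃* chevF4.group F)) : ClosedRow G :=
  f4_of hr hr2 (fun _ _ h => h) (WFr.wF4 isType_F4 _) F e

theorem e6 (F : Type) [Field F] [Fintype F] [CharP F r] (e : Nonempty (G ≃* chevE6.group F)) : ClosedRow G :=
  e6_of hr hr2 (WFr.wE6 isType_E6 _) F e

theorem e7 (F : Type) [Field F] [Fintype F] [CharP F r] (e : Nonempty (G ≃* chevE7.group F)) : ClosedRow G :=
  e7_of hr hr2 (WFr.wE7 isType_E7 _) F e

theorem e8 (F : Type) [Field F] [Fintype F] [CharP F r] (e : Nonempty (G ≃* chevE8.group F)) : ClosedRow G :=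
  e8_of hr hr2 (WFr.wE8 isType_E8 _) F e

/-- the number `q` is odd -/
theorem odd_q {q k : ℕ} (K : Type) [Field K] [Fintype K] [CharP K r] (hK : Fintype.card K = q ^ k) (hk : k ≠ 0) :
    Odd q := by
  have h1 := odd_card hr hr2 K
  rw [hK] at h1
  exact (Nat.odd_pow_iff hk).1 h1

theorem twD4 (K : Type) [Field K] [Fintype K] [CharP K r] (q : ℕ) (hq : IsPrimePow q)
    (hK : Fintype.card K = q ^ 3) (e : Nonempty (G ≃* twistedD4 K q)) : ClosedRow G :=
  transport e fun hcen => TwD4.row_twD4 K hq hK (odd_q hr hr2 K hK (by norm_num)) hcen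

end Cfsg.Agent.ClosedExc.Rows

end

private theorem dce_7557967a67e8 : _root_.True := by
  try have : _root_.True := by simp only [_root_.Cfsg.Agent.ClosedExc.WFr.subAt.eq_def]
  try have : _root_.True := by simp only [_root_.Cfsg.Agent.ClosedExc.WFr.dot.eq_def]
  try have : _root_.True := by simp only [_root_.Cfsg.Agent.ClosedExc.WFr.comp.eq_1]
  try have : _root_.True := by simp only [_root_.Cfsg.Agent.ClosedExc.WFr.subAt.eq_3]
  try have : _root_.True := by simp only [_root_.Cfsg.Agent.ClosedExc.WFr.dot.eq_3]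
  try have : _root_.True := by simp only [_root_.Cfsg.Agent.ClosedExc.WFr.rootOf.eq_1]
  try have : _root_.True := by simp only [_root_.Cfsg.Agent.ClosedExc.WFr.hperm.eq_def]
  try have : _root_.True := by simp only [_root_.Cfsg.Agent.ClosedExc.WFr.wd.eq_1]
  try have : _root_.True := by simp only [_root_.Cfsg.Agent.ClosedExc.WFr.act.eq_1]
  try have : _root_.True := by simp only [_root_.Cfsg.Agent.ClosedExc.WFr.fw.eq_1]
  try have : _root_.True := by simp only [_root_.Cfsg.Agent.ClosedExc.TwD4.xx.eq_1]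
  try have : _root_.True := by simp only [_root_.Cfsg.Agent.ClosedExc.WFr.isIx.eq_1]
  try have : _root_.True := by simp only [_root_.Cfsg.Agent.ClosedExc.WFr.act.eq_2]
  try have : _root_.True := by simp only [_root_.Cfsg.Agent.ClosedExc.WFr.allProds.eq_2]
  try have : _root_.True := by simp only [_root_.Cfsg.Agent.ClosedExc.WFr.hperm.eq_2]
  try have : _root_.True := by simp only [_root_.Cfsg.Agent.ClosedExc.WFr.hperm.eq_1]
  try have : _root_.True := by simp only [_root_.Cfsg.Agent.OddHalf.LongSL.Chev.phi.congr_simp]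
  try have : _root_.True := by simp only [_root_.Cfsg.Agent.ClosedExc.WFr.orthL.eq_1]
  try have : _root_.True := by simp only [_root_.Cfsg.Agent.ClosedExc.WFr.step.eq_1]
  try have : _root_.True := by simp only [_root_.Cfsg.Agent.ClosedExc.WFr.rw'.eq_1]
  try have : _root_.True := by simp only [_root_.Cfsg.Agent.ClosedExc.WFr.subAt.eq_2]
  try have : _root_.True := by simp only [_root_.Cfsg.Agent.ClosedExc.WFr.dot.eq_2]
  try have : _root_.True := by simp only [_root_.Cfsg.Agent.ClosedExc.WFr.dot.eq_1]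
  try have : _root_.True := by simp only [_root_.Cfsg.Agent.ClosedExc.WFr.subAt.eq_1]
  try have : _root_.True := by simp only [_root_.Cfsg.Agent.ClosedExc.WFr.wd.eq_2]
  try have : _root_.True := by simp only [_root_.Cfsg.Agent.ClosedExc.Frame.orthB.eq_1]
  try have : _root_.True := by simp only [_root_.Cfsg.Agent.ClosedExc.WFr.allProds.eq_1]
  try have : _root_.True := by simp only [_root_.Cfsg.Agent.ClosedExc.WFr.ei.eq_1]
  try have : _root_.True := by simp only [_root_.Cfsg.Agent.ClosedExc.WFr.allProds.eq_def]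
  try have : _root_.True := by simp only [_root_.Cfsg.Agent.ClosedExc.WFr.act.eq_def]
  try have : _root_.True := by simp only [_root_.Cfsg.Agent.ClosedExc.WFr.wd.eq_def]
  exact _root_.True.intro
end
end
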